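import Cfsg.Agent.Helper31.WVLocal
import Mathlib.GroupTheory.Focal

/-!
Control of transfer by a conjugacy functor `W` together with a central functor `V`:
local control in the subgroups `N_G(H)`, `Z(P) ≤ H ≤ P`, implies global control (helper31).
-/

set_option autoImplicit false

namespace Cfsg.Agent.Helper31

open scoped commutatorElement

variable {G : Type*} [Group G]

theorem commutator_self_le (N : Subgroup G) : ⁅N, N⁆ ≤ N :=
  Subgroup.commutator_le.2 fun g₁ h₁ g₂ h₂ =>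
    N.mul_mem (N.mul_mem (N.mul_mem h₁ h₂) (N.inv_mem h₁)) (N.inv_mem h₂)

theorem conj_mem_commutator_self {N : Subgroup G} {z n : G} (hz : z ∈ ⁅N, N⁆) (hn : n ∈ N) :
    n * z * n⁻¹ ∈ ⁅N, N⁆ := by
  have h1 : ⁅n, z⁆ ∈ ⁅N, N⁆ := Subgroup.commutator_mem_commutator hn (commutator_self_le N hz)
  have e : n * z * n⁻¹ = ⁅n, z⁆ * z := by
    rw [commutatorElement_def]
    group
  rw [e]
  exact mul_mem h1 hz

theorem conj_mem_commutator_self' {N : Subgroup G} {z n : G} (hz : z ∈ ⁅N, N⁆) (hn : n ∈ N) :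
    n⁻¹ * z * n ∈ ⁅N, N⁆ := by
  have := conj_mem_commutator_self hz (inv_mem hn)
  rwa [inv_inv] at this

theorem inv_mul_conj_mem_commutator {N : Subgroup G} {s m : G} (hs : s ∈ N) (hm : m ∈ N) :
    s⁻¹ * (m⁻¹ * s * m) ∈ ⁅N, N⁆ := by
  have h1 : ⁅s⁻¹, m⁻¹⁆ ∈ ⁅N, N⁆ := Subgroup.commutator_mem_commutator (inv_mem hs) (inv_mem hm)
  have e : s⁻¹ * (m⁻¹ * s * m) = ⁅s⁻¹, m⁻¹⁆ := by
    rw [commutatorElement_def]
    group
  rw [e]
  exact h1

section Fin

variable [Finite G] {p : ℕ} [Fact p.Prime]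

/-- The focal subgroup theorem for a Sylow `p`-subgroup `S` of a subgroup `M`. -/
theorem focal_in {M S : Subgroup G} (hSM : S ≤ M) (hS : IsPGroup p ↥S)
    (hSi : ¬ p ∣ S.relIndex M) :
    S ⊓ ⁅M, M⁆ ≤ Subgroup.closure
      {z : G | ∃ s ∈ S, ∃ m ∈ M, m⁻¹ * s * m ∈ S ∧ z = s⁻¹ * (m⁻¹ * s * m)} := by
  have hS' : IsPGroup p ↥(S.subgroupOf M) := hS.comap_subtype
  obtain ⟨T, hT⟩ : ∃ T : Sylow p ↥M, (T : Subgroup ↥M) = S.subgroupOf M :=
    ⟨hS'.toSylow hSi, rfl⟩
  have hfoc := Subgroup.commutator_inf_eq_focalSubgroup T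
  intro z hz
  obtain ⟨hzS, hzC⟩ := Subgroup.mem_inf.1 hz
  have hzM : z ∈ M := hSM hzS
  have h1 : (⟨z, hzM⟩ : ↥M) ∈ commutator ↥M ⊓ (T : Subgroup ↥M) := by
    refine Subgroup.mem_inf.2 ⟨?_, ?_⟩
    · rw [← Subgroup.map_subtype_commutator] at hzC
      obtain ⟨w, hw, hwz⟩ := hzC
      have e : w = ⟨z, hzM⟩ := Subtype.ext hwz
      rw [← e]
      exact hw
    · rw [hT]
      exact Subgroup.mem_subgroupOf.2 hzS
  rw [hfoc, Subgroup.focalSubgroup_def] at h1
  have h2 : z ∈ (Subgroup.closure {g : ↥M | g ∈ (T : Subgroup ↥M) ∧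
      ∃ x ∈ (T : Subgroup ↥M), ∃ u : ↥M, g = ⁅x, u⁆}).map M.subtype := ⟨⟨z, hzM⟩, h1, rfl⟩
  rw [MonoidHom.map_closure] at h2
  refine (Subgroup.closure_mono ?_) h2
  rintro _ ⟨g, ⟨hgT, x, hxT, u, rfl⟩, rfl⟩
  rw [hT, Subgroup.mem_subgroupOf] at hgT hxT
  have e0 : ((⁅x, u⁆ : ↥M) : G) = (x : G) * (u : G) * (x : G)⁻¹ * (u : G)⁻¹ := by
    rw [commutatorElement_def]
    simp
  refine ⟨(x : G)⁻¹, inv_mem hxT, (u : G)⁻¹, inv_mem u.2, ?_, ?_⟩
  · have e : ((u : G)⁻¹)⁻¹ * (x : G)⁻¹ * (u : G)⁻¹ = (x : G)⁻¹ * ((⁅x, u⁆ : ↥M) : G) := by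
      rw [e0]
      group
    rw [e]
    exact mul_mem (inv_mem hxT) hgT
  · show ((⁅x, u⁆ : ↥M) : G) = _
    rw [e0]
    group

/-- The target subgroup. -/
def wvT (P : Subgroup G) (N C : Subgroup G) : Subgroup G := (P ⊓ ⁅N, N⁆) ⊔ (P ⊓ ⁅C, C⁆)

/-- The relation "conjugation by `a` on `X` is trivial modulo the target subgroup". -/
def WVTr (P N C : Subgroup G) (X : Set G) (a : G) : Prop :=
  X ⊆ (P : Set G) ∧ cj a X ⊆ (P : Set G) ∧ ∀ x ∈ X, x⁻¹ * (a⁻¹ * x * a) ∈ wvT P N C

theorem wv_transfer_goodRel (P : Sylow p G) (W V : Subgroup G → Subgroup G)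
    (hW : Cfsg.IsConjugacyFunctor p W) (hV : Cfsg.IsConjugacyFunctor p V)
    (hVZ : ∀ H : Subgroup G, IsPGroup p ↥H →
      V H ≤ H ⊓ Subgroup.centralizer ((H : Subgroup G) : Set G))
    (hVmono : ∀ H K : Subgroup G, IsPGroup p ↥H → IsPGroup p ↥K → H ≠ ⊥ → K ≠ ⊥ →
      H ⊓ Subgroup.centralizer ((H : Subgroup G) : Set G) ≤
        K ⊓ Subgroup.centralizer ((K : Subgroup G) : Set G) → V H ≤ V K)
    (hloc : ∀ H : Subgroup G,
      (P : Subgroup G) ⊓ Subgroup.centralizer (((P : Subgroup G) : Subgroup G) : Set G) ≤ H →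
      H ≤ (P : Subgroup G) → ∃ Q : Subgroup G, Q ≤ Subgroup.normalizer ((H : Subgroup G) : Set G) ∧
        IsPGroup p ↥Q ∧ ¬ p ∣ (Q).relIndex (Subgroup.normalizer ((H : Subgroup G) : Set G)) ∧
        ∀ x : G, x ∈ Q ⊓ ⁅Subgroup.normalizer ((H : Subgroup G) : Set G),
            Subgroup.normalizer ((H : Subgroup G) : Set G)⁆ ↔
          ∃ a ∈ Q ⊓ ⁅Subgroup.normalizer ((H : Subgroup G) : Set G) ⊓
                Subgroup.normalizer ((W Q : Subgroup G) : Set G),
              Subgroup.normalizer ((H : Subgroup G) : Set G) ⊓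
                Subgroup.normalizer ((W Q : Subgroup G) : Set G)⁆,
            ∃ b ∈ Q ⊓ ⁅Subgroup.normalizer ((H : Subgroup G) : Set G) ⊓
                  Subgroup.centralizer ((V Q : Subgroup G) : Set G),
                Subgroup.normalizer ((H : Subgroup G) : Set G) ⊓
                  Subgroup.centralizer ((V Q : Subgroup G) : Set G)⁆, x = a * b) :
    GoodRel P W (WVTr (P : Subgroup G)
      (Subgroup.normalizer ((W (P : Subgroup G) : Subgroup G) : Set G))
      (Subgroup.centralizer ((V (P : Subgroup G) : Subgroup G) : Set G))) where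
  mono := by
    rintro X X' a hX ⟨h1, h2, h3⟩
    exact ⟨hX.trans h1, (cj_mono hX).trans h2, fun x hx => h3 x (hX hx)⟩
  comp := by
    rintro X a a' ⟨h1, h2, h3⟩ ⟨h1', h2', h3'⟩
    refine ⟨h1, ?_, ?_⟩
    · rw [cj_mul]
      exact h2'
    · intro x hx
      have hx' : a⁻¹ * x * a ∈ cj a X := ⟨x, hx, rfl⟩
      have e : x⁻¹ * ((a * a')⁻¹ * x * (a * a')) =
          (x⁻¹ * (a⁻¹ * x * a)) * ((a⁻¹ * x * a)⁻¹ * (a'⁻¹ * (a⁻¹ * x * a) * a')) := by group
      rw [e]
      exact mul_mem (h3 x hx) (h3' _ hx')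
  inv := by
    rintro X a ⟨h1, h2, h3⟩
    refine ⟨h2, ?_, ?_⟩
    · rw [cj_inv_cj]
      exact h1
    · rintro _ ⟨x, hx, rfl⟩
      have e : (a⁻¹ * x * a)⁻¹ * (a⁻¹⁻¹ * (a⁻¹ * x * a) * a⁻¹) = (x⁻¹ * (a⁻¹ * x * a))⁻¹ := by
        group
      rw [e]
      exact inv_mem (h3 x hx)
  cent := by
    intro X c hX hc
    refine ⟨hX, ?_, ?_⟩
    · rw [cj_of_mem_centralizer hc]
      exact hX
    · intro x hx
      have h2 : x * c = c * x := Subgroup.mem_centralizer_iff.1 hc _ hx
      have e : x⁻¹ * (c⁻¹ * x * c) = 1 := by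
        have : c⁻¹ * x * c = x := by
          rw [mul_assoc, h2]
          group
        rw [this]
        group
      rw [e]
      exact one_mem _
  norm := by
    intro X b hX hb hN
    refine ⟨hX, hb, ?_⟩
    intro x hx
    have hxP : x ∈ (P : Subgroup G) := hX hx
    have hxN : x ∈ Subgroup.normalizer ((W (P : Subgroup G) : Subgroup G) : Set G) :=
      normalizer_le_normalizer_functor hW P.isPGroup' (Subgroup.le_normalizer hxP)
    apply Subgroup.mem_sup_left
    refine Subgroup.mem_inf.2 ⟨?_, inv_mul_conj_mem_commutator hxN hN⟩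
    exact mul_mem (inv_mem hxP) (hb ⟨x, hx, rfl⟩)
  loc := by
    intro H S hZH hHS hSP hSN hSi prem a haN X hX haX
    have hSP' : (S : Set G) ⊆ ((P : Subgroup G) : Set G) := SetLike.coe_subset_coe.2 hSP
    refine ⟨hX.trans hSP', haX.trans hSP', ?_⟩
    intro x hx
    by_cases hS1 : S = ⊥
    · have hx1 : x ∈ (⊥ : Subgroup G) := hS1 ▸ hX hx
      rw [Subgroup.mem_bot] at hx1
      rw [hx1]
      simp
    have hSp : IsPGroup p ↥S := P.isPGroup'.to_le hSP
    have hP1 : (P : Subgroup G) ≠ ⊥ := fun h => hS1 (le_bot_iff.1 (h ▸ hSP))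
    obtain ⟨Q, hQN, hQp, hQi, hQ⟩ := hloc H hZH (hHS.trans hSP)
    obtain ⟨n₀, hn₀N, hQeq⟩ := exists_conj_of_sylow_in hSN hSp hSi hQN hQp hQi
    -- the element
    have hxS : x ∈ S := hX hx
    have hxaS : a⁻¹ * x * a ∈ S := haX ⟨x, hx, rfl⟩
    have hzS : x⁻¹ * (a⁻¹ * x * a) ∈ S := mul_mem (inv_mem hxS) hxaS
    have hzC : x⁻¹ * (a⁻¹ * x * a) ∈ ⁅Subgroup.normalizer ((H : Subgroup G) : Set G),
        Subgroup.normalizer ((H : Subgroup G) : Set G)⁆ :=
      inv_mul_conj_mem_commutator (hSN hxS) haN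
    have hz₀Q : n₀⁻¹ * (x⁻¹ * (a⁻¹ * x * a)) * n₀ ∈ Q := by
      rw [hQeq, mem_cjg]
      have e : n₀ * (n₀⁻¹ * (x⁻¹ * (a⁻¹ * x * a)) * n₀) * n₀⁻¹ = x⁻¹ * (a⁻¹ * x * a) := by group
      rw [e]
      exact hzS
    have hz₀C := conj_mem_commutator_self' hzC hn₀N
    obtain ⟨a₁, ha₁, b₁, hb₁, hab⟩ := (hQ _).1 (Subgroup.mem_inf.2 ⟨hz₀Q, hz₀C⟩)
    have e0 : x⁻¹ * (a⁻¹ * x * a) = (n₀ * a₁ * n₀⁻¹) * (n₀ * b₁ * n₀⁻¹) := by
      have : x⁻¹ * (a⁻¹ * x * a) = n₀ * (n₀⁻¹ * (x⁻¹ * (a⁻¹ * x * a)) * n₀) * n₀⁻¹ := by group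
      rw [this, hab]
      group
    rw [e0]
    have hWQ : W Q = cjg n₀ (W S) := by
      rw [hQeq]
      exact (hW S hSp).2.2 n₀⁻¹
    have hVQ : V Q = cjg n₀ (V S) := by
      rw [hQeq]
      exact (hV S hSp).2.2 n₀⁻¹
    have hSNW : S ≤ Subgroup.normalizer ((W S : Subgroup G) : Set G) :=
      Subgroup.le_normalizer.trans (normalizer_le_normalizer_functor hW hSp)
    have hSCV : S ≤ Subgroup.centralizer ((V S : Subgroup G) : Set G) := by
      intro s hs
      rw [Subgroup.mem_centralizer_iff]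
      intro v hv
      have hv' := (hVZ S hSp hv).2
      exact (Subgroup.mem_centralizer_iff.1 hv' s hs).symm
    have hPCV : (P : Subgroup G) ≤
        Subgroup.centralizer ((V (P : Subgroup G) : Subgroup G) : Set G) := by
      intro s hs
      rw [Subgroup.mem_centralizer_iff]
      intro v hv
      have hv' := (hVZ _ P.isPGroup' hv).2
      exact (Subgroup.mem_centralizer_iff.1 hv' s hs).symm
    have hVle : V (P : Subgroup G) ≤ V S := by
      apply hVmono _ _ P.isPGroup' hSp hP1 hS1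
      exact le_inf (hZH.trans hHS) (inf_le_right.trans (Subgroup.centralizer_le hSP'))
    apply mul_mem
    · -- the `W`-part
      have hA_S : n₀ * a₁ * n₀⁻¹ ∈ S := by
        have := (Subgroup.mem_inf.1 ha₁).1
        rw [hQeq, mem_cjg] at this
        exact this
      have hmap : (Subgroup.normalizer ((H : Subgroup G) : Set G) ⊓
          Subgroup.normalizer ((W Q : Subgroup G) : Set G)).map (MulAut.conj n₀).toMonoidHom ≤
          Subgroup.normalizer ((H : Subgroup G) : Set G) ⊓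
            Subgroup.normalizer ((W S : Subgroup G) : Set G) := by
        rintro _ ⟨k, hk, rfl⟩
        refine Subgroup.mem_inf.2 ⟨?_, ?_⟩
        · exact mul_mem (mul_mem hn₀N (Subgroup.mem_inf.1 hk).1) (inv_mem hn₀N)
        · have h1 := (Subgroup.mem_inf.1 hk).2
          rw [hWQ, ← cjg_normalizer, mem_cjg] at h1
          exact h1
      have hA_C : n₀ * a₁ * n₀⁻¹ ∈ ⁅Subgroup.normalizer ((H : Subgroup G) : Set G) ⊓
            Subgroup.normalizer ((W S : Subgroup G) : Set G),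
          Subgroup.normalizer ((H : Subgroup G) : Set G) ⊓
            Subgroup.normalizer ((W S : Subgroup G) : Set G)⁆ := by
        have h1 : n₀ * a₁ * n₀⁻¹ ∈ (⁅Subgroup.normalizer ((H : Subgroup G) : Set G) ⊓
            Subgroup.normalizer ((W Q : Subgroup G) : Set G),
          Subgroup.normalizer ((H : Subgroup G) : Set G) ⊓
            Subgroup.normalizer ((W Q : Subgroup G) : Set G)⁆).map (MulAut.conj n₀).toMonoidHom :=
          ⟨a₁, (Subgroup.mem_inf.1 ha₁).2, rfl⟩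
        rw [Subgroup.map_commutator] at h1
        exact Subgroup.commutator_mono hmap hmap h1
      have hSM : S ≤ Subgroup.normalizer ((H : Subgroup G) : Set G) ⊓
          Subgroup.normalizer ((W S : Subgroup G) : Set G) := le_inf hSN hSNW
      have hSiM : ¬ p ∣ S.relIndex (Subgroup.normalizer ((H : Subgroup G) : Set G) ⊓
          Subgroup.normalizer ((W S : Subgroup G) : Set G)) := by
        intro hdvd
        apply hSi
        rw [← Subgroup.relIndex_mul_relIndex S _ _ hSM inf_le_left]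
        exact Dvd.dvd.mul_right hdvd _
      have hfoc := focal_in hSM hSp hSiM (Subgroup.mem_inf.2 ⟨hA_S, hA_C⟩)
      refine (Subgroup.closure_le _).2 ?_ hfoc
      rintro _ ⟨s, hs, m, hm, hsm, rfl⟩
      have h1 := prem m (Subgroup.mem_inf.1 hm).2 {s} (by simpa using hs) (by
        rintro _ ⟨y, hy, rfl⟩
        rw [Set.mem_singleton_iff] at hy
        rw [hy]
        exact hsm)
      exact h1.2.2 s rfl
    · -- the `V`-part
      have hB_S : n₀ * b₁ * n₀⁻¹ ∈ S := by
        have := (Subgroup.mem_inf.1 hb₁).1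
        rw [hQeq, mem_cjg] at this
        exact this
      have hmap : (Subgroup.normalizer ((H : Subgroup G) : Set G) ⊓
          Subgroup.centralizer ((V Q : Subgroup G) : Set G)).map (MulAut.conj n₀).toMonoidHom ≤
          Subgroup.normalizer ((H : Subgroup G) : Set G) ⊓
            Subgroup.centralizer ((V S : Subgroup G) : Set G) := by
        rintro _ ⟨k, hk, rfl⟩
        refine Subgroup.mem_inf.2 ⟨?_, ?_⟩
        · exact mul_mem (mul_mem hn₀N (Subgroup.mem_inf.1 hk).1) (inv_mem hn₀N)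
        · have h1 := (Subgroup.mem_inf.1 hk).2
          rw [hVQ, ← cjg_centralizer, mem_cjg] at h1
          exact h1
      have hB_C : n₀ * b₁ * n₀⁻¹ ∈ ⁅Subgroup.normalizer ((H : Subgroup G) : Set G) ⊓
            Subgroup.centralizer ((V S : Subgroup G) : Set G),
          Subgroup.normalizer ((H : Subgroup G) : Set G) ⊓
            Subgroup.centralizer ((V S : Subgroup G) : Set G)⁆ := by
        have h1 : n₀ * b₁ * n₀⁻¹ ∈ (⁅Subgroup.normalizer ((H : Subgroup G) : Set G) ⊓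
            Subgroup.centralizer ((V Q : Subgroup G) : Set G),
          Subgroup.normalizer ((H : Subgroup G) : Set G) ⊓
            Subgroup.centralizer ((V Q : Subgroup G) : Set G)⁆).map (MulAut.conj n₀).toMonoidHom :=
          ⟨b₁, (Subgroup.mem_inf.1 hb₁).2, rfl⟩
        rw [Subgroup.map_commutator] at h1
        exact Subgroup.commutator_mono hmap hmap h1
      have hSM : S ≤ Subgroup.normalizer ((H : Subgroup G) : Set G) ⊓
          Subgroup.centralizer ((V S : Subgroup G) : Set G) := le_inf hSN hSCV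
      have hSiM : ¬ p ∣ S.relIndex (Subgroup.normalizer ((H : Subgroup G) : Set G) ⊓
          Subgroup.centralizer ((V S : Subgroup G) : Set G)) := by
        intro hdvd
        apply hSi
        rw [← Subgroup.relIndex_mul_relIndex S _ _ hSM inf_le_left]
        exact Dvd.dvd.mul_right hdvd _
      have hfoc := focal_in hSM hSp hSiM (Subgroup.mem_inf.2 ⟨hB_S, hB_C⟩)
      refine (Subgroup.closure_le _).2 ?_ hfoc
      rintro _ ⟨s, hs, m, hm, hsm, rfl⟩
      apply Subgroup.mem_sup_right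
      refine Subgroup.mem_inf.2 ⟨hSP (mul_mem (inv_mem hs) hsm), ?_⟩
      apply inv_mul_conj_mem_commutator (hPCV (hSP hs))
      exact Subgroup.centralizer_le (SetLike.coe_subset_coe.2 hVle) (Subgroup.mem_inf.1 hm).2

/-- **Global control of transfer** by `W` with `V`. -/
theorem wv_transfer (P : Sylow p G) (W V : Subgroup G → Subgroup G)
    (hW : Cfsg.IsConjugacyFunctor p W) (hV : Cfsg.IsConjugacyFunctor p V)
    (hWZ : ∀ H : Subgroup G, IsPGroup p ↥H →
      H ⊓ Subgroup.centralizer ((H : Subgroup G) : Set G) ≤ W H)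
    (hVZ : ∀ H : Subgroup G, IsPGroup p ↥H →
      V H ≤ H ⊓ Subgroup.centralizer ((H : Subgroup G) : Set G))
    (hVmono : ∀ H K : Subgroup G, IsPGroup p ↥H → IsPGroup p ↥K → H ≠ ⊥ → K ≠ ⊥ →
      H ⊓ Subgroup.centralizer ((H : Subgroup G) : Set G) ≤
        K ⊓ Subgroup.centralizer ((K : Subgroup G) : Set G) → V H ≤ V K)
    (hloc : ∀ H : Subgroup G,
      (P : Subgroup G) ⊓ Subgroup.centralizer (((P : Subgroup G) : Subgroup G) : Set G) ≤ H →
      H ≤ (P : Subgroup G) → ∃ Q : Subgroup G, Q ≤ Subgroup.normalizer ((H : Subgroup G) : Set G) ∧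
        IsPGroup p ↥Q ∧ ¬ p ∣ (Q).relIndex (Subgroup.normalizer ((H : Subgroup G) : Set G)) ∧
        ∀ x : G, x ∈ Q ⊓ ⁅Subgroup.normalizer ((H : Subgroup G) : Set G),
            Subgroup.normalizer ((H : Subgroup G) : Set G)⁆ ↔
          ∃ a ∈ Q ⊓ ⁅Subgroup.normalizer ((H : Subgroup G) : Set G) ⊓
                Subgroup.normalizer ((W Q : Subgroup G) : Set G),
              Subgroup.normalizer ((H : Subgroup G) : Set G) ⊓
                Subgroup.normalizer ((W Q : Subgroup G) : Set G)⁆,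
            ∃ b ∈ Q ⊓ ⁅Subgroup.normalizer ((H : Subgroup G) : Set G) ⊓
                  Subgroup.centralizer ((V Q : Subgroup G) : Set G),
                Subgroup.normalizer ((H : Subgroup G) : Set G) ⊓
                  Subgroup.centralizer ((V Q : Subgroup G) : Set G)⁆, x = a * b)
    (x : G) :
    x ∈ (P : Subgroup G) ⊓ commutator G ↔
      ∃ a ∈ (P : Subgroup G) ⊓ ⁅Subgroup.normalizer ((W (P : Subgroup G) : Subgroup G) : Set G),
          Subgroup.normalizer ((W (P : Subgroup G) : Subgroup G) : Set G)⁆,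
        ∃ b ∈ (P : Subgroup G) ⊓ ⁅Subgroup.centralizer ((V (P : Subgroup G) : Subgroup G) : Set G),
            Subgroup.centralizer ((V (P : Subgroup G) : Subgroup G) : Set G)⁆, x = a * b := by
  constructor
  · intro hx
    obtain ⟨hxP, hxC⟩ := Subgroup.mem_inf.1 hx
    have hidx : ¬ p ∣ (P : Subgroup G).relIndex ⊤ := by
      rw [Subgroup.relIndex_top_right]
      exact P.not_dvd_index
    have hxC' : x ∈ ⁅(⊤ : Subgroup G), (⊤ : Subgroup G)⁆ := by
      rw [← commutator_def]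
      exact hxC
    have hfoc := focal_in (le_top : (P : Subgroup G) ≤ ⊤) P.isPGroup' hidx
      (Subgroup.mem_inf.2 ⟨hxP, hxC'⟩)
    have hgood := wv_local_global P W (wv_transfer_goodRel P W V hW hV hVZ hVmono hloc) hW hWZ
    have hT : x ∈ wvT (P : Subgroup G)
        (Subgroup.normalizer ((W (P : Subgroup G) : Subgroup G) : Set G))
        (Subgroup.centralizer ((V (P : Subgroup G) : Subgroup G) : Set G)) := by
      refine (Subgroup.closure_le _).2 ?_ hfoc
      rintro _ ⟨s, hs, m, -, hsm, rfl⟩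
      have h1 := hgood {s} (Set.singleton_subset_iff.2 hs) m (by
        rintro _ ⟨y, hy, rfl⟩
        rw [Set.mem_singleton_iff] at hy
        rw [hy]
        exact hsm)
      exact h1.2.2 s rfl
    -- the join is a product
    have hnorm : (P : Subgroup G) ⊓
        ⁅Subgroup.centralizer ((V (P : Subgroup G) : Subgroup G) : Set G),
          Subgroup.centralizer ((V (P : Subgroup G) : Subgroup G) : Set G)⁆ ≤
        Subgroup.normalizer ((((P : Subgroup G) ⊓
          ⁅Subgroup.normalizer ((W (P : Subgroup G) : Subgroup G) : Set G),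
            Subgroup.normalizer ((W (P : Subgroup G) : Subgroup G) : Set G)⁆ : Subgroup G)) : Set G) := by
      intro g hg
      have hgP : g ∈ (P : Subgroup G) := (Subgroup.mem_inf.1 hg).1
      have hgN : g ∈ Subgroup.normalizer ((W (P : Subgroup G) : Subgroup G) : Set G) :=
        normalizer_le_normalizer_functor hW P.isPGroup' (Subgroup.le_normalizer hgP)
      rw [Subgroup.mem_normalizer_iff]
      intro h
      constructor
      · intro hh
        exact Subgroup.mem_inf.2 ⟨mul_mem (mul_mem hgP (Subgroup.mem_inf.1 hh).1) (inv_mem hgP),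
          conj_mem_commutator_self (Subgroup.mem_inf.1 hh).2 hgN⟩
      · intro hh
        have h1 := Subgroup.mem_inf.2 ⟨mul_mem (mul_mem (inv_mem hgP) (Subgroup.mem_inf.1 hh).1) hgP,
          conj_mem_commutator_self' (Subgroup.mem_inf.1 hh).2 hgN⟩
        have e : g⁻¹ * (g * h * g⁻¹) * g = h := by group
        rw [e] at h1
        exact h1
    have hcoe := Subgroup.coe_mul_of_right_le_normalizer_left _ _ hnorm
    have hx' : x ∈ ((((P : Subgroup G) ⊓
          ⁅Subgroup.normalizer ((W (P : Subgroup G) : Subgroup G) : Set G),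
            Subgroup.normalizer ((W (P : Subgroup G) : Subgroup G) : Set G)⁆) ⊔
        ((P : Subgroup G) ⊓
        ⁅Subgroup.centralizer ((V (P : Subgroup G) : Subgroup G) : Set G),
          Subgroup.centralizer ((V (P : Subgroup G) : Subgroup G) : Set G)⁆) : Subgroup G) : Set G) := hT
    rw [hcoe] at hx'
    obtain ⟨a, ha, b, hb, hab⟩ := Set.mem_mul.1 hx'
    exact ⟨a, ha, b, hb, hab.symm⟩
  · rintro ⟨a, ha, b, hb, rfl⟩
    refine Subgroup.mem_inf.2 ⟨mul_mem (Subgroup.mem_inf.1 ha).1 (Subgroup.mem_inf.1 hb).1, ?_⟩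
    rw [commutator_def]
    exact mul_mem (Subgroup.commutator_mono le_top le_top (Subgroup.mem_inf.1 ha).2)
      (Subgroup.commutator_mono le_top le_top (Subgroup.mem_inf.1 hb).2)

end Fin

end Cfsg.Agent.Helper31
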