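import Cfsg.Agent.Helper62.BG12c
import Cfsg.Agent.Helper23.Uniq3
import Cfsg.Agent.Helper10.Thompson

/-!
# PIECES Q3 and Q5 of CALL S1423 (helper62, B&G 12.13)
-/

set_option autoImplicit false

namespace Cfsg.Agent.Helper31

open Cfsg Subgroup Cfsg.Agent.Helper22 Cfsg.Agent.Helper23 Cfsg.Agent.Helper35 Cfsg.Agent.Helper62.BG12

universe u

variable {G : Type u} [Group G] [Finite G]

/-- (Q3) rank >= 3 passes to `C_T(W)`. -/
theorem q3_not_pRankLE_inf_centralizer {p : ℕ} [Fact p.Prime] {T W : Subgroup G}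
    (hT : IsPGroup p T) (hWT : W ≤ T) (hWc : IsMulCommutative ↥W) (hWe : ∀ x ∈ W, x ^ p = 1)
    (hidx : ∀ B : Subgroup G, B ≤ T →
      Nat.card B ≤ p * Nat.card (B ⊓ centralizer (W : Set G) : Subgroup G))
    (hr : ¬ PRankLE p 2 ↥T) :
    ¬ PRankLE p 2 ↥(T ⊓ centralizer (W : Set G) : Subgroup G) := by
  intro hr'
  have hp : p.Prime := Fact.out
  obtain ⟨B, hBT, hBc, hBe, hBcard⟩ := exists_elemAb_of_not_pRankLE hr
  have hBcomm : ∀ x ∈ B, ∀ y ∈ B, x * y = y * x :=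
    ((Helper10.elemAb_iff p B).mp ⟨hBc, hBe⟩).1
  have hWcomm : ∀ x ∈ W, ∀ y ∈ W, x * y = y * x :=
    ((Helper10.elemAb_iff p W).mp ⟨hWc, hWe⟩).1
  have hWcent : W ≤ centralizer (W : Set G) := by
    intro w hw
    rw [Subgroup.mem_centralizer_iff]
    intro y hy
    exact hWcomm y hy w hw
  -- `B₀ = B ⊓ C(W)` is elementary abelian of order at least `p ^ 2`
  have hB₀T : B ⊓ centralizer (W : Set G) ≤ T := inf_le_left.trans hBT
  have hB₀EA : Cfsg.IsElementaryAbelian p (B ⊓ centralizer (W : Set G) : Subgroup G) := by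
    rw [Helper10.elemAb_iff]
    exact ⟨fun a ha b hb => hBcomm a ha.1 b hb.1, fun a ha => hBe a ha.1⟩
  have hWEA : Cfsg.IsElementaryAbelian p W := ⟨hWc, hWe⟩
  have hDEA := Helper10.elemAb_sup hB₀EA hWEA (by
    intro a ha b hb
    exact ((Subgroup.mem_centralizer_iff.mp ha.2) b hb).symm)
  rw [Helper10.elemAb_iff] at hDEA
  have hDle : (B ⊓ centralizer (W : Set G)) ⊔ W ≤ T ⊓ centralizer (W : Set G) :=
    sup_le (le_inf hB₀T inf_le_right) (le_inf hWT hWcent)
  have hDcard : Nat.card ((B ⊓ centralizer (W : Set G)) ⊔ W : Subgroup G) ≤ p ^ 2 :=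
    pRank_internal hr' _ hDle hDEA.1 hDEA.2
  have hB₀card : p ^ 2 ≤ Nat.card (B ⊓ centralizer (W : Set G) : Subgroup G) := by
    obtain ⟨j, hj⟩ := (hT.to_le hB₀T).exists_card_eq
    have h1 := hidx B hBT
    rw [hj] at h1 ⊢
    have h2 : p ^ 2 < p * p ^ j := lt_of_lt_of_le hBcard h1
    have h3 : p ^ 2 < p ^ (j + 1) := by rw [pow_succ p j, mul_comm (p ^ j) p]; exact h2
    have h4 : 2 < j + 1 := (Nat.pow_lt_pow_iff_right hp.one_lt).mp h3
    exact Nat.pow_le_pow_right hp.pos (by omega)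
  have hDeq : (B ⊓ centralizer (W : Set G) : Subgroup G) = (B ⊓ centralizer (W : Set G)) ⊔ W :=
    Subgroup.eq_of_le_of_card_ge le_sup_left (hDcard.trans hB₀card)
  have hWB : W ≤ B := by
    have h1 : W ≤ (B ⊓ centralizer (W : Set G)) ⊔ W := le_sup_right
    rw [← hDeq] at h1
    exact h1.trans inf_le_left
  have hBC : B ≤ T ⊓ centralizer (W : Set G) := by
    refine le_inf hBT ?_
    intro b hb
    rw [Subgroup.mem_centralizer_iff]
    intro w hw
    exact hBcomm w (hWB hw) b hb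
  have := pRank_internal hr' B hBC hBcomm hBe
  omega

/-- (Q5) `X ⊔ W` is elementary abelian of order `p ^ 3`. -/
theorem q5_not_pRankLE_sup {p : ℕ} [Fact p.Prime] {X W : Subgroup G} (hX : Nat.card X = p)
    (hWc : IsMulCommutative ↥W) (hWe : ∀ x ∈ W, x ^ p = 1) (hW : Nat.card W = p ^ 2)
    (hXW : X ≤ centralizer (W : Set G)) (hne : ¬ X ≤ W) :
    ¬ PRankLE p 2 ↥(X ⊔ W : Subgroup G) ∧ X ⊔ W ≤ centralizer (X : Set G) := by
  have hp : p.Prime := Fact.out
  obtain ⟨x, hxX, hxW⟩ := SetLike.not_le_iff_exists.mp hne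
  have hx1 : x ≠ 1 := by
    rintro rfl
    exact hxW W.one_mem
  have hXz : zpowers x = X := zpowers_eq_of_card_prime hp hX hxX hx1
  have hxp : x ^ p = 1 := by
    have h := pow_card_eq_one' (G := ↥X) (x := ⟨x, hxX⟩)
    rw [hX] at h
    have := congrArg Subtype.val h
    simpa using this
  have hWcomm : ∀ a ∈ W, ∀ b ∈ W, a * b = b * a :=
    ((Helper10.elemAb_iff p W).mp ⟨hWc, hWe⟩).1
  obtain ⟨hc, he⟩ := sup_zpowers_comm_exp hWcomm hWe (hXW hxX) hxp
  have hsup : X ⊔ W = W ⊔ zpowers x := by rw [hXz, sup_comm]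
  rw [hsup]
  refine ⟨?_, ?_⟩
  · intro hr
    have h1 := pRank_internal hr (W ⊔ zpowers x) le_rfl hc he
    have h2 : W = W ⊔ zpowers x :=
      Subgroup.eq_of_le_of_card_ge le_sup_left (by rw [hW]; exact h1)
    apply hxW
    rw [h2]
    exact (le_sup_right : zpowers x ≤ W ⊔ zpowers x) (Subgroup.mem_zpowers x)
  · intro a ha
    rw [Subgroup.mem_centralizer_iff]
    intro y hy
    have hy' : y ∈ W ⊔ zpowers x := by
      rw [← hXz] at hy
      exact (le_sup_right : zpowers x ≤ W ⊔ zpowers x) hy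
    exact hc y hy' a ha

end Cfsg.Agent.Helper31
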