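/-
helper31: CALL S1378 (helper1, B&G Theorem 13.9), piece B6:
a complement `E` of `M_σ` in `M` can be chosen inside `N_G(S)` (Frattini argument).
-/
import Cfsg.Agent.Helper1.BG139Defs
import Cfsg.Agent.S1403
import Cfsg.Agent.Helper20.BG13P4
import Cfsg.Agent.Helper49.BG1216
import Cfsg.Agent.Helper23.FittingHall
import Cfsg.Prelude.Def_OddOrder

set_option autoImplicit false

namespace Cfsg.Agent.Helper31

open Cfsg Subgroup Cfsg.Agent.Helper1

universe u

variable {G : Type u} [Group G] [Finite G]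

omit [Finite G] in
/-- A conjugate (by an element of `M`) of a complement of a normal subgroup `W` of `M` is again a
complement of `W` in `M`. -/
theorem bg139_isComplIn_conj {M W E₀ : Subgroup G} (hE₀ : IsComplIn E₀ W M)
    (hMW : M ≤ normalizer (W : Set G)) {l : G} (hl : l ∈ M) :
    IsComplIn (E₀.map (MulAut.conj l).toMonoidHom) W M := by
  obtain ⟨hEM, hWM, hinf, hprod⟩ := hE₀
  have hconjW : ∀ g ∈ M, ∀ w, w ∈ W ↔ g * w * g⁻¹ ∈ W := by
    intro g hg w
    have := hMW hg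
    rw [Subgroup.mem_normalizer_iff] at this
    exact this w
  refine ⟨?_, hWM, ?_, ?_⟩
  · rintro x ⟨a, ha, rfl⟩
    simp only [MulEquiv.coe_toMonoidHom, MulAut.conj_apply]
    exact M.mul_mem (M.mul_mem hl (hEM ha)) (M.inv_mem hl)
  · rw [eq_bot_iff]
    rintro x ⟨⟨a, ha, rfl⟩, hxW⟩
    simp only [MulEquiv.coe_toMonoidHom, MulAut.conj_apply] at hxW ⊢
    have haW : a ∈ W := (hconjW l hl a).2 hxW
    have ha1 : a ∈ E₀ ⊓ W := ⟨ha, haW⟩
    rw [hinf, Subgroup.mem_bot] at ha1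
    rw [Subgroup.mem_bot, ha1]
    group
  · intro m hm
    have hm' : l⁻¹ * m * l ∈ M := M.mul_mem (M.mul_mem (M.inv_mem hl) hm) hl
    obtain ⟨a, ha, b, hb, hab⟩ := hprod _ hm'
    refine ⟨l * a * l⁻¹, ⟨a, ha, by simp⟩, l * b * l⁻¹, (hconjW l hl b).1 hb, ?_⟩
    have : m = l * (l⁻¹ * m * l) * l⁻¹ := by group
    rw [this, hab]
    group

/-- PIECE `B6`. -/
theorem bg139_exists_compl (hG : IsMinSimpleOddOrder G) {M Ms S : Subgroup G} {s : ℕ}
    (c : BG139Cfg M Ms S s) :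
    ∃ E : Subgroup G, IsComplIn E (sigmaCore M) M ∧ E ≤ normalizer (S : Set G) := by
  classical
  have hU : Cfsg.Agent.Helper22.BGUniq G :=
    fun K hK h1 h2 => Cfsg.Agent.S1403.result hG K hK h1 h2
  have hM := c.hM
  have : Fact s.Prime := ⟨c.hs⟩
  have hMsolv : Group.IsSolvable M := Cfsg.Agent.Helper23.uq_isSolvable hG hM.1
  obtain ⟨hhall, -, -⟩ := Cfsg.Agent.Helper22.bg10_sigma_hall hG hU hM
  have hWM : sigmaCore M ≤ M := hhall.1
  have hMW : M ≤ normalizer (sigmaCore M : Set G) :=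
    Cfsg.Agent.Helper23.le_normalizer_piCoreOf (sigma M) M
  have hSM : S ≤ M := fun x hx => (c.hN (le_normalizer hx)).1
  have hSW : S ≤ sigmaCore M :=
    Cfsg.Agent.Helper22.bg12_le_sigmaCore hG hU hM c.hs c.hsM hSM c.hSp
  obtain ⟨E₀, hE₀, -⟩ := Cfsg.Agent.Helper20.bg13_exists_compl_ge hG hU hM (K := ⊥) bot_le
    (by rw [Subgroup.card_bot]; exact Nat.coprime_one_left _)
  -- `S` is a Sylow `s`-subgroup of `G`
  have hSidx : ¬ s ∣ S.index := by
    obtain ⟨P, hP⟩ := c.hSp.exists_le_sylow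
    have hPS : (P : Subgroup G) = S := c.hSmax P P.isPGroup' hP
    rw [← hPS]
    exact P.not_dvd_index
  have hq : ¬ s ∣ S.relIndex (sigmaCore M) := fun h =>
    hSidx (h.trans (Dvd.intro _ (Subgroup.relIndex_mul_index hSW)))
  -- `|E₀|` is a `σ(M)'`-number, `|M_σ|` a `σ(M)`-number
  have hcardM := Cfsg.Agent.Helper23.card_of_isComplIn E₀ (sigmaCore M) M hE₀
  have hrelM : (sigmaCore M).relIndex M = Nat.card E₀ := by
    have h1 := Cfsg.Agent.Helper35.card_mul_relIndex_of_le hWM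
    rw [hcardM, mul_comm] at h1
    exact Nat.eq_of_mul_eq_mul_right Nat.card_pos h1
  have hcop : (Nat.card E₀).Coprime (S.relIndex (sigmaCore M)) := by
    apply Nat.coprime_of_dvd
    intro p hp hpE hpr
    have hpW : p ∣ Nat.card (sigmaCore M) :=
      hpr.trans (Dvd.intro_left _ (Cfsg.Agent.Helper35.card_mul_relIndex_of_le hSW))
    have hpσ : p ∈ sigma M := hhall.2.1 p hp hpW
    exact hhall.2.2 p hp hpσ (hrelM ▸ hpE)
  obtain ⟨l, hl, hlE⟩ := Cfsg.Agent.Helper49.bg1216_conj_into_normalizer (q := s) hMsolv hWM hMW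
    c.hSp hSW hq hE₀.1 hcop
  refine ⟨E₀.map (MulAut.conj l).toMonoidHom, bg139_isComplIn_conj hE₀ hMW hl, ?_⟩
  rintro x ⟨a, ha, rfl⟩
  simp only [MulEquiv.coe_toMonoidHom, MulAut.conj_apply]
  exact hlE a ha

end Cfsg.Agent.Helper31
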