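/-
helper31: CALL S1378 (helper1, B&G Theorem 13.9), piece B7:
in the configuration of 13.9, `τ₂(M) = ∅` (an `E_{q^2}` of `M` has a conjugate in `N_G(S) ≤ Ms`,
and then B&G 12.5(e) gives `M_σ ∩ Ms = 1`, but `S ≤ M_σ ∩ Ms`).
-/
import Cfsg.Agent.Helper1.BG139Defs
import Cfsg.Agent.S1403
import Cfsg.Agent.S1417
import Cfsg.Agent.Helper49.BG1216
import Cfsg.Agent.Helper72.BG12Cor
import Cfsg.Prelude.Def_OddOrder

set_option autoImplicit false

namespace Cfsg.Agent.Helper31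

open Cfsg Subgroup Cfsg.Agent.Helper1

universe u

variable {G : Type u} [Group G] [Finite G]

/-- PIECE `B7`. -/
theorem bg139_tau2_empty (hG : IsMinSimpleOddOrder G) {M Ms S : Subgroup G} {s : ℕ}
    (c : BG139Cfg M Ms S s) {E : Subgroup G} (hE : IsComplIn E (sigmaCore M) M)
    (hEN : E ≤ normalizer (S : Set G)) (q : ℕ) : q ∉ tau2 M := by
  classical
  intro hq
  have hU : Cfsg.Agent.Helper22.BGUniq G :=
    fun K hK h1 h2 => Cfsg.Agent.S1403.result hG K hK h1 h2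
  have hM := c.hM
  have hqp : q.Prime := hq.1
  have hqF : Fact q.Prime := ⟨hqp⟩
  have hsF : Fact s.Prime := ⟨c.hs⟩
  have hMsolv : Group.IsSolvable M := Cfsg.Agent.Helper23.uq_isSolvable hG hM.1
  obtain ⟨hhall, -, -⟩ := Cfsg.Agent.Helper22.bg10_sigma_hall hG hU hM
  have hWM : sigmaCore M ≤ M := hhall.1
  have hMW : M ≤ normalizer (sigmaCore M : Set G) :=
    Cfsg.Agent.Helper23.le_normalizer_piCoreOf (sigma M) M
  have hSM : S ≤ M := fun x hx => (c.hN (le_normalizer hx)).1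
  have hSMs : S ≤ Ms := fun x hx => (c.hN (le_normalizer hx)).2
  have hSW : S ≤ sigmaCore M :=
    Cfsg.Agent.Helper22.bg12_le_sigmaCore hG hU hM c.hs c.hsM hSM c.hSp
  have hSidx : ¬ s ∣ S.index := by
    obtain ⟨P, hP⟩ := c.hSp.exists_le_sylow
    have hPS : (P : Subgroup G) = S := c.hSmax P P.isPGroup' hP
    rw [← hPS]
    exact P.not_dvd_index
  have hq' : ¬ s ∣ S.relIndex (sigmaCore M) := fun h =>
    hSidx (h.trans (Dvd.intro _ (Subgroup.relIndex_mul_index hSW)))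
  obtain ⟨A, hAM, hA, hAcard⟩ := Cfsg.Agent.Helper72.b12c_exists_elemAb hq
  have hcop : (Nat.card A).Coprime (S.relIndex (sigmaCore M)) := by
    rw [hAcard]
    apply Nat.Coprime.pow_left
    rw [Nat.Prime.coprime_iff_not_dvd hqp]
    intro hd
    have hpW : q ∣ Nat.card (sigmaCore M) :=
      hd.trans (Dvd.intro_left _ (Cfsg.Agent.Helper35.card_mul_relIndex_of_le hSW))
    exact hq.2.1 (hhall.2.1 q hqp hpW)
  obtain ⟨l, hl, hlA⟩ := Cfsg.Agent.Helper49.bg1216_conj_into_normalizer (q := s) hMsolv hWM hMW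
    c.hSp hSW hq' hAM hcop
  have hA'N : A.map (MulAut.conj l).toMonoidHom ≤ normalizer (S : Set G) := by
    rintro x ⟨a, ha, rfl⟩
    simp only [MulEquiv.coe_toMonoidHom, MulAut.conj_apply]
    exact hlA a ha
  have hA'M : A.map (MulAut.conj l).toMonoidHom ≤ M := fun x hx => (c.hN (hA'N hx)).1
  have hA'Ms : A.map (MulAut.conj l).toMonoidHom ≤ Ms := fun x hx => (c.hN (hA'N hx)).2
  have hA'e : IsElementaryAbelian q (A.map (MulAut.conj l).toMonoidHom) := by
    obtain ⟨h1, h2⟩ := hA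
    refine ⟨inferInstance, ?_⟩
    rintro _ ⟨a, ha, rfl⟩
    rw [← map_pow, h2 a ha, map_one]
  have hA'c : Nat.card (A.map (MulAut.conj l).toMonoidHom) = q ^ 2 := by
    rw [Subgroup.card_map_of_injective (MulAut.conj l).injective, hAcard]
  have hMsne : Ms ≠ M := by
    intro h
    apply c.hnc 1
    rw [h]
    ext x
    simp
  have h17 := (Cfsg.Agent.S1417.result hG M hM q hq (A.map (MulAut.conj l).toMonoidHom)
    ⟨hA'M, hA'e, hA'c⟩).2.2.2.2.1 Ms c.hMs hMsne hA'Ms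
  apply c.hS1
  rw [eq_bot_iff, ← h17]
  exact le_inf hSW hSMs

end Cfsg.Agent.Helper31
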