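/-
helper31: CALL S1378 (helper1, B&G Theorem 13.9), piece HALL:
a complement `E` of `M_σ` in a maximal subgroup `M` is solvable, hence has Hall `π`-subgroups.
-/
import Cfsg.Agent.Helper1.BG139Defs
import Cfsg.Agent.Helper35.HallCoprime
import Cfsg.Agent.Helper23.Uniq
import Cfsg.Prelude.Def_OddOrder

set_option autoImplicit false

namespace Cfsg.Agent.Helper31

open Cfsg Subgroup Cfsg.Agent.Helper1

universe u

variable {G : Type u} [Group G] [Finite G]

/-- PIECE `HALL`. -/
theorem bg139_exists_hall (hG : IsMinSimpleOddOrder G) {M E : Subgroup G} (hM : IsCoatom M)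
    (hE : IsComplIn E (sigmaCore M) M) (π : Set ℕ) : ∃ K : Subgroup G, IsPiHallOf π K E := by
  classical
  have hEM : E ≤ M := hE.1
  have hEtop : E ≠ ⊤ := fun h => hM.1 (top_le_iff.1 (h ▸ hEM))
  have : Group.IsSolvable E := Cfsg.Agent.Helper23.uq_isSolvable hG hEtop
  obtain ⟨m, n, hmn, hcop, hm, hn⟩ :=
    Cfsg.Agent.Helper35.exists_pi_factorization π (Nat.card E) Nat.card_pos.ne'
  obtain ⟨H, hH⟩ := Cfsg.Agent.Helper1.hall_exists_aux (Nat.card E) E m n rfl hmn hcop
  refine ⟨H.map E.subtype, ?_⟩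
  rw [Cfsg.Agent.Helper35.isPiHallOf_iff_card hmn hm hn]
  refine ⟨Subgroup.map_subtype_le H, ?_⟩
  rw [← hH]
  exact Nat.card_congr (Subgroup.equivMapOfInjective H E.subtype E.subtype_injective).symm.toEquiv

end Cfsg.Agent.Helper31
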