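import Cfsg.Agent.Helper1.BGZMain
import Cfsg.Agent.Helper24.BG14B1
import Cfsg.Agent.Helper41.BG13P1
import Cfsg.Agent.Helper22.BG10b
import Cfsg.Agent.S1403

/-!
# CALL BGC (helper25), piece HN
-/

set_option autoImplicit false
set_option linter.unusedSectionVars false

namespace Cfsg.Agent.Helper31

open Cfsg Subgroup

universe u

variable {G : Type u} [Group G] [Finite G]

/-- HN. `M_σ` is a normal Hall subgroup of `M`: it contains every element of `M` whose order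
divides `|M_σ|`. -/
theorem bgc_mem_sigmaCore_of_order (hG : IsMinSimpleOddOrder G) {M : Subgroup G} (hM : IsCoatom M)
    {b : G} (hb : b ∈ M) (hbo : orderOf b ∣ Nat.card ↥(sigmaCore M)) : b ∈ sigmaCore M := by
  classical
  have hU : Cfsg.Agent.Helper22.BGUniq G :=
    fun K hK h1 h2 => Cfsg.Agent.S1403.result hG K hK h1 h2
  obtain ⟨⟨hle, hpi, hidx⟩, -, -⟩ := Cfsg.Agent.Helper22.bg10_sigma_hall hG hU hM
  have hrel : (sigmaCore M).relIndex M = (piCore (sigma M) ↥M).index := by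
    rw [Subgroup.relIndex]
    congr 1
    exact Subgroup.comap_map_eq_self_of_injective M.subtype_injective (piCore (sigma M) ↥M)
  suffices hb' : (⟨b, hb⟩ : ↥M) ∈ piCore (sigma M) ↥M from ⟨⟨b, hb⟩, hb', rfl⟩
  rw [← QuotientGroup.eq_one_iff, ← orderOf_eq_one_iff]
  by_contra hne
  obtain ⟨q, hq, hqd⟩ := Nat.exists_prime_and_dvd hne
  have h1 : orderOf ((⟨b, hb⟩ : ↥M) : ↥M ⧸ piCore (sigma M) ↥M) ∣ orderOf (⟨b, hb⟩ : ↥M) :=
    orderOf_map_dvd (QuotientGroup.mk' (piCore (sigma M) ↥M)) ⟨b, hb⟩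
  have h2 : orderOf (⟨b, hb⟩ : ↥M) = orderOf b := Subgroup.orderOf_mk b hb
  have h3 : orderOf ((⟨b, hb⟩ : ↥M) : ↥M ⧸ piCore (sigma M) ↥M)
      ∣ Nat.card (↥M ⧸ piCore (sigma M) ↥M) := orderOf_dvd_natCard _
  have hqσ : q ∈ sigma M := hpi q hq (hqd.trans (h1.trans (h2 ▸ hbo)))
  apply hidx q hq hqσ
  rw [hrel, Subgroup.index_eq_card]
  exact hqd.trans h3

end Cfsg.Agent.Helper31
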