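import Cfsg.Agent.Helper1.BG139C3
import Cfsg.Agent.Helper23.BG1210c
import Cfsg.Agent.Helper23.ExtLayer
import Cfsg.Agent.Helper23.Uniq
import Cfsg.Agent.Helper24.BG13A1
import Cfsg.Agent.Helper35.CoprimeSylow
import Cfsg.Agent.Helper47.Syl
import Cfsg.Agent.S1414
import Cfsg.Agent.S1417
import Cfsg.Agent.S1418
import Cfsg.Agent.S1420
import Cfsg.Agent.S1423
import Cfsg.Agent.S1426
import Cfsg.Agent.S1428
import Cfsg.Agent.Helper20.BG13P4

set_option autoImplicit false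

/-! helper31: CALL LZ (helper1), piece CS (`bgz_compl_sylow`). -/

namespace Cfsg.Agent.Helper31

open Cfsg Subgroup
open scoped Pointwise

universe u

variable {G : Type u} [Group G] [Finite G]

/-- CS (Z7d). -/
theorem bgz_compl_sylow (hG : IsMinSimpleOddOrder G) {Ms P X : Subgroup G} {p s : ℕ}
    (hMs : IsCoatom Ms) (hs : s.Prime) (hp : p ∈ tau1 Ms) (hPMs : P ≤ Ms) (hP : Nat.card P = p)
    (hX : IsPGroup s X) (hXs : X ≤ sigmaCore Ms ⊓ centralizer (P : Set G)) :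
    ∃ (Es S₁ : Subgroup G) (c : G), IsComplIn Es (sigmaCore Ms) Ms ∧ P ≤ Es ∧ S₁ ≤ sigmaCore Ms ∧
      IsPGroup s S₁ ∧ Es ≤ normalizer (S₁ : Set G) ∧
      c ∈ sigmaCore Ms ⊓ centralizer (P : Set G) ∧
      X.map (MulAut.conj c).toMonoidHom ≤ S₁ := by
  classical
  have hU : Cfsg.Agent.Helper22.BGUniq G :=
    fun K hK h1 h2 => Cfsg.Agent.S1403.result hG K hK h1 h2
  have : Fact s.Prime := ⟨hs⟩
  obtain ⟨hp_prime, hpσ, -, -, -⟩ := hp
  obtain ⟨⟨hSM, hS1, -⟩, -, -⟩ := Cfsg.Agent.Helper22.bg10_sigma_hall hG hU hMs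
  have hcopP : (Nat.card P).Coprime (Nat.card (sigmaCore Ms)) := by
    rw [hP]
    exact (Nat.Prime.coprime_iff_not_dvd hp_prime).2 (fun h => hpσ (hS1 p hp_prime h))
  obtain ⟨Es, hEs, hPEs⟩ := Cfsg.Agent.Helper20.bg13_exists_compl_ge hG hU hMs hPMs hcopP
  have hcopE : (Nat.card Es).Coprime (Nat.card (sigmaCore Ms)) := by
    apply Nat.coprime_of_dvd
    intro q hq hqE hqS
    exact Cfsg.Agent.Helper22.bg12_not_sigma_of_dvd hG hU hMs hEs hq hqE (hS1 q hq hqS)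
  have hnormS : Ms ≤ normalizer (sigmaCore Ms : Set G) :=
    Cfsg.Agent.Helper23.le_normalizer_piCoreOf (sigma Ms) Ms
  have hStop : sigmaCore Ms ≠ ⊤ := fun h => hMs.1 (top_le_iff.1 (h ▸ hSM))
  have hsolvS : Group.IsSolvable ↥(sigmaCore Ms) := Cfsg.Agent.Helper23.uq_isSolvable hG hStop
  obtain ⟨S₁, hS₁, hEsS₁⟩ := Cfsg.Agent.Helper35.exists_invariant_sylow
    (hEs.1.trans hnormS) hcopE (Or.inr hsolvS) s
  -- `P` normalizes `X`
  have hPX : P ≤ normalizer (X : Set G) := by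
    intro y hy
    rw [Subgroup.mem_normalizer_iff]
    intro x
    have hcomm : ∀ z ∈ X, y * z * y⁻¹ = z := by
      intro z hz
      have h1 := (Subgroup.mem_centralizer_iff.1 (hXs hz).2) y hy
      rw [h1, mul_inv_cancel_right]
    constructor
    · intro hx
      rw [hcomm x hx]
      exact hx
    · intro hx
      have h2 := hcomm _ hx
      have h3 : x = y * x * y⁻¹ := by
        have h4 : y * (y * x * y⁻¹) * y⁻¹ = y * x * y⁻¹ := h2
        have h5 : y⁻¹ * (y * (y * x * y⁻¹) * y⁻¹) * y = y⁻¹ * (y * x * y⁻¹) * y := by rw [h4]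
        have h6 : y⁻¹ * (y * (y * x * y⁻¹) * y⁻¹) * y = y * x * y⁻¹ := by group
        have h7 : y⁻¹ * (y * x * y⁻¹) * y = x := by group
        rw [h6, h7] at h5
        exact h5.symm
      rw [h3]
      exact hx
  obtain ⟨S₂, hS₂, hXS₂, hPS₂⟩ := Cfsg.Agent.Helper35.exists_invariant_sylow_ge
    (hPMs.trans hnormS) hcopP (Or.inr hsolvS) (hXs.trans inf_le_left) hX hPX
  obtain ⟨c, hc, hcS⟩ := Cfsg.Agent.Helper35.exists_conj_invariant_sylow
    (hPMs.trans hnormS) hcopP (Or.inr hsolvS) hS₂ hS₁ hPS₂ (hPEs.trans hEsS₁)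
  refine ⟨Es, S₁, c, hEs, hPEs, hS₁.1, Cfsg.Agent.Helper35.isPGroup_of_mem_sylowSet hS₁,
    hEsS₁, hc, ?_⟩
  rw [← hcS]
  rintro _ ⟨x, hx, rfl⟩
  exact Subgroup.smul_mem_pointwise_smul _ _ _ (hXS₂ hx)

end Cfsg.Agent.Helper31
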