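import Cfsg.Agent.Helper1.BG139C3
import Cfsg.Agent.Helper23.BG1210c
import Cfsg.Agent.Helper23.ExtLayer
import Cfsg.Agent.Helper23.Uniq
import Cfsg.Agent.Helper24.BG13A1
import Cfsg.Agent.Helper35.CoprimeSylow
import Cfsg.Agent.Helper47.Syl
import Cfsg.Agent.S1414
import Cfsg.Agent.S1417
import Cfsg.Agent.S1418
import Cfsg.Agent.S1420
import Cfsg.Agent.S1423
import Cfsg.Agent.S1426
import Cfsg.Agent.S1428
import Cfsg.Agent.Helper20.BG13P4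

set_option autoImplicit false

/-! helper31: CALL LZ (helper1), piece MS (`bgz_exists_Mstar`). -/

namespace Cfsg.Agent.Helper31

open Cfsg Subgroup

universe u

variable {G : Type u} [Group G] [Finite G]

/-- MS (Z3). A maximal subgroup `M*` over `N_G(A)`. -/
theorem bgz_exists_Mstar (hG : IsMinSimpleOddOrder G) {M E A : Subgroup G} {s : ℕ}
    (hM : IsCoatom M) (hE : IsComplIn E (sigmaCore M) M) (hs : s ∈ tau2 M) (hAE : A ≤ E)
    (hA : IsElementaryAbelian s A) (hAc : Nat.card A = s ^ 2) :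
    ∃ Ms : Subgroup G, IsCoatom Ms ∧ Ms ≠ M ∧ normalizer (A : Set G) ≤ Ms ∧ s ∈ sigma Ms ∧
      sigmaCore M ⊓ Ms = ⊥ ∧ M ⊓ Ms ≤ E := by
  classical
  have hU : Cfsg.Agent.Helper22.BGUniq G :=
    fun K hK h1 h2 => Cfsg.Agent.S1403.result hG K hK h1 h2
  have hsp : s.Prime := hs.1
  have : Fact s.Prime := ⟨hsp⟩
  have hsimple : IsSimpleGroup G := hG.2.1
  have hAM : A ≤ M := hAE.trans hE.1
  obtain ⟨⟨hEnA, -⟩, ⟨-, -, hnotNM⟩, -⟩ :=
    Cfsg.Agent.S1418.result hG M hM E hE s hs A ⟨hAE, hA, hAc⟩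
  obtain ⟨-, -, -, -, h5, -⟩ := Cfsg.Agent.S1417.result hG M hM s hs A ⟨hAM, hA, hAc⟩
  have hs2 : 2 ≤ s := hsp.two_le
  have hA1 : A ≠ ⊥ := by
    intro h
    rw [h, Subgroup.card_bot] at hAc
    nlinarith
  have hAtop : A ≠ ⊤ := fun h => hM.1 (top_le_iff.1 (h ▸ hAM))
  have hN : normalizer (A : Set G) ≠ ⊤ :=
    Cfsg.Agent.Helper23.normalizer_ne_top_of_simple hA1 hAtop
  obtain ⟨Ms, hMs, hNMs⟩ := Cfsg.Agent.Helper23.uq_exists_coatom_ge hN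
  have hne : Ms ≠ M := fun h => hnotNM (h ▸ hNMs)
  have hAMs : A ≤ Ms := le_normalizer.trans hNMs
  have hcap : sigmaCore M ⊓ Ms = ⊥ := h5 Ms hMs hne hAMs
  have hME : M ⊓ Ms ≤ E := by
    rintro m ⟨hmM, hmMs⟩
    obtain ⟨e, he, u, hu, rfl⟩ := hE.2.2.2 m hmM
    have heMs : e ∈ Ms := hNMs (hEnA he)
    have huMs : u ∈ Ms := by
      have h1 : u = e⁻¹ * (e * u) := by group
      rw [h1]
      exact Ms.mul_mem (Ms.inv_mem heMs) hmMs
    have hu1 : u = 1 := by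
      have h2 : u ∈ sigmaCore M ⊓ Ms := ⟨hu, huMs⟩
      rw [hcap] at h2
      exact Subgroup.mem_bot.1 h2
    rw [hu1, mul_one]
    exact he
  refine ⟨Ms, hMs, hne, hNMs, ?_, hcap, hME⟩
  by_contra hsσ
  have hrank2 : PRankLE s 2 ↥Ms := by
    by_contra h
    exact hsσ (Cfsg.Agent.Helper22.bg10_alpha_sub_sigma hG hU hMs ⟨hsp, h⟩)
  have hrank1 : ¬ PRankLE s 1 ↥Ms := by
    apply Cfsg.Agent.Helper21.not_pRankLE_of_elemAb hAMs hA.1 hA.2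
    rw [hAc, pow_one]
    intro h
    nlinarith
  have hτ : s ∈ tau2 Ms := ⟨hsp, hsσ, hrank2, hrank1⟩
  obtain ⟨⟨hSM, hS1, -⟩, -, -⟩ := Cfsg.Agent.Helper22.bg10_sigma_hall hG hU hMs
  have hcop : (Nat.card A).Coprime (Nat.card (sigmaCore Ms)) := by
    rw [hAc]
    apply Nat.Coprime.pow_left
    exact (Nat.Prime.coprime_iff_not_dvd hsp).2 (fun h => hsσ (hS1 s hsp h))
  obtain ⟨Es, hEs, hAEs⟩ := Cfsg.Agent.Helper20.bg13_exists_compl_ge hG hU hMs hAMs hcop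
  obtain ⟨-, ⟨-, -, hnot⟩, -⟩ :=
    Cfsg.Agent.S1418.result hG Ms hMs Es hEs s hτ A ⟨hAEs, hA, hAc⟩
  exact hnot hNMs

end Cfsg.Agent.Helper31
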