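import Cfsg.Agent.Helper1.BGZMain
import Cfsg.Agent.Helper24.BG14B1
import Cfsg.Agent.Helper41.BG13P1
import Cfsg.Agent.Helper22.BG10b
import Cfsg.Agent.S1403

/-!
# CALL BGC (helper25), piece FHb
-/

set_option autoImplicit false
set_option linter.unusedSectionVars false

namespace Cfsg.Agent.Helper31

open Cfsg Subgroup

universe u

variable {G : Type u} [Group G] [Finite G]

/-- FHb. If `N_σ` is nilpotent it lies in `N_F` (it is a normal Hall subgroup of `N`). -/
theorem bgc_sigmaCore_le_fittingHall (hG : IsMinSimpleOddOrder G) {N : Subgroup G}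
    (hN : IsCoatom N) (hnil : Group.IsNilpotent ↥(sigmaCore N)) :
    sigmaCore N ≤ fittingHallOf N := by
  classical
  have hU : Cfsg.Agent.Helper22.BGUniq G :=
    fun K hK h1 h2 => Cfsg.Agent.S1403.result hG K hK h1 h2
  obtain ⟨⟨hle, hpi, hidx⟩, -, -⟩ := Cfsg.Agent.Helper22.bg10_sigma_hall hG hU hN
  have hrel : (sigmaCore N).relIndex N = (piCore (sigma N) ↥N).index := by
    rw [Subgroup.relIndex]
    congr 1
    exact Subgroup.comap_map_eq_self_of_injective N.subtype_injective (piCore (sigma N) ↥N)
  have hcard : Nat.card ↥(sigmaCore N) = Nat.card ↥(piCore (sigma N) ↥N) :=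
    Subgroup.card_map_of_injective N.subtype_injective
  have hmem : piCore (sigma N) ↥N ∈ {K : Subgroup ↥N | K.Normal ∧ Group.IsNilpotent K ∧
      (Nat.card K).Coprime K.index} := by
    refine ⟨inferInstance, ?_, ?_⟩
    · have e : ↥(piCore (sigma N) ↥N) ≃* ↥(sigmaCore N) :=
        Subgroup.equivMapOfInjective _ N.subtype N.subtype_injective
      exact Group.nilpotent_of_mulEquiv e.symm
    · apply Nat.coprime_of_dvd
      intro q hq hq1 hq2
      have hqσ : q ∈ sigma N := hpi q hq (by rw [hcard]; exact hq1)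
      exact hidx q hq hqσ (by rw [hrel]; exact hq2)
  exact Subgroup.map_mono (le_sSup hmem)

end Cfsg.Agent.Helper31
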