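import Cfsg.Agent.Helper16.S3Core
import Cfsg.Agent.Helper79.Quotient
import Cfsg.Agent.Helper79.Linear
import Cfsg.Agent.Helper80.CharOrtho
import Cfsg.Agent.Helper80.LinChar

/-!
# PIECE C3E of CALL S3805 (helper16): the end of case 3

In the configuration `S3Cfg φ` with the character data of case 3 the second orthogonality
relation at `z = φ (r 1, r 1)` (whose centralizer has order `9`) is violated.
-/

set_option autoImplicit false

namespace Cfsg.Agent.Helper31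

open Cfsg Cfsg.Agent.Helper16 DihedralGroup
open scoped ComplexConjugate

/-- The centralizer of `φ (r 1, r 1)` has at most `9` elements. -/
theorem c3e_card_centralizer {G : Type*} [Group G] {φ : NM →* G} (h : S3Cfg φ) :
    Nat.card (Subgroup.centralizer ({φ ((r 1, r 1) : NM)} : Set G)) ≤ 9 := by
  classical
  have hc2 : ((r 1, r 1) : NM) ^ 2 ≠ 1 := by decide
  have key : ∀ g : Subgroup.centralizer ({φ ((r 1, r 1) : NM)} : Set G),
      ∃ m : {m : NM // m * ((r 1, r 1) : NM) = (r 1, r 1) * m}, φ m.1 = g.1 := by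
    intro g
    have hg := g.2
    rw [Subgroup.mem_centralizer_iff] at hg
    have hg' := hg _ (Set.mem_singleton _)
    obtain ⟨m, hm⟩ := h.mem_range_of_commute hc2 hg'.symm
    refine ⟨⟨m, ?_⟩, hm⟩
    apply h.inj
    rw [map_mul, map_mul, hm]
    exact hg'.symm
  choose F hF using key
  have hinj : Function.Injective F := by
    intro g g' hgg
    apply Subtype.ext
    rw [← hF g, ← hF g', hgg]
  have h1 := Nat.card_le_card_of_injective F hinj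
  have h9 : Nat.card {m : NM // m * ((r 1, r 1) : NM) = (r 1, r 1) * m} = 9 := by
    rw [Nat.card_eq_fintype_card]
    decide
  omega

theorem c3e_ne_of_val_ne {G : Type*} [Group G] {χ ψ : IrrCharacter G} (g : G)
    (h : (χ : G → ℂ) g ≠ (ψ : G → ℂ) g) : χ ≠ ψ := fun e => h (by rw [e])

theorem s3_case3_end {G : Type*} [Group G] [Fintype G] {φ : NM →* G} (h : S3Cfg φ)
    (hO3 : ∀ X : G → ℂ, IsCharacter G X → ∀ z : G, z ^ 3 = 1 → X z⁻¹ = X z → ∃ n : ℕ, X 1 - X z = 3 * (n : ℂ))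
    (f : G →* ℂˣ) (hfa : f (φ (sr 0, 1)) = -1) (hfb : f (φ (1, sr 0)) = 1)
    (R : IrrCharacter G) (hR1 : (R : G → ℂ) 1 = 2) (hRb : (R : G → ℂ) (φ (1, sr 0)) = 2)
    (hdecR : ∀ g, cfC (φ.comp nmSwap) g = 1 + ((f g : ℂˣ) : ℂ) - (R : G → ℂ) g)
    (X₁ X₂ : IrrCharacter G) (hdec : ∀ g, cfC φ g = 1 + (X₁ : G → ℂ) g - (X₂ : G → ℂ) g)
    (s : ℕ) (hs : s ≠ 0) (hd₁ : (X₁ : G → ℂ) 1 = 8 * (s : ℂ) ^ 2) (hd₂ : (X₂ : G → ℂ) 1 = 8 * (s : ℂ) ^ 2 + 1)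
    (htw₁ : (fun g => ((f g : ℂˣ) : ℂ) * (X₁ : G → ℂ) g) ≠ (X₁ : G → ℂ))
    (htw₂ : (fun g => ((f g : ℂˣ) : ℂ) * (X₂ : G → ℂ) g) ≠ (X₂ : G → ℂ)) : False := by
  classical
  have instIrr : Fintype (IrrCharacter G) := Fintype.ofFinite _
  have hRc : IsCharacter G (R : G → ℂ) := Helper79.irr_isCharacter R
  -- model identities
  have e1 : ((r 1, 1) : NM) = (sr 0, 1) * ((r 1, 1) * (sr 0, 1) * (r 1, 1)⁻¹) := by decide
  have e2 : ((1, r 1) : NM) = (1, sr 0) * ((1, r 1) * (1, sr 0) * (1, r 1)⁻¹) := by decide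
  have e3 : ((r 1, r 1) : NM) = (r 1, 1) * (1, r 1) := by decide
  have e4 : ((r 1, r 1) : NM)⁻¹ = (sr 0, sr 0) * (r 1, r 1) * (sr 0, sr 0)⁻¹ := by decide
  have e5 : ((r 1, r 1) : NM) ^ 3 = 1 := by decide
  have hz3 : (φ ((r 1, r 1) : NM)) ^ 3 = 1 := by
    rw [← map_pow, e5, map_one]
  have hzinv : (φ ((r 1, r 1) : NM))⁻¹ =
      φ ((sr 0, sr 0) : NM) * φ ((r 1, r 1) : NM) * (φ ((sr 0, sr 0) : NM))⁻¹ := by
    rw [← map_inv, ← map_inv, ← map_mul, ← map_mul, ← e4]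
  have hreal : ∀ X : G → ℂ, IsCharacter G X →
      X (φ ((r 1, r 1) : NM))⁻¹ = X (φ ((r 1, r 1) : NM)) := by
    intro X hX
    rw [hzinv, Helper79.isCharacter_conj_eq hX]
  -- values of `f`
  have hf_conj : ∀ x y : G, f (x * y * x⁻¹) = f y := by
    intro x y
    rw [map_mul, map_mul, map_inv, mul_comm, inv_mul_cancel_left]
  have hft1 : f (φ ((r 1, 1) : NM)) = 1 := by
    have e : φ ((r 1, 1) : NM) =
        φ ((sr 0, 1) : NM) * (φ ((r 1, 1) : NM) * φ ((sr 0, 1) : NM) * (φ ((r 1, 1) : NM))⁻¹) := by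
      conv_lhs => rw [e1]
      simp only [map_mul, map_inv]
    rw [e, map_mul, hf_conj, hfa]
    norm_num
  have hft2 : f (φ ((1, r 1) : NM)) = 1 := by
    have e : φ ((1, r 1) : NM) =
        φ ((1, sr 0) : NM) * (φ ((1, r 1) : NM) * φ ((1, sr 0) : NM) * (φ ((1, r 1) : NM))⁻¹) := by
      conv_lhs => rw [e2]
      simp only [map_mul, map_inv]
    rw [e, map_mul, hf_conj, hfb]
    norm_num
  have hfz : f (φ ((r 1, r 1) : NM)) = 1 := by
    rw [e3, map_mul, map_mul, hft1, hft2, one_mul]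
  -- values of `R`
  have hRk : (R : G → ℂ) (φ ((1, sr 0) : NM)) = (R : G → ℂ) 1 := by rw [hRb, hR1]
  have hRb' : (R : G → ℂ) (φ (((1, r 1) : NM) * (1, sr 0) * (1, r 1)⁻¹)) = (R : G → ℂ) 1 := by
    rw [map_mul, map_mul, map_inv, Helper79.isCharacter_conj_eq hRc]
    exact hRk
  have hRt2 : (R : G → ℂ) (φ ((1, r 1) : NM)) = (R : G → ℂ) 1 := by
    rw [e2, map_mul, Helper79.isCharacter_mul_of_ker hRc hRb']
    exact hRk
  have hRz : (R : G → ℂ) (φ ((r 1, r 1) : NM)) = (R : G → ℂ) (φ ((r 1, 1) : NM)) := by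
    rw [e3, map_mul, Helper79.isCharacter_mul_of_ker hRc hRt2]
  have hRt1 : (R : G → ℂ) (φ ((r 1, 1) : NM)) = -1 := by
    have h1 := hdecR (φ ((r 1, 1) : NM))
    have h2 := h.swap.cfC_apply ((1, r 1) : NM)
    have h3 : (φ.comp nmSwap) ((1, r 1) : NM) = φ ((r 1, 1) : NM) := rfl
    rw [h3, if_pos (by decide)] at h2
    rw [h2, hft1, Units.val_one] at h1
    linear_combination h1
  have hRzv : (R : G → ℂ) (φ ((r 1, r 1) : NM)) = -1 := by rw [hRz, hRt1]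
  -- values of `X₁`, `X₂`
  have hX2z : (X₂ : G → ℂ) (φ ((r 1, r 1) : NM)) = (X₁ : G → ℂ) (φ ((r 1, r 1) : NM)) - 2 := by
    have h1 := hdec (φ ((r 1, r 1) : NM))
    have h2 := h.cfC_apply ((r 1, r 1) : NM)
    rw [if_pos (by decide)] at h2
    rw [h2] at h1
    linear_combination h1
  obtain ⟨n, hn⟩ := hO3 (X₁ : G → ℂ) (Helper79.irr_isCharacter X₁) (φ ((r 1, r 1) : NM)) hz3
    (hreal _ (Helper79.irr_isCharacter X₁))
  obtain ⟨w, hw⟩ : ∃ w : ℤ, w = 8 * (s : ℤ) ^ 2 - 3 * (n : ℤ) := ⟨_, rfl⟩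
  have hX1z : (X₁ : G → ℂ) (φ ((r 1, r 1) : NM)) = (w : ℂ) := by
    rw [hw]
    push_cast
    linear_combination hd₁ - hn
  -- the degrees
  obtain ⟨D, hD⟩ : ∃ D : ℕ, D = 8 * s ^ 2 := ⟨_, rfl⟩
  have hD8 : 8 ≤ D := by
    have : 1 ≤ s ^ 2 := Nat.one_le_pow _ _ (Nat.pos_of_ne_zero hs)
    omega
  have hd₁' : (X₁ : G → ℂ) 1 = (D : ℂ) := by rw [hd₁, hD]; push_cast; ring
  have hd₂' : (X₂ : G → ℂ) 1 = (D : ℂ) + 1 := by rw [hd₂, hD]; push_cast; ring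
  -- the seven characters
  obtain ⟨c0, hc0⟩ : ∃ c : IrrCharacter G, c = Helper79.trivIrr G := ⟨_, rfl⟩
  obtain ⟨c1, hc1⟩ : ∃ c : IrrCharacter G, c = Helper80.homIrr f := ⟨_, rfl⟩
  obtain ⟨c5, hc5⟩ : ∃ c : IrrCharacter G, c = Helper79.irrTwist f X₁ := ⟨_, rfl⟩
  obtain ⟨c6, hc6⟩ : ∃ c : IrrCharacter G, c = Helper79.irrTwist f X₂ := ⟨_, rfl⟩
  have v0 : ∀ g, (c0 : G → ℂ) g = 1 := fun g => by rw [hc0]; rfl
  have v1 : ∀ g, (c1 : G → ℂ) g = ((f g : ℂˣ) : ℂ) := fun g => by rw [hc1]; rfl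
  have v5 : ∀ g, (c5 : G → ℂ) g = ((f g : ℂˣ) : ℂ) * (X₁ : G → ℂ) g := fun g => by rw [hc5]; rfl
  have v6 : ∀ g, (c6 : G → ℂ) g = ((f g : ℂˣ) : ℂ) * (X₂ : G → ℂ) g := fun g => by rw [hc6]; rfl
  have d0 : (c0 : G → ℂ) 1 = ((1 : ℕ) : ℂ) := by rw [v0]; simp
  have d1 : (c1 : G → ℂ) 1 = ((1 : ℕ) : ℂ) := by rw [v1, map_one]; simp
  have d2 : (R : G → ℂ) 1 = ((2 : ℕ) : ℂ) := by rw [hR1]; simp
  have d3 : (X₁ : G → ℂ) 1 = ((D : ℕ) : ℂ) := hd₁'
  have d4 : (X₂ : G → ℂ) 1 = ((D + 1 : ℕ) : ℂ) := by rw [hd₂']; simp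
  have d5 : (c5 : G → ℂ) 1 = ((D : ℕ) : ℂ) := by rw [v5, map_one, hd₁']; simp
  have d6 : (c6 : G → ℂ) 1 = ((D + 1 : ℕ) : ℂ) := by rw [v6, map_one, hd₂']; simp
  have key : ∀ {χ ψ : IrrCharacter G} {a b : ℕ}, (χ : G → ℂ) 1 = (a : ℂ) → (ψ : G → ℂ) 1 = (b : ℂ) →
      a ≠ b → χ ≠ ψ := by
    intro χ ψ a b ha hb hab
    apply c3e_ne_of_val_ne 1
    rw [ha, hb]
    exact_mod_cast hab
  have h01 : c0 ≠ c1 := by
    apply c3e_ne_of_val_ne (φ ((sr 0, 1) : NM))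
    rw [v0, v1, hfa]
    norm_num
  have h02 : c0 ≠ R := key d0 d2 (by omega)
  have h03 : c0 ≠ X₁ := key d0 d3 (by omega)
  have h04 : c0 ≠ X₂ := key d0 d4 (by omega)
  have h05 : c0 ≠ c5 := key d0 d5 (by omega)
  have h06 : c0 ≠ c6 := key d0 d6 (by omega)
  have h12 : c1 ≠ R := key d1 d2 (by omega)
  have h13 : c1 ≠ X₁ := key d1 d3 (by omega)
  have h14 : c1 ≠ X₂ := key d1 d4 (by omega)
  have h15 : c1 ≠ c5 := key d1 d5 (by omega)
  have h16 : c1 ≠ c6 := key d1 d6 (by omega)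
  have h23 : R ≠ X₁ := key d2 d3 (by omega)
  have h24 : R ≠ X₂ := key d2 d4 (by omega)
  have h25 : R ≠ c5 := key d2 d5 (by omega)
  have h26 : R ≠ c6 := key d2 d6 (by omega)
  have h34 : X₁ ≠ X₂ := key d3 d4 (by omega)
  have h35 : X₁ ≠ c5 := by
    intro e
    apply htw₁
    funext g
    rw [← v5, ← e]
  have h36 : X₁ ≠ c6 := key d3 d6 (by omega)
  have h45 : X₂ ≠ c5 := key d4 d5 (by omega)
  have h46 : X₂ ≠ c6 := by
    intro e
    apply htw₂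
    funext g
    rw [← v6, ← e]
  have h56 : c5 ≠ c6 := key d5 d6 (by omega)
  -- second orthogonality at `z`
  have horth := Helper80.irr_column_orthogonality_of_isConj
    (IsConj.refl (φ ((r 1, r 1) : NM)))
  have hcard := c3e_card_centralizer h
  obtain ⟨Fr, hFr⟩ : ∃ Fr : IrrCharacter G → ℝ,
      Fr = fun χ : IrrCharacter G =>
        Complex.normSq ((χ : G → ℂ) (φ ((r 1, r 1) : NM))) := ⟨_, rfl⟩
  have hFr' : ∀ χ : IrrCharacter G, Fr χ = Complex.normSq ((χ : G → ℂ) (φ ((r 1, r 1) : NM))) :=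
    fun χ => by rw [hFr]
  have hFnn : ∀ χ : IrrCharacter G, 0 ≤ Fr χ := fun χ => by rw [hFr']; exact Complex.normSq_nonneg _
  have hsum : ∑ χ : IrrCharacter G, Fr χ =
      (Nat.card (Subgroup.centralizer ({φ ((r 1, r 1) : NM)} : Set G)) : ℝ) := by
    apply Complex.ofReal_injective
    rw [Complex.ofReal_sum, Complex.ofReal_natCast, ← horth]
    apply Finset.sum_congr rfl
    intro χ _
    rw [hFr', Complex.mul_conj]
  have hT : ∑ χ ∈ ({c0, c1, R, X₁, X₂, c5, c6} : Finset (IrrCharacter G)), Fr χ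
      = Fr c0 + (Fr c1 + (Fr R + (Fr X₁ + (Fr X₂ + (Fr c5 + Fr c6))))) := by
    rw [Finset.sum_insert (by simp [h01, h02, h03, h04, h05, h06]),
        Finset.sum_insert (by simp [h12, h13, h14, h15, h16]),
        Finset.sum_insert (by simp [h23, h24, h25, h26]),
        Finset.sum_insert (by simp [h34, h35, h36]),
        Finset.sum_insert (by simp [h45, h46]),
        Finset.sum_insert (by simp [h56]), Finset.sum_singleton]
  have hle : ∑ χ ∈ ({c0, c1, R, X₁, X₂, c5, c6} : Finset (IrrCharacter G)), Fr χ ≤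
      ∑ χ : IrrCharacter G, Fr χ :=
    Finset.sum_le_univ_sum_of_nonneg hFnn
  have f0 : Fr c0 = 1 := by rw [hFr', v0]; simp
  have f1 : Fr c1 = 1 := by rw [hFr', v1, hfz]; simp
  have f2 : Fr R = 1 := by rw [hFr', hRzv]; simp
  have f3 : Fr X₁ = (w : ℝ) ^ 2 := by
    rw [hFr', hX1z]
    have : ((w : ℤ) : ℂ) = (((w : ℝ)) : ℂ) := by push_cast; rfl
    rw [this, Complex.normSq_ofReal]; ring
  have f4 : Fr X₂ = ((w : ℝ) - 2) ^ 2 := by
    rw [hFr', hX2z, hX1z]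
    have : ((w : ℤ) : ℂ) - 2 = (((w : ℝ) - 2 : ℝ) : ℂ) := by push_cast; rfl
    rw [this, Complex.normSq_ofReal]; ring
  have f5 : Fr c5 = (w : ℝ) ^ 2 := by
    rw [hFr', v5, hfz, Units.val_one, one_mul, ← hFr', f3]
  have f6 : Fr c6 = ((w : ℝ) - 2) ^ 2 := by
    rw [hFr', v6, hfz, Units.val_one, one_mul, ← hFr', f4]
  have hineqR : (1 : ℝ) + (1 + (1 + ((w : ℝ) ^ 2 + (((w : ℝ) - 2) ^ 2 + ((w : ℝ) ^ 2 + ((w : ℝ) - 2) ^ 2))))) ≤ 9 := by
    have h9 : (Nat.card (Subgroup.centralizer ({φ ((r 1, r 1) : NM)} : Set G)) : ℝ) ≤ 9 := by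
      exact_mod_cast hcard
    rw [hT, hsum, f0, f1, f2, f3, f4, f5, f6] at hle
    linarith
  have hineqZ : (1 : ℤ) + (1 + (1 + (w ^ 2 + ((w - 2) ^ 2 + (w ^ 2 + (w - 2) ^ 2))))) ≤ 9 := by
    exact_mod_cast hineqR
  have hw1 : w = 1 := by
    have h5 : 2 * (w - 1) ^ 2 ≤ 1 := by nlinarith
    obtain ⟨q, hq⟩ : ∃ q : ℤ, q = (w - 1) ^ 2 := ⟨_, rfl⟩
    have hq0 : 0 ≤ q := by rw [hq]; exact sq_nonneg _
    rw [← hq] at h5
    have hq1 : q = 0 := by omega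
    rw [hq] at hq1
    have := pow_eq_zero_iff (two_ne_zero) |>.mp hq1
    omega
  rw [hw1] at hw
  have h3 := congrArg (Int.cast : ℤ → ZMod 3) hw
  push_cast at h3
  have e3' : (3 : ZMod 3) = 0 := by decide
  have e8' : (8 : ZMod 3) = 2 := by decide
  rw [e3', e8', zero_mul, sub_zero] at h3
  generalize ((s : ℕ) : ZMod 3) = x at h3
  revert x
  decide

end Cfsg.Agent.Helper31
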