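import Mathlib
import Cfsg.Prelude.Def_Characters
import Cfsg.Prelude.Def_Blocks
import Cfsg.Agent.Helper75.Eigen

/-! helper31: CALL S0998 (helper9), auxiliary lemmas for the pieces CYC4 / CYC8: the values of an
irreducible character of degree 3 on the powers of an element of finite order are power sums of
three roots of unity. -/

set_option autoImplicit false

universe u

namespace Cfsg.Agent.Helper31

theorem prq_eigen3 {G : Type u} [Group G] [Finite G] (χ : Cfsg.IrrCharacter G)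
    (hdeg : Cfsg.charDegree (χ : G → ℂ) = 3) (g : G) (m : ℕ) (hm : m ≠ 0) (hg : g ^ m = 1) :
    ∃ x y z : ℂ, x ^ m = 1 ∧ y ^ m = 1 ∧ z ^ m = 1 ∧
      ∀ k : ℕ, (χ : G → ℂ) (g ^ k) = x ^ k + y ^ k + z ^ k := by
  classical
  obtain ⟨n, ρ, -, hχ⟩ := χ.2
  have hn : n = 3 := by
    have h1 : Cfsg.charDegree (χ : G → ℂ) = n := by
      unfold Cfsg.charDegree
      rw [← hχ, Representation.char_one, Module.finrank_fintype_fun_eq_card, Fintype.card_fin]
      simp
    rw [← h1, hdeg]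
  have hf : (ρ g) ^ m = 1 := by rw [← map_pow, hg, map_one]
  obtain ⟨s, hs1, hs2, hs3⟩ := Cfsg.Agent.Helper75.exists_eigen_multiset (ρ g) m hm hf
  rw [Module.finrank_fintype_fun_eq_card, Fintype.card_fin, hn] at hs2
  obtain ⟨x, y, z, rfl⟩ := Multiset.card_eq_three.1 hs2
  refine ⟨x, y, z, hs1 x (by simp), hs1 y (by simp), hs1 z (by simp), ?_⟩
  intro k
  have h2 : (χ : G → ℂ) (g ^ k) = LinearMap.trace ℂ (Fin n → ℂ) ((ρ g) ^ k) := by
    rw [← hχ, ← map_pow]
    rfl
  rw [h2, hs3 k]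
  simp [add_assoc]

/-- fourth roots of unity, with integer coordinates -/
theorem prq_root4 (x : ℂ) (hx : x ^ 4 = 1) :
    ∃ a b : ℤ, x = (a : ℂ) + (b : ℂ) * Complex.I ∧ x ^ 3 = (a : ℂ) - (b : ℂ) * Complex.I ∧
      ((a = 1 ∧ b = 0) ∨ (a = -1 ∧ b = 0) ∨ (a = 0 ∧ b = 1) ∨ (a = 0 ∧ b = -1)) := by
  have h1 : (x - 1) * (x + 1) * (x - Complex.I) * (x + Complex.I) = 0 := by
    have hI : Complex.I ^ 2 = -1 := Complex.I_sq
    linear_combination hx - (x ^ 2 - 1) * hI
  have hI2 : Complex.I * Complex.I = -1 := Complex.I_mul_I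
  rcases mul_eq_zero.1 h1 with h2 | h2
  · rcases mul_eq_zero.1 h2 with h3 | h3
    · rcases mul_eq_zero.1 h3 with h4 | h4
      · have hx1 : x = 1 := by linear_combination h4
        refine ⟨1, 0, ?_, ?_, Or.inl ⟨rfl, rfl⟩⟩
        · rw [hx1]; push_cast; ring
        · rw [hx1]; push_cast; ring
      · have hx1 : x = -1 := by linear_combination h4
        refine ⟨-1, 0, ?_, ?_, Or.inr (Or.inl ⟨rfl, rfl⟩)⟩
        · rw [hx1]; push_cast; ring
        · rw [hx1]; push_cast; ring
    · have hx1 : x = Complex.I := by linear_combination h3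
      refine ⟨0, 1, ?_, ?_, Or.inr (Or.inr (Or.inl ⟨rfl, rfl⟩))⟩
      · rw [hx1]; push_cast; ring
      · rw [hx1]; push_cast
        linear_combination Complex.I * hI2
  · have hx1 : x = -Complex.I := by linear_combination h2
    refine ⟨0, -1, ?_, ?_, Or.inr (Or.inr (Or.inr ⟨rfl, rfl⟩))⟩
    · rw [hx1]; push_cast; ring
    · rw [hx1]; push_cast
      linear_combination -Complex.I * hI2

end Cfsg.Agent.Helper31
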