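import Mathlib
import Cfsg.Prelude.Def_Characters
import Cfsg.Prelude.Def_Blocks
import Cfsg.Agent.Helper75.Eigen
import Cfsg.Agent.Helper31.PRQCycAux

/-! helper31: CALL S0998 (helper9), piece CYC4 (`prq_cyc4`). -/

set_option autoImplicit false
open Cfsg
open scoped ComplexConjugate

universe u

namespace Cfsg.Agent.Helper31

theorem prq_cyc4 {G : Type u} [Group G] [Finite G] (χ : Cfsg.IrrCharacter G)
    (hdeg : Cfsg.charDegree (χ : G → ℂ) = 3) (g : G) (hg : g ^ 4 = 1)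
    (h3 : (χ : G → ℂ) (g ^ 3) = (χ : G → ℂ) g) :
    (χ : G → ℂ) g = 3 ∨ (χ : G → ℂ) g = 1 ∨ (χ : G → ℂ) g = -1 ∨ (χ : G → ℂ) g = -3 := by
  obtain ⟨x, y, z, hx, hy, hz, hk⟩ := prq_eigen3 χ hdeg g 4 (by norm_num) hg
  have e1 := hk 1
  have e3 := hk 3
  simp only [pow_one] at e1
  obtain ⟨a1, b1, hx1, hx3, c1⟩ := prq_root4 x hx
  obtain ⟨a2, b2, hy1, hy3, c2⟩ := prq_root4 y hy
  obtain ⟨a3, b3, hz1, hz3, c3⟩ := prq_root4 z hz
  rw [e3, e1, hx3, hy3, hz3, hx1, hy1, hz1] at h3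
  have hb : b1 + b2 + b3 = 0 := by
    have h4 : (((b1 + b2 + b3 : ℤ) : ℂ)) * Complex.I = 0 := by
      push_cast
      linear_combination (-1 / 2 : ℂ) * h3
    rcases mul_eq_zero.1 h4 with h5 | h5
    · exact_mod_cast h5
    · exact absurd h5 Complex.I_ne_zero
  have hsum : (χ : G → ℂ) g = (((a1 + a2 + a3 : ℤ)) : ℂ) := by
    have hb' : ((b1 : ℂ) + b2 + b3) = 0 := by exact_mod_cast hb
    rw [e1, hx1, hy1, hz1]
    push_cast
    linear_combination Complex.I * hb'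
  have hcases : a1 + a2 + a3 = 3 ∨ a1 + a2 + a3 = 1 ∨ a1 + a2 + a3 = -1 ∨ a1 + a2 + a3 = -3 := by
    omega
  rw [hsum]
  rcases hcases with h | h | h | h
  · left
    rw [h]
    norm_num
  · right; left
    rw [h]
    norm_num
  · right; right; left
    rw [h]
    norm_num
  · right; right; right
    rw [h]
    norm_num

end Cfsg.Agent.Helper31
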