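import Mathlib
import Cfsg.Prelude.Def_Characters
import Cfsg.Prelude.Def_Blocks
import Cfsg.Agent.Helper75.Eigen
import Cfsg.Agent.Helper31.PRQCycAux

/-! helper31: CALL S0998 (helper9), piece CYC8 (`prq_cyc8`). -/

set_option autoImplicit false
open Cfsg
open scoped ComplexConjugate

universe u

namespace Cfsg.Agent.Helper31

theorem prq_cyc8 {G : Type u} [Group G] [Finite G] (χ : Cfsg.IrrCharacter G)
    (hdeg : Cfsg.charDegree (χ : G → ℂ) = 3) (g : G) (hg : g ^ 8 = 1)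
    (h5 : (χ : G → ℂ) (g ^ 5) = (χ : G → ℂ) g)
    (h6 : (χ : G → ℂ) (g ^ 6) = (χ : G → ℂ) (g ^ 2)) :
    (χ : G → ℂ) (g ^ 4) = 3 := by
  obtain ⟨x, y, z, hx, hy, hz, hk⟩ := prq_eigen3 χ hdeg g 8 (by norm_num) hg
  have e1 := hk 1
  simp only [pow_one] at e1
  rw [hk 5, e1] at h5
  rw [hk 6, hk 2] at h6
  rw [hk 4]
  have key : ∀ t : ℂ, t ^ 8 = 1 → t ^ 4 = 1 ∨ t ^ 4 = -1 := by
    intro t ht
    have h1 : (t ^ 4 - 1) * (t ^ 4 + 1) = 0 := by linear_combination ht
    rcases mul_eq_zero.1 h1 with h | h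
    · left
      linear_combination h
    · right
      linear_combination h
  have nz : ∀ t : ℂ, t ^ 8 = 1 → t ≠ 0 := by
    rintro t ht rfl
    norm_num at ht
  have h2ne : (2 : ℂ) ≠ 0 := two_ne_zero
  have one : ∀ a b c : ℂ, a ^ 8 = 1 → a ^ 4 = -1 → b ^ 4 = 1 → c ^ 4 = 1 →
      a ^ 5 + b ^ 5 + c ^ 5 = a + b + c → False := by
    intro a b c ha8 ha hb hc h
    apply nz a ha8
    have h1 : (2 : ℂ) * a = 0 := by linear_combination a * ha + b * hb + c * hc - h
    exact (mul_eq_zero.1 h1).resolve_left h2ne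
  have two : ∀ a b c : ℂ, a ^ 8 = 1 → a ^ 4 = -1 → b ^ 4 = -1 → c ^ 4 = 1 →
      a ^ 5 + b ^ 5 + c ^ 5 = a + b + c → a ^ 6 + b ^ 6 + c ^ 6 = a ^ 2 + b ^ 2 + c ^ 2 →
      False := by
    intro a b c ha8 ha hb hc h h'
    apply nz a ha8
    have h1 : (2 : ℂ) * (a + b) = 0 := by linear_combination a * ha + b * hb + c * hc - h
    have h2 : a + b = 0 := (mul_eq_zero.1 h1).resolve_left h2ne
    have h3 : (2 : ℂ) * (a ^ 2 + b ^ 2) = 0 := by
      linear_combination a ^ 2 * ha + b ^ 2 * hb + c ^ 2 * hc - h'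
    have h4 : a ^ 2 + b ^ 2 = 0 := (mul_eq_zero.1 h3).resolve_left h2ne
    have h5 : (2 : ℂ) * a ^ 2 = 0 := by linear_combination h4 - (b - a) * h2
    have h6 : a ^ 2 = 0 := (mul_eq_zero.1 h5).resolve_left h2ne
    exact pow_eq_zero_iff (two_ne_zero) |>.1 h6
  have three : ∀ a b c : ℂ, a ^ 8 = 1 → b ^ 8 = 1 → a ^ 4 = -1 → b ^ 4 = -1 → c ^ 4 = -1 →
      a ^ 5 + b ^ 5 + c ^ 5 = a + b + c → a ^ 6 + b ^ 6 + c ^ 6 = a ^ 2 + b ^ 2 + c ^ 2 →
      False := by
    intro a b c ha8 hb8 ha hb hc h h'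
    apply nz a ha8
    have h1 : (2 : ℂ) * (a + b + c) = 0 := by linear_combination a * ha + b * hb + c * hc - h
    have h2 : a + b + c = 0 := (mul_eq_zero.1 h1).resolve_left h2ne
    have h3 : (2 : ℂ) * (a ^ 2 + b ^ 2 + c ^ 2) = 0 := by
      linear_combination a ^ 2 * ha + b ^ 2 * hb + c ^ 2 * hc - h'
    have h4 : a ^ 2 + b ^ 2 + c ^ 2 = 0 := (mul_eq_zero.1 h3).resolve_left h2ne
    have hc' : c = -a - b := by linear_combination h2
    rw [hc'] at h4
    have h5 : (2 : ℂ) * (a ^ 2 + a * b + b ^ 2) = 0 := by linear_combination h4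
    have h6 : a ^ 2 + a * b + b ^ 2 = 0 := (mul_eq_zero.1 h5).resolve_left h2ne
    have h7 : a ^ 3 = b ^ 3 := by linear_combination (a - b) * h6
    have h8 : a = b := by
      have h9 : a = a ^ 9 := by
        have : a ^ 9 = a * a ^ 8 := by ring
        rw [this, ha8, mul_one]
      have h10 : b = b ^ 9 := by
        have : b ^ 9 = b * b ^ 8 := by ring
        rw [this, hb8, mul_one]
      have h11 : a ^ 9 = b ^ 9 := by
        have e1 : a ^ 9 = (a ^ 3) ^ 3 := by ring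
        have e2 : b ^ 9 = (b ^ 3) ^ 3 := by ring
        rw [e1, e2, h7]
      rw [h9, h10, h11]
    rw [← h8] at h6
    have h12 : (3 : ℂ) * a ^ 2 = 0 := by linear_combination h6
    have h13 : a ^ 2 = 0 := (mul_eq_zero.1 h12).resolve_left (by norm_num)
    exact pow_eq_zero_iff (two_ne_zero) |>.1 h13
  rcases key x hx with hx4 | hx4 <;> rcases key y hy with hy4 | hy4 <;>
    rcases key z hz with hz4 | hz4
  · rw [hx4, hy4, hz4]
    norm_num
  · exact absurd (one z x y hz hz4 hx4 hy4 (by linear_combination h5)) id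
  · exact absurd (one y x z hy hy4 hx4 hz4 (by linear_combination h5)) id
  · exact absurd (two y z x hy hy4 hz4 hx4 (by linear_combination h5)
      (by linear_combination h6)) id
  · exact absurd (one x y z hx hx4 hy4 hz4 h5) id
  · exact absurd (two x z y hx hx4 hz4 hy4 (by linear_combination h5)
      (by linear_combination h6)) id
  · exact absurd (two x y z hx hx4 hy4 hz4 h5 h6) id
  · exact absurd (three x y z hx hy hx4 hy4 hz4 h5 h6) id

end Cfsg.Agent.Helper31
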