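import Mathlib
import Cfsg.Agent.Helper9.BRDefs
import Cfsg.Agent.Helper9.BRSimple
import Cfsg.Agent.Helper75.InnerLin
import Cfsg.Agent.Helper79.Quotient
import Cfsg.Agent.Helper79.Basic
import Cfsg.Agent.Helper67.BRK5
import Cfsg.Agent.Helper81.SectionChar
import Cfsg.Agent.Helper81.CharBasic

/-!
# CALL S0998 (helper9), piece FAITH

A nontrivial irreducible character `χ` of a non-cyclic finite simple group satisfies
`|χ g| < χ 1` for `g ≠ 1`.
-/

set_option autoImplicit false
set_option linter.style.haveILetI false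
set_option maxHeartbeats 1000000
open Cfsg
open scoped ComplexConjugate

universe u

namespace Cfsg.Agent.Helper31

theorem prq_faithful {G : Type u} [Group G] [Finite G] [IsSimpleGroup G] (hG : ¬ IsCyclic G)
    (χ : Cfsg.IrrCharacter G) (hχ : χ ≠ Helper81.trivIrr G) (g : G)
    (h : (χ : G → ℂ) g * conj ((χ : G → ℂ) g) = (Cfsg.charDegree (χ : G → ℂ) : ℂ) ^ 2) :
    g = 1 := by
  classical
  haveI : Fintype G := Fintype.ofFinite G
  have hcard : Nat.card G ≠ 1 := by
    intro h1
    have hs : Subsingleton G := (Nat.card_eq_one_iff_unique.mp h1).1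
    exact not_subsingleton G hs
  haveI : Fact (Nat.card G).minFac.Prime := ⟨Nat.minFac_prime hcard⟩
  have hperf := (Helper9.br_simple_facts hG (Nat.card G).minFac (Nat.minFac_dvd _)).1
  have hdeg := Helper67.br_perfect_deg hperf χ hχ
  have hχc := Helper79.irr_isCharacter χ
  have hψ : IsCharacter G ((χ : G → ℂ) * fun g => conj ((χ : G → ℂ) g)) :=
    Helper79.isCharacter_mul hχc (Helper79.isCharacter_conj hχc)
  have h1 : (χ : G → ℂ) 1 = (charDegree (χ : G → ℂ) : ℂ) := Helper81.irr_one_eq_charDegree χ
  have hmem : g ∈ Helper79.charKer hψ := by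
    rw [Helper79.mem_charKer]
    simp only [Pi.mul_apply]
    rw [h, h1]
    simp [sq]
  have hN := Helper79.charKer_normal hψ
  rcases hN.eq_bot_or_eq_top with hb | ht
  · rw [hb] at hmem
    exact Subgroup.mem_bot.mp hmem
  · exfalso
    have hall : ∀ x : G, (χ : G → ℂ) x * conj ((χ : G → ℂ) x)
        = (charDegree (χ : G → ℂ) : ℂ) ^ 2 := by
      intro x
      have hx : x ∈ Helper79.charKer hψ := by rw [ht]; trivial
      have := (Helper79.mem_charKer hψ x).mp hx
      simp only [Pi.mul_apply] at this
      rw [this, h1]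
      simp [sq]
    have hin := Helper75.classInner_irr_self χ.2
    unfold classInner at hin
    rw [Finset.sum_congr rfl (fun x _ => hall x)] at hin
    rw [Finset.sum_const, Finset.card_univ, nsmul_eq_mul, ← Nat.card_eq_fintype_card] at hin
    have hK : (Nat.card G : ℂ) ≠ 0 := by
      have : Nat.card G ≠ 0 := Nat.card_pos.ne'
      exact_mod_cast this
    rw [← mul_assoc, inv_mul_cancel₀ hK, one_mul] at hin
    have hnat : (charDegree (χ : G → ℂ)) ^ 2 = 1 := by exact_mod_cast hin
    nlinarith

end Cfsg.Agent.Helper31
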