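import Mathlib
import Cfsg.Agent.Helper9.BRDefs
import Cfsg.Agent.Helper75.Galois
import Cfsg.Agent.Helper8.D7920OUT
import Cfsg.Agent.Helper81.SectionChar
import Cfsg.Agent.Helper81.CharBasic

/-!
# CALL S0998 (helper9), piece RAT

When the exceptional characters of the principal `p`-block have a common degree `d` with
`2 ≤ d ≤ p - 2`, they take rational values on the `p`-regular elements.
-/

set_option autoImplicit false
set_option linter.style.haveILetI false
set_option maxHeartbeats 1000000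
open Cfsg
open scoped ComplexConjugate

universe u

namespace Cfsg.Agent.Helper31

theorem prq_rational {G : Type u} [Group G] [Fintype G] {p : ℕ} [Fact p.Prime]
    {M : Ideal Cfsg.AlgInt} (hM : Cfsg.IsPModular p M) (P : Sylow p G)
    (hP : Nat.card (P : Subgroup G) = p)
    (hC : Nat.card (Subgroup.centralizer ((P : Subgroup G) : Set G)) = p)
    (e : ℕ) (T : Cfsg.Agent.Helper9.BRTab p M P e) (d : ℕ) (hd1 : 2 ≤ d) (hd2 : d + 2 ≤ p)
    (hY : ∀ θ ∈ T.Y, Cfsg.charDegree (θ : G → ℂ) = d)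
    (θ : Cfsg.IrrCharacter G) (hθ : θ ∈ T.Y) (g : G) (hg : ¬ p ∣ orderOf g)
    (k : ℕ) (hk : Nat.Coprime k (Nat.card G)) :
    (θ : G → ℂ) (g ^ k) = (θ : G → ℂ) g := by
  classical
  have hp : p.Prime := Fact.out
  obtain ⟨θ', hθ'⟩ : ∃ θ' : Cfsg.IrrCharacter G, ∀ x : G, (θ' : G → ℂ) x = (θ : G → ℂ) (x ^ k) :=
    ⟨⟨fun x => (θ : G → ℂ) (x ^ k), Helper75.isIrrCharacter_pow k hk θ.2⟩, fun x => rfl⟩
  have hdeg' : Cfsg.charDegree (θ' : G → ℂ) = d := by
    have h1 : (θ' : G → ℂ) 1 = (θ : G → ℂ) 1 := by rw [hθ', one_pow]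
    unfold Cfsg.charDegree
    rw [h1]
    exact hY θ hθ
  have hin : θ' ∈ Cfsg.principalBlock M G := by
    by_contra hout
    have h2 := Helper8.br_outside_dvd hM P hP hC θ' hout
    rw [hdeg'] at h2
    have h3 := Nat.le_of_dvd (by omega) h2
    omega
  rcases (T.hB θ').mp hin with h1 | h1 | h1 | h1
  · exfalso
    have h2 : Cfsg.charDegree (θ' : G → ℂ) = 1 := by
      rw [h1]
      unfold Cfsg.charDegree
      rw [Helper81.trivIrr_apply]
      simp
    omega
  · exfalso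
    have h2 := (T.hX1 θ' h1).1
    rw [hdeg'] at h2
    have h3 : (p : ℤ) ∣ 1 - (d : ℤ) := h2.dvd
    have h4 : (1 : ℤ) - (d : ℤ) = 0 := by
      apply Int.eq_zero_of_abs_lt_dvd h3
      rw [abs_lt]
      constructor <;> omega
    omega
  · exfalso
    have h2 := (T.hX2 θ' h1).1
    rw [hdeg'] at h2
    have h3 : (p : ℤ) ∣ -1 - (d : ℤ) := h2.dvd
    have h4 : (-1 : ℤ) - (d : ℤ) = 0 := by
      apply Int.eq_zero_of_abs_lt_dvd h3
      rw [abs_lt]
      constructor <;> omega
    omega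
  · have h2 := T.hYreg θ' h1 θ hθ g hg
    rw [hθ'] at h2
    exact h2

end Cfsg.Agent.Helper31
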