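import Cfsg.Agent.Helper23.FittingHall
import Cfsg.Agent.S1365

set_option autoImplicit false

namespace Cfsg.Agent.Helper31

open Cfsg Subgroup

universe u

variable {G : Type u} [Group G] [Finite G]

/-- UC. `U` is a complement of `M_σ` in `M' = U M_σ` (S1365; `U ∩ K M_σ = 1`; `U ≤ M`
normalizes `M_σ`: `Helper23.le_normalizer_piCoreOf (sigma M) M`). -/
theorem bg17_U_compl (hG : IsMinSimpleOddOrder G) {M K U : Subgroup G} (hM : IsCoatom M)
    (hKU : IsSigmaDecomposition M K U) (hK1 : K ≠ ⊥) : IsComplIn (sigmaCore M) U ⁅M, M⁆ := by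
  have h65 := (Cfsg.Agent.S1365.result hG M hM K U hKU hK1).1
  have hMσ : M ≤ normalizer (sigmaCore M : Set G) :=
    Cfsg.Agent.Helper23.le_normalizer_piCoreOf (sigma M) M
  obtain ⟨hUM, hKσM, hinf, hprod⟩ := hKU.compl
  refine ⟨?_, ?_, ?_, ?_⟩
  · rw [h65]; exact le_sup_right
  · rw [h65]; exact le_sup_left
  · rw [eq_bot_iff, ← hinf]
    intro x hx
    exact ⟨hx.2, (le_sup_right : sigmaCore M ≤ K ⊔ sigmaCore M) hx.1⟩
  · intro m hm
    rw [h65, sup_comm] at hm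
    have hm' : m ∈ ((sigmaCore M ⊔ U : Subgroup G) : Set G) := hm
    rw [coe_mul_of_right_le_normalizer_left (sigmaCore M) U (hUM.trans hMσ)] at hm'
    obtain ⟨a, ha, b, hb, rfl⟩ := hm'
    exact ⟨a, ha, b, hb, rfl⟩
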