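import Cfsg.Statements.S1383
import Mathlib

set_option autoImplicit false

/-!
# helper31: CALL BG83 (helper25, row S1383), core of the assembled piece SL2: `bg83_sl2_of` is the
verbatim conclusion of `bg83_sl2`, taking the statement of the pure lemma `sl2l_main` of CALL SL2L
(helper2) as a hypothesis (used with `Z := ⁅P, P⁆`).
-/

namespace Cfsg.Agent.Helper31

open Cfsg Subgroup
open scoped commutatorElement

universe u

/-- A nonabelian group of order `p³`: the centre has order `p` and equals the commutator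
subgroup. -/
theorem bg83_p3_facts {Q : Type*} [Group Q] [Finite Q] (p : ℕ) [Fact p.Prime]
    (hcard : Nat.card Q = p ^ 3) (hnab : commutator Q ≠ ⊥) :
    Nat.card (Subgroup.center Q) = p ∧ commutator Q = Subgroup.center Q := by
  have hp : p.Prime := Fact.out
  have hPG : IsPGroup p Q := IsPGroup.of_card hcard
  haveI : Nontrivial Q := by
    apply (Finite.one_lt_card_iff_nontrivial).mp
    rw [hcard]
    exact Nat.one_lt_pow (by norm_num) hp.one_lt
  have hZ1 : Subgroup.center Q ≠ ⊥ := by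
    haveI := hPG.center_nontrivial
    exact (Subgroup.nontrivial_iff_ne_bot _).mp inferInstance
  have hZtop : Subgroup.center Q ≠ ⊤ := by
    intro h
    apply hnab
    rw [eq_bot_iff, commutator_def, Subgroup.commutator_le]
    intro a _ b _
    rw [Subgroup.mem_bot, commutatorElement_eq_one_iff_mul_comm]
    have hb : b ∈ Subgroup.center Q := by rw [h]; exact Subgroup.mem_top b
    exact (Subgroup.mem_center_iff.mp hb a)
  obtain ⟨i, hi3, hi⟩ : ∃ i ≤ 3, Nat.card (Subgroup.center Q) = p ^ i := by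
    have hdvd : Nat.card (Subgroup.center Q) ∣ p ^ 3 := hcard ▸ Subgroup.card_subgroup_dvd_card _
    exact (Nat.dvd_prime_pow hp).mp hdvd
  have hidx : (Subgroup.center Q).index * Nat.card (Subgroup.center Q) = p ^ 3 := by
    rw [← hcard]
    exact Subgroup.index_mul_card _
  have hi0 : i ≠ 0 := by
    rintro rfl
    apply hZ1
    rw [pow_zero] at hi
    exact Subgroup.card_eq_one.mp hi
  have hi3' : i ≠ 3 := by
    rintro rfl
    apply hZtop
    exact (Subgroup.card_eq_iff_eq_top _).mp (hi.trans hcard.symm)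
  have hi2 : i ≠ 2 := by
    rintro rfl
    have hix : (Subgroup.center Q).index = p := by
      rw [hi] at hidx
      have h3 : (Subgroup.center Q).index * p ^ 2 = p * p ^ 2 := by rw [hidx]; ring
      exact Nat.eq_of_mul_eq_mul_right (pow_pos hp.pos 2) h3
    haveI : IsCyclic (Q ⧸ Subgroup.center Q) := by
      apply isCyclic_of_prime_card (p := p)
      rw [← Subgroup.index_eq_card]
      exact hix
    apply hZtop
    rw [eq_top_iff]
    intro a _
    rw [Subgroup.mem_center_iff]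
    intro b
    exact commutative_of_cyclic_center_quotient (QuotientGroup.mk' (Subgroup.center Q))
      (by rw [QuotientGroup.ker_mk']) b a
  have hi1 : i = 1 := by omega
  subst hi1
  rw [pow_one] at hi
  have hix : (Subgroup.center Q).index = p ^ 2 := by
    rw [hi] at hidx
    have h3 : (Subgroup.center Q).index * p = p ^ 2 * p := by rw [hidx]; ring
    exact Nat.eq_of_mul_eq_mul_right hp.pos h3
  have hle : commutator Q ≤ Subgroup.center Q := by
    rw [← Subgroup.Normal.quotient_commutative_iff_commutator_le]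
    have hq : Nat.card (Q ⧸ Subgroup.center Q) = p ^ 2 := by
      rw [← Subgroup.index_eq_card]
      exact hix
    exact IsPGroup.isMulCommutative_of_card_eq_prime_sq hq
  refine ⟨hi, Subgroup.eq_of_le_of_card_ge hle ?_⟩
  have hdvd : Nat.card (commutator Q) ∣ p := hi ▸ Subgroup.card_dvd_of_le hle
  rcases (Nat.dvd_prime hp).mp hdvd with h1 | h1
  · exact absurd (Subgroup.card_eq_one.mp h1) hnab
  · rw [hi, h1]

variable {G : Type u} [Group G] [Finite G]

/-- SL2 from the statement of `sl2l_main` (hypothesis `hmain`). -/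
theorem bg83_sl2_of
    (hmain : ∀ (p : ℕ), p.Prime → ∀ (P Z K : Subgroup G), Nat.card P = p ^ 3 → Z ≤ P →
      Nat.card Z = p → (∀ z ∈ Z, ∀ a ∈ P, z * a = a * z) →
      (∀ a ∈ P, (∀ b ∈ P, a * b = b * a) → a ∈ Z) →
      (∀ k ∈ K, ∀ a ∈ P, k * a * k⁻¹ ∈ P) →
      (∀ k ∈ K, ∀ k' ∈ K, k * k' = k' * k) →
      Odd (Nat.card K) → (Nat.card K).Coprime p →
      (∀ k ∈ K, k ≠ 1 → ∀ a ∈ P, k * a = a * k → a ∈ Z) →
      (∀ k ∈ K, ∀ z ∈ Z, k * z = z * k) →
      Nat.card K ∣ p - 1 ∨ Nat.card K ∣ p + 1)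
    (p : ℕ) [Fact p.Prime] (P K : Subgroup G)
    (hcard : Nat.card ↥P = p ^ 3) (hnab : ⁅P, P⁆ ≠ ⊥) (hK : IsCyclic ↥K)
    (hKP : K ≤ normalizer (P : Set G)) (hodd : Odd (Nat.card K)) (hcop : (Nat.card K).Coprime p)
    (hfpf : ∀ k ∈ K, k ≠ 1 → P ⊓ centralizer ({k} : Set G) = ⁅P, P⁆) :
    Nat.card K ∣ p - 1 ∨ Nat.card K ∣ p + 1 := by
  have hp : p.Prime := Fact.out
  have hmap : (commutator ↥P).map P.subtype = ⁅P, P⁆ := Subgroup.map_subtype_commutator P
  have hnab' : commutator ↥P ≠ ⊥ := by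
    intro h
    apply hnab
    rw [← hmap, h, Subgroup.map_bot]
  obtain ⟨hZcard, hZeq⟩ := bg83_p3_facts p hcard hnab'
  have hPP : ⁅P, P⁆ = (Subgroup.center ↥P).map P.subtype := by rw [← hmap, hZeq]
  -- membership in `⁅P, P⁆`
  have hmem : ∀ a : G, a ∈ ⁅P, P⁆ ↔ a ∈ P ∧ ∀ b ∈ P, b * a = a * b := by
    intro a
    rw [hPP, Subgroup.mem_map]
    constructor
    · rintro ⟨c, hc, rfl⟩
      refine ⟨c.2, fun b hb => ?_⟩
      have h3 := Subgroup.mem_center_iff.mp hc ⟨b, hb⟩
      exact congrArg Subtype.val h3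
    · rintro ⟨ha, hcomm⟩
      refine ⟨⟨a, ha⟩, ?_, rfl⟩
      rw [Subgroup.mem_center_iff]
      intro b
      exact Subtype.ext (hcomm b b.2)
  have hcardPP : Nat.card ↥⁅P, P⁆ = p := by
    rw [hPP, Subgroup.card_map_of_injective P.subtype_injective]
    exact hZcard
  obtain ⟨g, hg⟩ := hK.exists_generator
  refine hmain p hp P ⁅P, P⁆ K hcard (Subgroup.commutator_le_self P)
    hcardPP ?_ ?_ ?_ ?_ hodd hcop ?_ ?_
  · intro z hz a ha
    exact (((hmem z).1 hz).2 a ha).symm
  · intro a ha hcomm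
    exact (hmem a).2 ⟨ha, fun b hb => (hcomm b hb).symm⟩
  · intro k hk a ha
    exact (mem_normalizer_iff.mp (hKP hk) a).mp ha
  · intro k hk k' hk'
    obtain ⟨m, hm⟩ := Subgroup.mem_zpowers_iff.mp (hg ⟨k, hk⟩)
    obtain ⟨n, hn⟩ := Subgroup.mem_zpowers_iff.mp (hg ⟨k', hk'⟩)
    have h3 : (⟨k, hk⟩ : ↥K) * ⟨k', hk'⟩ = ⟨k', hk'⟩ * ⟨k, hk⟩ := by
      rw [← hm, ← hn]
      exact zpow_mul_comm g m n
    exact congrArg Subtype.val h3
  · intro k hk hk1 a ha hka
    rw [← hfpf k hk hk1]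
    refine Subgroup.mem_inf.mpr ⟨ha, ?_⟩
    rw [mem_centralizer_iff]
    intro h hh
    rw [Set.mem_singleton_iff] at hh
    rw [hh]
    exact hka
  · intro k hk z hz
    by_cases hk1 : k = 1
    · rw [hk1, one_mul, mul_one]
    · rw [← hfpf k hk hk1] at hz
      have h3 := mem_centralizer_iff.mp (Subgroup.mem_inf.mp hz).2 k (Set.mem_singleton k)
      exact h3

end Cfsg.Agent.Helper31
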