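import Cfsg.Statements.S1383
import Mathlib
import Cfsg.Agent.Helper31.BG83SL2core
import Cfsg.Agent.Helper2.SL2LMain

set_option autoImplicit false

/-!
# helper31: CALL BG83 (helper25, row S1383), the assembled piece SL2 (`bg83_sl2`, verbatim),
from `Cfsg.Agent.Helper2.sl2l_main` (CALL SL2L) via `bg83_sl2_of`.
-/

namespace Cfsg.Agent.Helper31

open Cfsg Subgroup

universe u

variable {G : Type u} [Group G] [Finite G]

/-- SL2 (assembled from SL2A + SL2B). -/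
theorem bg83_sl2 (p : ℕ) [Fact p.Prime] (hp2 : p ≠ 2) (P K : Subgroup G)
    (hcard : Nat.card ↥P = p ^ 3) (hnab : ⁅P, P⁆ ≠ ⊥) (hK : IsCyclic ↥K)
    (hKP : K ≤ normalizer (P : Set G)) (hodd : Odd (Nat.card K)) (hcop : (Nat.card K).Coprime p)
    (hfpf : ∀ k ∈ K, k ≠ 1 → P ⊓ centralizer ({k} : Set G) = ⁅P, P⁆) :
    Nat.card K ∣ p - 1 ∨ Nat.card K ∣ p + 1 :=
  bg83_sl2_of
    (fun _ hp _ _ _ h1 h2 h3 h4 h5 h6 h7 h8 h9 h10 h11 =>
      Cfsg.Agent.Helper2.sl2l_main hp h1 h2 h3 h4 h5 h6 h7 h8 h9 h10 h11)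
    p P K hcard hnab hK hKP hodd hcop hfpf

end Cfsg.Agent.Helper31
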