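import Mathlib
import Cfsg.Agent.Helper96.OHDefs
import Cfsg.Agent.Helper73.TLUGROW

/-!
# helper31: CALL S5992 piece OGROW (`o_grow`, verbatim): wrapper at `σ = RingHom.id F`.
-/

set_option autoImplicit false
set_option linter.unusedSectionVars false
set_option linter.unusedVariables false

namespace Cfsg.Agent.Helper31.OH5992

open Module Polynomial Cfsg Cfsg.Geo
open Cfsg.Agent.Helper13.TIu Cfsg.Agent.Helper96.OH

variable {ι : Type} [Fintype ι] [DecidableEq ι] {F : Type*} [Field F] (Q : (ι → F) → F)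

/-- OGROW: wrapper of `Cfsg.Agent.Helper73.TI5954.u_grow` at `σ = RingHom.id F`. -/
theorem o_grow (hQ : IsNondegenerateQuadraticForm Q) (T : Module.End F (ι → F)) (hT : OPres Q T)
    (r : ℕ) (hr0 : 0 < r) (hTr : T ^ r = 1) (c₀ : ℕ) (hc₀ : 0 < c₀) (M₀ : Submodule F (ι → F))
    (hatom : ∀ N : Submodule F (ι → F), N ≤ M₀ → N.map T ≤ N → ONd Q N → N ≠ ⊥ →
      ∃ E : Submodule F (ι → F), E ≤ N ∧ E.map T ≤ E ∧ ONd Q E ∧ finrank F E = c₀)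
    (N : Submodule F (ι → F)) (hNM : N ≤ M₀) (hNT : N.map T ≤ N) (hN : ONd Q N) (h₁ : ℕ)
    (hh : c₀ * h₁ ≤ finrank F N) :
    ∃ N₁ : Submodule F (ι → F), N₁ ≤ N ∧ N₁.map T ≤ N₁ ∧ ONd Q N₁ ∧ finrank F N₁ = c₀ * h₁ := by
  obtain ⟨N₁, h1, h2, h3, h4⟩ :=
    Cfsg.Agent.Helper73.TI5954.u_grow (pB Q hQ) id2 (LinearMap.BilinForm.isSymm_iff.1 (pB_symm Q hQ)) T (upres_of Q hQ T hT) r hr0
      hTr c₀ hc₀ M₀
      (fun N' hN'M hN'T hN'nd hN'0 => by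
        obtain ⟨E, hE1, hE2, hE3, hE4⟩ := hatom N' hN'M hN'T ((und_iff Q hQ N').1 hN'nd) hN'0
        exact ⟨E, hE1, hE2, (und_iff Q hQ E).2 hE3, hE4⟩)
      N hNM hNT ((und_iff Q hQ N).2 hN) h₁ hh
  exact ⟨N₁, h1, h2, (und_iff Q hQ N₁).1 h3, h4⟩

end Cfsg.Agent.Helper31.OH5992
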