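import Cfsg.Agent.Helper1.BGZMain
import Cfsg.Agent.Helper24.BG14B1
import Cfsg.Agent.Helper41.BG13P1
import Cfsg.Agent.Helper23.Trans

/-!
# CALL BGC (helper25), piece OR
-/

set_option autoImplicit false

namespace Cfsg.Agent.Helper31

open Cfsg Subgroup

universe u

variable {G : Type u} [Group G] [Finite G]

/-- OR. Elements of `N_σ` have order prime to `|M_σ|` when `σ(M) ∩ σ(N) = ∅`. -/
theorem bgc_coprime_order {M N : Subgroup G} (h : ∀ q : ℕ, q ∈ sigma M → q ∉ sigma N) {r : G}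
    (hr : r ∈ sigmaCore N) : (orderOf r).Coprime (Nat.card ↥(sigmaCore M)) := by
  apply Nat.coprime_of_dvd
  intro q hq hqr hqM
  have h1 : q ∈ sigma M := Cfsg.Agent.Helper23.mem_of_dvd_card_piCoreOf (sigma M) M hq hqM
  have h2 : q ∣ Nat.card ↥(sigmaCore N) := by
    have h3 : orderOf r ∣ Nat.card ↥(sigmaCore N) := by
      have := orderOf_dvd_natCard (⟨r, hr⟩ : ↥(sigmaCore N))
      rwa [Subgroup.orderOf_mk] at this
    exact hqr.trans h3
  have h4 : q ∈ sigma N := Cfsg.Agent.Helper23.mem_of_dvd_card_piCoreOf (sigma N) N hq h2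
  exact h q h1 h4

end Cfsg.Agent.Helper31
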