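import Mathlib

set_option autoImplicit false

/-!
# CALL S3413 (helper52), piece CARD
-/

namespace Cfsg.Agent.Helper31

open Subgroup

/-- The number of non-identity elements. -/
theorem cgm_card_ne_one_add_one {X : Type*} [Group X] [Finite X] :
    Nat.card {h : X // h ≠ 1} + 1 = Nat.card X := by
  classical
  have h1 : Nat.card {h : X // h ≠ 1} + Nat.card {h : X // ¬ h ≠ 1} = Nat.card X := by
    have := Nat.card_congr (Equiv.sumCompl (fun h : X => h ≠ 1))
    rw [Nat.card_sum] at this
    exact this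
  have h2 : Nat.card {h : X // ¬ h ≠ 1} = 1 := by
    rw [Nat.card_eq_one_iff_unique]
    refine ⟨⟨?_⟩, ⟨⟨1, by simp⟩⟩⟩
    rintro ⟨a, ha⟩ ⟨b, hb⟩
    apply Subtype.ext
    show a = b
    rw [not_not.mp ha, not_not.mp hb]
  rw [h2] at h1
  exact h1

/-- CARD -/
theorem cgm_card_eq {H M : Type*} [Group H] [Group M] [Finite H] [Finite M]
    (f : {h : H // h ≠ 1} ≃ {g : M // g ≠ 1}) : Nat.card H = Nat.card M := by
  have h1 := cgm_card_ne_one_add_one (X := H)
  have h2 := cgm_card_ne_one_add_one (X := M)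
  have h3 := Nat.card_congr f
  omega

end Cfsg.Agent.Helper31
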