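import Mathlib
import Cfsg.Prelude.Def_FusionSystem
import Cfsg.Agent.Helper31.EssA

set_option autoImplicit false

/-! Automorphisms of `S` in a saturated fusion system: action on the centre (helper31, for
S5265). -/

open Cfsg Cfsg.FusionSystem Cfsg.Agent.Helper84
open scoped commutatorElement

namespace Cfsg.Agent.Helper31

/-- The automorphisms fixing the centre elementwise. -/
def fixCenter (G : Type*) [Group G] : Subgroup (MulAut G) where
  carrier := {α | ∀ z ∈ Subgroup.center G, α z = z}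
  mul_mem' := by
    intro a b ha hb z hz
    show a (b z) = z
    rw [hb z hz, ha z hz]
  one_mem' := fun z _ => rfl
  inv_mem' := by
    intro a ha z hz
    have h1 := ha z hz
    have h2 := MulAut.inv_apply_self _ a z
    rw [h1] at h2
    exact h2

theorem mem_fixCenter {G : Type*} [Group G] {α : MulAut G} :
    α ∈ fixCenter G ↔ ∀ z ∈ Subgroup.center G, α z = z := Iff.rfl

instance fixCenter_normal (G : Type*) [Group G] : (fixCenter G).Normal := by
  constructor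
  intro α hα τ z hz
  show τ (α (τ⁻¹ z)) = z
  rw [hα _ (aut_center_mem τ⁻¹ hz), MulAut.apply_inv_self]

theorem aut_e_pow {G : Type*} [Group G] {p : ℕ} [Fact p.Prime] {e : G} (hep : e ^ p = 1)
    (hcomm : ∀ u v : G, ∃ k : ℕ, ⁅u, v⁆ = e ^ k) (hnc : ∃ a b : G, a * b ≠ b * a) (τ : MulAut G) :
    ∃ m : ℕ, τ e = e ^ m := by
  have hpp : p.Prime := Fact.out
  obtain ⟨a, b, hab⟩ := hnc
  obtain ⟨k, hk⟩ := hcomm a b
  have hk1 : e ^ k ≠ 1 := by
    intro h
    rw [h] at hk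
    exact hab (commutatorElement_eq_one_iff_commute.mp hk).eq
  have hkp : ¬ p ∣ k := by
    rintro ⟨s, rfl⟩
    apply hk1
    rw [pow_mul, hep, one_pow]
  have hcop : Nat.Coprime k p := (Nat.Coprime.symm ((Nat.Prime.coprime_iff_not_dvd hpp).mpr hkp))
  obtain ⟨k', -, hk'⟩ := Nat.exists_mul_mod_eq_one_of_coprime hcop hpp.one_lt
  have hE : (e ^ k) ^ k' = e := by
    rw [← pow_mul, pow_eq_pow_mod _ hep, hk', pow_one]
  obtain ⟨l, hl⟩ := hcomm (τ a) (τ b)
  refine ⟨l * k', ?_⟩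
  rw [pow_mul, ← hl, ← map_commutatorElement, hk, ← map_pow, hE]

variable {Ω : Type*} [Group Ω] {S : Subgroup Ω}

/-- An `F`-automorphism of `S` fixing `e` and acting trivially on the centre modulo `e` fixes the
centre elementwise. -/
theorem autS_fix_center [Finite S] {p : ℕ} [Fact p.Prime] (hS : IsPGroup p S) (F : FusionSystem S)
    (hF : F.IsSaturated p) {e : ↥S} (hep : e ^ p = 1) {δ : MulAut ↥S} (hδ : δ ∈ F.autGroup S)
    (hδe : δ e = e) (hδz : ∀ z ∈ Subgroup.center ↥S, ∃ k : ℕ, δ z = z * e ^ k) :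
    ∀ z ∈ Subgroup.center ↥S, δ z = z := by
  have hpp : p.Prime := Fact.out
  obtain ⟨⟨-, R, hR⟩, -⟩ := saturated_fullyNormalized hS F hF (fullyNormalized_self F)
  have h1 : (R : Subgroup (F.autGroup S)) ≤ (fixCenter ↥S).subgroupOf (F.autGroup S) := by
    rw [hR]
    intro α hα
    obtain ⟨s, hs⟩ := autInducedBy_self_le_inn hα
    rw [Subgroup.mem_subgroupOf, mem_fixCenter]
    intro z hz
    have hs' : (α : MulAut ↥S) = MulAut.conj s := hs.symm
    rw [hs']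
    show s * z * s⁻¹ = z
    rw [Subgroup.mem_center_iff.mp hz s]; group
  have h2 : ((fixCenter ↥S).subgroupOf (F.autGroup S)).index ∣ (R : Subgroup (F.autGroup S)).index :=
    Subgroup.index_dvd_of_le h1
  have h3 : ¬ p ∣ ((fixCenter ↥S).subgroupOf (F.autGroup S)).index :=
    fun h => R.not_dvd_index (h.trans h2)
  have h4 : (⟨δ, hδ⟩ : F.autGroup S) ^ ((fixCenter ↥S).subgroupOf (F.autGroup S)).index ∈
      (fixCenter ↥S).subgroupOf (F.autGroup S) := Subgroup.pow_index_mem _ _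
  have h5 : δ ^ ((fixCenter ↥S).subgroupOf (F.autGroup S)).index ∈ fixCenter ↥S := h4
  have hpow : ∀ (z : ↥S) (k : ℕ), δ z = z * e ^ k → ∀ n : ℕ, (δ ^ n) z = z * e ^ (k * n) := by
    intro z k hk n
    induction n with
    | zero => simp
    | succ n ih =>
      rw [pow_succ']
      show δ ((δ ^ n) z) = _
      rw [ih, map_mul, map_pow, hδe, hk, mul_assoc, ← pow_add, Nat.mul_succ, add_comm]
  have h6 : δ ^ p ∈ fixCenter ↥S := by
    intro z hz
    obtain ⟨k, hk⟩ := hδz z hz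
    rw [hpow z k hk p, pow_mul, pow_right_comm, hep, one_pow, mul_one]
  have hcop : Nat.Coprime ((fixCenter ↥S).subgroupOf (F.autGroup S)).index p :=
    (Nat.Coprime.symm ((Nat.Prime.coprime_iff_not_dvd hpp).mpr h3))
  exact mem_of_two_pow_mem_coprime (fixCenter ↥S) hcop h5 h6

/-- The restriction of an `F`-automorphism of `S` preserving `A`. -/
theorem restrict_mem_autGroup [Finite S] (F : FusionSystem S) {A : Subgroup Ω} (hA : A ≤ S)
    {α : MulAut ↥S} (hα : α ∈ F.autGroup S)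
    (hαA : ∀ a : ↥A, ((α ⟨(a : Ω), hA a.2⟩ : ↥S) : Ω) ∈ A) :
    ∃ β ∈ F.autGroup A, ∀ a : ↥A, ((β a : ↥A) : Ω) = ((α ⟨(a : Ω), hA a.2⟩ : ↥S) : Ω) := by
  have hfA : Finite A := finite_of_le hA
  have hφ : S.subtype.comp α.toMonoidHom ∈ F.Hom S := (mem_autGroup_iff F le_rfl α).mp hα
  have hθ : (S.subtype.comp α.toMonoidHom).comp (Subgroup.inclusion hA) ∈ F.Hom A :=
    hom_restrict F hφ hA
  have hinj := F.injective_of_mem hθ
  have hle : ((S.subtype.comp α.toMonoidHom).comp (Subgroup.inclusion hA)).range ≤ A := by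
    rintro _ ⟨a, rfl⟩
    exact hαA a
  have hcard : Nat.card ((S.subtype.comp α.toMonoidHom).comp (Subgroup.inclusion hA)).range =
      Nat.card A := (Nat.card_congr (MonoidHom.ofInjective hinj).toEquiv).symm
  have hr : ((S.subtype.comp α.toMonoidHom).comp (Subgroup.inclusion hA)).range = A :=
    Subgroup.eq_of_le_of_card_ge hle (by rw [hcard])
  exact ⟨isoOfHom _ hinj hr, (mem_autGroup_iff_isFIso F hA _).mpr (isFIso_isoOfHom F hθ hr),
    fun a => rfl⟩

/-- Automorphisms in `Aut_F(S)` squaring `e` and acting on the centre modulo `e`. -/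
def IsH2 (F : FusionSystem S) (e : ↥S) (α : MulAut ↥S) : Prop :=
  α ∈ F.autGroup S ∧ α e = e ^ 2 ∧ ∀ z ∈ Subgroup.center ↥S, ∃ k : ℕ, α z = z * e ^ k

theorem isH2_agree [Finite S] {p : ℕ} [Fact p.Prime] (hp2 : p ≠ 2) (hS : IsPGroup p S)
    (F : FusionSystem S) (hF : F.IsSaturated p) {e : ↥S} (hep : e ^ p = 1)
    {α β : MulAut ↥S} (hα : IsH2 F e α) (hβ : IsH2 F e β) :
    ∀ z ∈ Subgroup.center ↥S, α z = β z := by
  have hpp : p.Prime := Fact.out
  obtain ⟨q, hq⟩ : ∃ q, p = 2 * q + 1 := by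
    rcases hpp.eq_two_or_odd with h | h
    · exact absurd h hp2
    · exact ⟨p / 2, by omega⟩
  have hαe : α⁻¹ e = e ^ (q + 1) := by
    have h1 : α (e ^ (q + 1)) = e := by
      rw [map_pow, hα.2.1, ← pow_mul]
      have : 2 * (q + 1) = p + 1 := by omega
      rw [this, pow_succ, hep, one_mul]
    calc α⁻¹ e = α⁻¹ (α (e ^ (q + 1))) := by rw [h1]
      _ = e ^ (q + 1) := MulAut.inv_apply_self _ _ _
  have hδ : α⁻¹ * β ∈ F.autGroup S := (F.autGroup S).mul_mem ((F.autGroup S).inv_mem hα.1) hβ.1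
  have hδe : (α⁻¹ * β) e = e := by
    show α⁻¹ (β e) = e
    rw [hβ.2.1, ← hα.2.1, MulAut.inv_apply_self]
  have hδz : ∀ z ∈ Subgroup.center ↥S, ∃ k : ℕ, (α⁻¹ * β) z = z * e ^ k := by
    intro z hz
    obtain ⟨k, hk⟩ := hβ.2.2 z hz
    obtain ⟨j, hj⟩ := hα.2.2 (α⁻¹ z) (aut_center_mem α⁻¹ hz)
    rw [MulAut.apply_inv_self] at hj
    have hz' : α⁻¹ z = z * e ^ (j * (p - 1)) := by
      have h1 : e ^ j * e ^ (j * (p - 1)) = 1 := by
        rw [← pow_add]
        have : j + j * (p - 1) = j * p := by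
          have := hpp.pos
          obtain ⟨r, hr⟩ : ∃ r, p = r + 1 := ⟨p - 1, by omega⟩
          rw [hr]; simp; ring
        rw [this, pow_mul, pow_right_comm, hep, one_pow]
      nth_rewrite 2 [hj]
      rw [mul_assoc, h1, mul_one]
    refine ⟨j * (p - 1) + (q + 1) * k, ?_⟩
    show α⁻¹ (β z) = _
    rw [hk, map_mul, map_pow, hαe, hz', ← pow_mul, mul_assoc, ← pow_add]
  intro z hz
  have h := autS_fix_center hS F hF hep hδ hδe hδz z hz
  have h' : α⁻¹ (β z) = z := h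
  calc α z = α (α⁻¹ (β z)) := by rw [h']
    _ = β z := MulAut.apply_inv_self _ _ _

theorem isH2_conj {p : ℕ} [Fact p.Prime] (F : FusionSystem S) {e : ↥S} (hep : e ^ p = 1)
    (hcomm : ∀ u v : ↥S, ∃ k : ℕ, ⁅u, v⁆ = e ^ k) (hnc : ∃ a b : ↥S, a * b ≠ b * a)
    {α τ : MulAut ↥S} (hα : IsH2 F e α) (hτ : τ ∈ F.autGroup S) : IsH2 F e (τ⁻¹ * α * τ) := by
  obtain ⟨m, hm⟩ := aut_e_pow hep hcomm hnc τ
  obtain ⟨m', hm'⟩ := aut_e_pow hep hcomm hnc τ⁻¹
  refine ⟨(F.autGroup S).mul_mem ((F.autGroup S).mul_mem ((F.autGroup S).inv_mem hτ) hα.1) hτ,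
    ?_, fun z hz => ?_⟩
  · show τ⁻¹ (α (τ e)) = e ^ 2
    rw [hm, map_pow, hα.2.1, ← pow_mul, mul_comm, pow_mul, ← hm, map_pow, MulAut.inv_apply_self]
  · obtain ⟨k, hk⟩ := hα.2.2 (τ z) (aut_center_mem τ hz)
    refine ⟨m' * k, ?_⟩
    show τ⁻¹ (α (τ z)) = _
    rw [hk, map_mul, MulAut.inv_apply_self, map_pow, hm', ← pow_mul]

theorem isH2_fix_comm [Finite S] {p : ℕ} [Fact p.Prime] (hp2 : p ≠ 2) (hS : IsPGroup p S)
    (F : FusionSystem S) (hF : F.IsSaturated p) {e : ↥S} (hep : e ^ p = 1)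
    (hcomm : ∀ u v : ↥S, ∃ k : ℕ, ⁅u, v⁆ = e ^ k) (hnc : ∃ a b : ↥S, a * b ≠ b * a)
    {α τ : MulAut ↥S} (hα : IsH2 F e α) (hτ : τ ∈ F.autGroup S) {z : ↥S}
    (hz : z ∈ Subgroup.center ↥S) (hαz : α z = z) : α (τ z) = τ z := by
  have h1 := isH2_agree hp2 hS F hF hep (isH2_conj F hep hcomm hnc hα hτ) hα z hz
  have h2 : τ⁻¹ (α (τ z)) = α z := h1
  rw [hαz] at h2
  calc α (τ z) = τ (τ⁻¹ (α (τ z))) := (MulAut.apply_inv_self _ _ _).symm
    _ = τ z := by rw [h2]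

end Cfsg.Agent.Helper31
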