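import Mathlib
import Cfsg.Agent.Helper31.TvAbs2

set_option autoImplicit false

/-! Transvection pairs for `p = 2`: the common fixed points, the Frattini argument and the
four-group spanned by the centres (helper31, for S5265). -/

namespace Cfsg.Agent.Helper31

section TvFour

variable {A : Type*} [CommGroup A] [Finite A]

theorem tv2_fix_conj {Γ : Subgroup (MulAut A)}
    (hmax : ∀ Y : Subgroup (MulAut A), Y ≤ Γ → IsPGroup 2 Y → Nat.card Y ≤ 2)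
    {c y : MulAut A} {e₁ e₂ : A} (hcΓ : c ∈ Γ) (hyΓ : y ∈ Γ)
    (hc : IsTv 2 c e₁) (hy : IsTv 2 y e₂)
    (hce₂ : c e₂ ≠ e₂) (hye₁ : y e₁ ≠ e₁) {a : A} (hca : c a = a) (hya : y a = a)
    (g : MulAut A) (hg : g ∈ Γ) : (g * c * g⁻¹) a = a := by
  have hyinv : y⁻¹ a = a := by
    have := MulAut.inv_apply_self _ y a
    rwa [hya] at this
  rcases tv2_conj_cases hmax hcΓ hyΓ hc hy hce₂ hye₁ g hg with ⟨-, h⟩ | ⟨-, h⟩ | ⟨-, h⟩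
  · rw [h]; exact hca
  · rw [h]; exact hya
  · rw [h]
    show y (c (y⁻¹ a)) = a
    rw [hyinv, hca, hya]

theorem tv2_K_inv {Γ : Subgroup (MulAut A)}
    (hmax : ∀ Y : Subgroup (MulAut A), Y ≤ Γ → IsPGroup 2 Y → Nat.card Y ≤ 2)
    {c y : MulAut A} {e₁ e₂ : A} (hcΓ : c ∈ Γ) (hyΓ : y ∈ Γ)
    (hc : IsTv 2 c e₁) (hy : IsTv 2 y e₂)
    (hce₂ : c e₂ ≠ e₂) (hye₁ : y e₁ ≠ e₁) {γ₀ : MulAut A} (hγ₀ : γ₀ ∈ Γ)
    (hyd : y = γ₀ * c * γ₀⁻¹) {a : A} (hca : c a = a) (hya : y a = a)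
    (γ : MulAut A) (hγ : γ ∈ Γ) : c (γ a) = γ a ∧ y (γ a) = γ a := by
  constructor
  · have h1 := tv2_fix_conj hmax hcΓ hyΓ hc hy hce₂ hye₁ hca hya γ⁻¹ (Γ.inv_mem hγ)
    rw [inv_inv] at h1
    have h2 : γ⁻¹ (c (γ a)) = a := h1
    calc c (γ a) = γ (γ⁻¹ (c (γ a))) := (MulAut.apply_inv_self _ _ _).symm
      _ = γ a := by rw [h2]
  · have h1 := tv2_fix_conj hmax hcΓ hyΓ hc hy hce₂ hye₁ hca hya (γ⁻¹ * γ₀)
      (Γ.mul_mem (Γ.inv_mem hγ) hγ₀)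
    have hconj : γ⁻¹ * γ₀ * c * (γ⁻¹ * γ₀)⁻¹ = γ⁻¹ * (γ₀ * c * γ₀⁻¹) * γ := by group
    rw [hconj, ← hyd] at h1
    have h2 : γ⁻¹ (y (γ a)) = a := h1
    calc y (γ a) = γ (γ⁻¹ (y (γ a))) := (MulAut.apply_inv_self _ _ _).symm
      _ = γ a := by rw [h2]

/-- The elements all of whose `Γ`-images are fixed by `c` are the common fixed points of `c`
and `y`. -/
theorem tv2_K_iff {Γ : Subgroup (MulAut A)}
    (hmax : ∀ Y : Subgroup (MulAut A), Y ≤ Γ → IsPGroup 2 Y → Nat.card Y ≤ 2)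
    {c y : MulAut A} {e₁ e₂ : A} (hcΓ : c ∈ Γ) (hyΓ : y ∈ Γ)
    (hc : IsTv 2 c e₁) (hy : IsTv 2 y e₂)
    (hce₂ : c e₂ ≠ e₂) (hye₁ : y e₁ ≠ e₁) {γ₀ : MulAut A} (hγ₀ : γ₀ ∈ Γ)
    (hyd : y = γ₀ * c * γ₀⁻¹) (a : A) :
    (∀ γ ∈ Γ, c (γ a) = γ a) ↔ (c a = a ∧ y a = a) := by
  constructor
  · intro h
    refine ⟨h 1 Γ.one_mem, ?_⟩
    have h1 := h γ₀⁻¹ (Γ.inv_mem hγ₀)
    rw [hyd]
    show γ₀ (c (γ₀⁻¹ a)) = a
    rw [h1, MulAut.apply_inv_self]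
  · rintro ⟨hca, hya⟩ γ hγ
    exact (tv2_K_inv hmax hcΓ hyΓ hc hy hce₂ hye₁ hγ₀ hyd hca hya γ hγ).1

/-- Frattini argument: on the common fixed points every element of `Γ` agrees with an element
fixing `e₁`. -/
theorem tv2_frattini {Γ : Subgroup (MulAut A)}
    (hmax : ∀ Y : Subgroup (MulAut A), Y ≤ Γ → IsPGroup 2 Y → Nat.card Y ≤ 2)
    {c y : MulAut A} {e₁ e₂ : A} (hcΓ : c ∈ Γ) (hyΓ : y ∈ Γ)
    (hc : IsTv 2 c e₁) (hy : IsTv 2 y e₂)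
    (hce₂ : c e₂ ≠ e₂) (hye₁ : y e₁ ≠ e₁) {γ₀ : MulAut A} (hγ₀ : γ₀ ∈ Γ)
    (hyd : y = γ₀ * c * γ₀⁻¹) (γ : MulAut A) (hγ : γ ∈ Γ) :
    ∃ ν ∈ Γ, ν e₁ = e₁ ∧ ∀ a, c a = a → y a = a → ν a = γ a := by
  rcases tv2_conj_cases hmax hcΓ hyΓ hc hy hce₂ hye₁ γ hγ with ⟨h, -⟩ | ⟨h, -⟩ | ⟨h, -⟩
  · exact ⟨γ, hγ, h, fun a _ _ => rfl⟩
  · have hl : (c * y) e₁ = e₂ := by
      show c (y e₁) = e₂
      rw [tv2_apply hy hye₁, map_mul, hc.2.1, tv2_apply hc hce₂]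
      have h1 : e₁ * e₁ = 1 := by rw [← pow_two]; exact hc.1
      calc e₁ * (e₂ * e₁) = e₂ * (e₁ * e₁) := by ac_rfl
        _ = e₂ := by rw [h1, mul_one]
    refine ⟨(c * y)⁻¹ * γ, Γ.mul_mem (Γ.inv_mem (Γ.mul_mem hcΓ hyΓ)) hγ, ?_, fun a hca hya => ?_⟩
    · show (c * y)⁻¹ (γ e₁) = e₁
      rw [h]
      nth_rewrite 1 [← hl]
      exact MulAut.inv_apply_self _ _ _
    · show (c * y)⁻¹ (γ a) = γ a
      obtain ⟨h1, h2⟩ := tv2_K_inv hmax hcΓ hyΓ hc hy hce₂ hye₁ hγ₀ hyd hca hya γ hγ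
      have h3 : (c * y) (γ a) = γ a := by
        show c (y (γ a)) = γ a
        rw [h2, h1]
      have := MulAut.inv_apply_self _ (c * y) (γ a)
      rw [h3] at this; exact this
  · refine ⟨y⁻¹ * γ, Γ.mul_mem (Γ.inv_mem hyΓ) hγ, ?_, fun a hca hya => ?_⟩
    · show y⁻¹ (γ e₁) = e₁
      rw [h, ← tv2_apply hy hye₁]
      exact MulAut.inv_apply_self _ _ _
    · show y⁻¹ (γ a) = γ a
      obtain ⟨h1, h2⟩ := tv2_K_inv hmax hcΓ hyΓ hc hy hce₂ hye₁ hγ₀ hyd hca hya γ hγ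
      have := MulAut.inv_apply_self _ y (γ a)
      rw [h2] at this; exact this

/-- The subgroup spanned by the two centres is `Γ`-invariant. -/
theorem tv2_W_map {Γ : Subgroup (MulAut A)}
    (hmax : ∀ Y : Subgroup (MulAut A), Y ≤ Γ → IsPGroup 2 Y → Nat.card Y ≤ 2)
    {c y : MulAut A} {e₁ e₂ : A} (hcΓ : c ∈ Γ) (hyΓ : y ∈ Γ)
    (hc : IsTv 2 c e₁) (hy : IsTv 2 y e₂)
    (hce₂ : c e₂ ≠ e₂) (hye₁ : y e₁ ≠ e₁) {γ₀ : MulAut A} (hγ₀ : γ₀ ∈ Γ)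
    (he₂ : e₂ = γ₀ e₁) (γ : MulAut A) (hγ : γ ∈ Γ) {w : A}
    (hw : w ∈ Subgroup.closure ({e₁, e₂} : Set A)) :
    γ w ∈ Subgroup.closure ({e₁, e₂} : Set A) := by
  have m1 : e₁ ∈ Subgroup.closure ({e₁, e₂} : Set A) := Subgroup.subset_closure (by simp)
  have m2 : e₂ ∈ Subgroup.closure ({e₁, e₂} : Set A) := Subgroup.subset_closure (by simp)
  have key : ∀ g ∈ Γ, g e₁ ∈ Subgroup.closure ({e₁, e₂} : Set A) := by
    intro g hg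
    rcases tv2_conj_cases hmax hcΓ hyΓ hc hy hce₂ hye₁ g hg with ⟨h, -⟩ | ⟨h, -⟩ | ⟨h, -⟩
    · rw [h]; exact m1
    · rw [h]; exact m2
    · rw [h]; exact Subgroup.mul_mem _ m1 m2
  have hle : Subgroup.closure ({e₁, e₂} : Set A) ≤
      (Subgroup.closure ({e₁, e₂} : Set A)).comap γ.toMonoidHom := by
    rw [Subgroup.closure_le]
    intro v hv
    rcases Set.mem_insert_iff.mp hv with h1 | h1
    · rw [h1]; exact key γ hγ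
    · rw [Set.mem_singleton_iff.mp h1]
      show γ e₂ ∈ Subgroup.closure ({e₁, e₂} : Set A)
      have h2 : γ e₂ = (γ * γ₀) e₁ := by rw [he₂]; rfl
      rw [h2]
      exact key (γ * γ₀) (Γ.mul_mem hγ hγ₀)
  exact hle hw

omit [Finite A] in
theorem tv2_decomp {c y : MulAut A} {e₁ e₂ : A} (hc : IsTv 2 c e₁) (hy : IsTv 2 y e₂)
    (hce₂ : c e₂ ≠ e₂) (hye₁ : y e₁ ≠ e₁) (a : A) :
    ∃ d w, a = d * w ∧ c d = d ∧ y d = d ∧ w ∈ Subgroup.closure ({e₁, e₂} : Set A) := by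
  have m1 : e₁ ∈ Subgroup.closure ({e₁, e₂} : Set A) := Subgroup.subset_closure (by simp)
  have m2 : e₂ ∈ Subgroup.closure ({e₁, e₂} : Set A) := Subgroup.subset_closure (by simp)
  obtain ⟨l, hl⟩ := tv_decomp (p := 2) hc hce₂ a
  obtain ⟨k, hk⟩ := tv_decomp (p := 2) hy hye₁ (a * e₂ ^ l)
  refine ⟨a * e₂ ^ l * e₁ ^ k, (e₂ ^ l * e₁ ^ k)⁻¹, ?_, ?_, hk, ?_⟩
  · group
  · rw [map_mul, hl, map_pow, hc.2.1]
  · exact Subgroup.inv_mem _ (Subgroup.mul_mem _ (Subgroup.pow_mem _ m2 l) (Subgroup.pow_mem _ m1 k))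

omit [Finite A] in
theorem tv2_W_cases {c y : MulAut A} {e₁ e₂ : A} (hc : IsTv 2 c e₁) (hy : IsTv 2 y e₂) {w : A}
    (hw : w ∈ Subgroup.closure ({e₁, e₂} : Set A)) :
    w = 1 ∨ w = e₁ ∨ w = e₂ ∨ w = e₁ * e₂ := by
  obtain ⟨m, n, rfl⟩ := Subgroup.mem_closure_pair.mp hw
  rcases mem_zpowers_two hc.1 (Subgroup.zpow_mem_zpowers e₁ m) with h1 | h1 <;>
  rcases mem_zpowers_two hy.1 (Subgroup.zpow_mem_zpowers e₂ n) with h2 | h2 <;>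
  rw [h1, h2] <;> simp

omit [Finite A] in
theorem tv2_W_inter {c y : MulAut A} {e₁ e₂ : A} (hc : IsTv 2 c e₁) (hy : IsTv 2 y e₂)
    (hce₂ : c e₂ ≠ e₂) (hye₁ : y e₁ ≠ e₁) {w : A}
    (hw : w ∈ Subgroup.closure ({e₁, e₂} : Set A)) (hcw : c w = w) (hyw : y w = w) : w = 1 := by
  rcases tv2_W_cases hc hy hw with h | h | h | h
  · exact h
  · exfalso; rw [h] at hyw; exact hye₁ hyw
  · exfalso; rw [h] at hcw; exact hce₂ hcw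
  · exfalso
    rw [h, map_mul, hc.2.1, tv2_apply hc hce₂] at hcw
    have h1 : e₁ = 1 := by
      have : e₁ * e₂ * e₁ = e₁ * e₂ * 1 := by rw [mul_one, mul_assoc]; exact hcw
      exact mul_left_cancel this
    apply hye₁
    rw [h1]; exact map_one y

omit [Finite A] in
theorem tv2_no_sqrt {c y : MulAut A} {e₁ e₂ : A} (hc : IsTv 2 c e₁) (hy : IsTv 2 y e₂)
    (hye₁ : y e₁ ≠ e₁) (a : A) : a * a ≠ e₁ := by
  intro hsq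
  obtain ⟨k, hk⟩ := tv_decomp (p := 2) hy hye₁ a
  have h1 : (a * e₁ ^ k) * (a * e₁ ^ k) = e₁ := by
    have h2 : e₁ ^ k * e₁ ^ k = 1 := by rw [← pow_add, ← two_mul, pow_mul, hc.1, one_pow]
    calc (a * e₁ ^ k) * (a * e₁ ^ k) = (a * a) * (e₁ ^ k * e₁ ^ k) := by ac_rfl
      _ = e₁ := by rw [h2, mul_one, hsq]
  apply hye₁
  rw [← h1, map_mul, hk]

end TvFour

end Cfsg.Agent.Helper31
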