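import Mathlib
import Cfsg.Prelude.Def_FusionSystem
import Cfsg.Agent.Helper31.EssB
import Cfsg.Agent.Helper31.TvAbs4

set_option autoImplicit false

/-! The case `p = 2` of S5265: involutions in class-two groups, inner automorphisms, and the
transvection-pair data of an essential subgroup (helper31). -/

open Cfsg Cfsg.FusionSystem Cfsg.Agent.Helper84
open scoped commutatorElement

namespace Cfsg.Agent.Helper31

theorem pow_two_cases {G : Type*} [Group G] {g : G} (hg : g * g = 1) (n : ℕ) :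
    g ^ n = 1 ∨ g ^ n = g := by
  rcases Nat.even_or_odd n with ⟨j, hj⟩ | ⟨j, hj⟩
  · left; rw [hj, ← two_mul, pow_mul, pow_two, hg, one_pow]
  · right; rw [hj, pow_succ, pow_mul, pow_two, hg, one_pow, one_mul]

/-- In a `2`-group of class two with centre of index `4` in which no central element squares to
`e`: an involution commutes with one of two given non-commuting involutions. -/
theorem cls2_invol {G : Type*} [Group G] [Finite G] (hidx : (Subgroup.center G).index = 2 ^ 2)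
    {e : G} (hcomm : ∀ u v : G, ∃ k : ℕ, ⁅u, v⁆ = e ^ k) (hep : e * e = 1)
    (hns : ∀ z ∈ Subgroup.center G, z * z ≠ e)
    {u v w : G} (hu : u * u = 1) (hv : v * v = 1) (huv : u * v ≠ v * u) (hw : w * w = 1) :
    w * u = u * w ∨ w * v = v * w := by
  have hunc : u ∉ Subgroup.center G := fun h => huv (Subgroup.mem_center_iff.mp h v).symm
  obtain ⟨hH1, hH2⟩ := cls2_centralizer_between hunc
  have huH : u ∈ Subgroup.centralizer ({u} : Set G) := by
    rw [Subgroup.mem_centralizer_iff]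
    intro h hh
    rw [Set.mem_singleton_iff.mp hh]
  have hvH : v ∉ Subgroup.centralizer ({u} : Set G) := by
    intro h
    exact huv (Subgroup.mem_centralizer_iff.mp h u rfl)
  obtain ⟨h, hh, j, hj⟩ := cls2_between_mul_pow hidx hH1 hH2 hvH w
  obtain ⟨z, hz, i, hi⟩ := cls2_between_decomp hidx hH1 hH2 huH hunc hh
  have hzc : ∀ g : G, g * z = z * g := fun g => Subgroup.mem_center_iff.mp hz g
  rcases pow_two_cases hu i with hi' | hi' <;> rcases pow_two_cases hv j with hj' | hj'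
  · left
    rw [hj, hi, hi', hj', mul_one, mul_one]
    exact (hzc u).symm
  · right
    rw [hj, hi, hi', hj', mul_one, ← mul_assoc v z v, hzc v]
  · left
    rw [hj, hi, hi', hj', mul_one, ← mul_assoc u z u, hzc u]
  · exfalso
    rw [hi, hi', hj'] at hj
    have huinv : u⁻¹ = u := inv_eq_of_mul_eq_one_left hu
    have hvinv : v⁻¹ = v := inv_eq_of_mul_eq_one_left hv
    have heinv : e⁻¹ = e := inv_eq_of_mul_eq_one_left hep
    obtain ⟨k, hk⟩ := hcomm u v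
    have hc : u * v * u * v = e := by
      have h1 : ⁅u, v⁆ = u * v * u * v := by
        rw [commutatorElement_def, huinv, hvinv]
      rcases pow_two_cases hep k with hk' | hk'
      · exfalso
        rw [hk'] at hk
        exact huv (commutatorElement_eq_one_iff_commute.mp hk).eq
      · rw [← h1, hk, hk']
    have h2 : w * w = z * z * e := by
      rw [hj, ← hc]
      calc z * u * v * (z * u * v) = z * ((u * v) * z) * (u * v) := by group
        _ = z * (z * (u * v)) * (u * v) := by rw [hzc]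
        _ = z * z * (u * v * u * v) := by group
    rw [hw] at h2
    apply hns z hz
    have h3 : z * z = e⁻¹ := eq_inv_of_mul_eq_one_left h2.symm
    rw [h3, heinv]

/-- An automorphism mapping one noncentral element of an intermediate subgroup into it preserves
that subgroup. -/
theorem cls2_aut_mem_of_mem {G : Type*} [Group G] [Finite G] {p : ℕ} [Fact p.Prime]
    (hidx : (Subgroup.center G).index = p ^ 2) {H : Subgroup G}
    (h1 : Subgroup.center G < H) (h2 : H < ⊤) (α : MulAut G) {a : G} (ha : a ∈ H)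
    (ha' : a ∉ Subgroup.center G) (hαa : α a ∈ H) : ∀ s ∈ H, α s ∈ H := by
  have hαa' : α a ∉ Subgroup.center G := by
    intro h
    apply ha'
    have := aut_center_mem α⁻¹ h
    rwa [MulAut.inv_apply_self] at this
  have hH := cls2_eq_centralizer hidx h1 h2 hαa hαa'
  intro s hs
  have h3 : α s ∈ Subgroup.centralizer ({α a} : Set G) := by
    rw [Subgroup.mem_centralizer_iff]
    intro g hg
    rw [Set.mem_singleton_iff.mp hg, ← map_mul, ← map_mul, cls2_between_comm hidx h1 h2 ha hs]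
  rw [hH]; exact h3

theorem inn_normal' (G : Type*) [Group G] : (Inn G).Normal := by
  constructor
  rintro _ ⟨s, rfl⟩ τ
  refine ⟨τ s, ?_⟩
  ext t
  show τ s * t * (τ s)⁻¹ = τ (s * τ⁻¹ t * s⁻¹)
  rw [map_mul, map_mul, map_inv, MulAut.apply_inv_self]

variable {Ω : Type*} [Group Ω] {S : Subgroup Ω}

/-- Some power of an `F`-automorphism of `S`, with exponent prime to `p`, is inner. -/
theorem exists_pow_mem_inn [Finite S] {p : ℕ} [Fact p.Prime] (hS : IsPGroup p S)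
    (F : FusionSystem S) (hF : F.IsSaturated p) {α : MulAut ↥S} (hα : α ∈ F.autGroup S) :
    ∃ M : ℕ, ¬ p ∣ M ∧ α ^ M ∈ Inn ↥S := by
  haveI := inn_normal' ↥S
  obtain ⟨⟨-, R, hR⟩, -⟩ := saturated_fullyNormalized hS F hF (fullyNormalized_self F)
  have h1 : (R : Subgroup (F.autGroup S)) ≤ (Inn ↥S).subgroupOf (F.autGroup S) := by
    rw [hR]
    intro x hx
    exact autInducedBy_self_le_inn hx
  have h2 : ((Inn ↥S).subgroupOf (F.autGroup S)).index ∣ (R : Subgroup (F.autGroup S)).index :=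
    Subgroup.index_dvd_of_le h1
  have h3 : ¬ p ∣ ((Inn ↥S).subgroupOf (F.autGroup S)).index :=
    fun h => R.not_dvd_index (h.trans h2)
  have h4 : (⟨α, hα⟩ : F.autGroup S) ^ ((Inn ↥S).subgroupOf (F.autGroup S)).index ∈
      (Inn ↥S).subgroupOf (F.autGroup S) := Subgroup.pow_index_mem _ _
  exact ⟨_, h3, h4⟩

/-- The data of an essential subgroup for `p = 2`: a conjugate `γ₀ c γ₀⁻¹` outside `⟨c⟩`. -/
structure EssTwo (F : FusionSystem S) (e : ↥S) (A : Subgroup Ω) (x : ↥S) (c : MulAut ↥A)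
    (eA : ↥A) (γ₀ : MulAut ↥A) : Prop where
  pack : EssPack 2 F e A x c eA
  mem : γ₀ ∈ F.autGroup A
  ce : c (γ₀ eA) ≠ γ₀ eA
  ye : (γ₀ * c * γ₀⁻¹) eA ≠ eA

theorem exists_essTwo [Finite S] {F : FusionSystem S} {e : ↥S} {A : Subgroup Ω} {x : ↥S}
    {c : MulAut ↥A} {eA : ↥A} (hP : EssPack 2 F e A x c eA) : ∃ γ₀, EssTwo F e A x c eA γ₀ := by
  have hfA : Finite A := finite_of_le hP.le
  obtain ⟨γ, hγ, hγc⟩ := hP.exists_valid
  have hyΓ : γ * c * γ⁻¹ ∈ F.autGroup A :=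
    (F.autGroup A).mul_mem ((F.autGroup A).mul_mem hγ hP.c_mem) ((F.autGroup A).inv_mem hγ)
  have hy1 : γ * c * γ⁻¹ ≠ 1 := fun h => hγc (h ▸ Subgroup.one_mem _)
  letI : CommGroup ↥A := commGroupOfComm hP.comm
  have hcTv : IsTv 2 c eA := ⟨hP.eA_pow, hP.c_eA, hP.c_tv⟩
  have hyTv : IsTv 2 (γ * c * γ⁻¹) (γ eA) := hcTv.conj γ
  have hcy : c ∉ Subgroup.zpowers (γ * c * γ⁻¹) :=
    not_mem_zpowers_symm hcTv.pow_p hyTv.pow_p hP.c_ne hy1 hγc
  exact ⟨γ, hP, hγ, tv_not_fix hP.hmax hP.c_mem hyΓ hcTv hyTv hy1 hcy,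
    tv_not_fix hP.hmax hyΓ hP.c_mem hyTv hcTv hP.c_ne hγc⟩

section EssTwoLemmas

variable [Finite S] {F : FusionSystem S} {e : ↥S} {A : Subgroup Ω} {x : ↥S} {c : MulAut ↥A}
  {eA : ↥A} {γ₀ : MulAut ↥A}

theorem EssTwo.y_mem (hT : EssTwo F e A x c eA γ₀) : γ₀ * c * γ₀⁻¹ ∈ F.autGroup A :=
  (F.autGroup A).mul_mem ((F.autGroup A).mul_mem hT.mem hT.pack.c_mem) ((F.autGroup A).inv_mem hT.mem)

theorem EssTwo.K_iff (hT : EssTwo F e A x c eA γ₀) (a : ↥A) :
    (∀ γ ∈ F.autGroup A, c (γ a) = γ a) ↔ (c a = a ∧ (γ₀ * c * γ₀⁻¹) a = a) := by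
  have hfA : Finite A := finite_of_le hT.pack.le
  letI : CommGroup ↥A := commGroupOfComm hT.pack.comm
  have hcTv : IsTv 2 c eA := ⟨hT.pack.eA_pow, hT.pack.c_eA, hT.pack.c_tv⟩
  exact tv2_K_iff hT.pack.hmax hT.pack.c_mem hT.y_mem hcTv (hcTv.conj γ₀) hT.ce hT.ye hT.mem rfl a

theorem EssTwo.K_inv (hT : EssTwo F e A x c eA γ₀) {a : ↥A} (hca : c a = a)
    (hya : (γ₀ * c * γ₀⁻¹) a = a) {γ : MulAut ↥A} (hγ : γ ∈ F.autGroup A) :
    c (γ a) = γ a ∧ (γ₀ * c * γ₀⁻¹) (γ a) = γ a := by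
  have hfA : Finite A := finite_of_le hT.pack.le
  letI : CommGroup ↥A := commGroupOfComm hT.pack.comm
  have hcTv : IsTv 2 c eA := ⟨hT.pack.eA_pow, hT.pack.c_eA, hT.pack.c_tv⟩
  exact tv2_K_inv hT.pack.hmax hT.pack.c_mem hT.y_mem hcTv (hcTv.conj γ₀) hT.ce hT.ye hT.mem rfl
    hca hya γ hγ

theorem EssTwo.frattini (hT : EssTwo F e A x c eA γ₀) {γ : MulAut ↥A} (hγ : γ ∈ F.autGroup A) :
    ∃ ν ∈ F.autGroup A, ν eA = eA ∧ ∀ a, c a = a → (γ₀ * c * γ₀⁻¹) a = a → ν a = γ a := by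
  have hfA : Finite A := finite_of_le hT.pack.le
  letI : CommGroup ↥A := commGroupOfComm hT.pack.comm
  have hcTv : IsTv 2 c eA := ⟨hT.pack.eA_pow, hT.pack.c_eA, hT.pack.c_tv⟩
  exact tv2_frattini hT.pack.hmax hT.pack.c_mem hT.y_mem hcTv (hcTv.conj γ₀) hT.ce hT.ye hT.mem rfl
    γ hγ

theorem EssTwo.W_map (hT : EssTwo F e A x c eA γ₀) {γ : MulAut ↥A} (hγ : γ ∈ F.autGroup A)
    {w : ↥A} (hw : w ∈ Subgroup.closure ({eA, γ₀ eA} : Set ↥A)) :
    γ w ∈ Subgroup.closure ({eA, γ₀ eA} : Set ↥A) := by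
  have hfA : Finite A := finite_of_le hT.pack.le
  letI : CommGroup ↥A := commGroupOfComm hT.pack.comm
  have hcTv : IsTv 2 c eA := ⟨hT.pack.eA_pow, hT.pack.c_eA, hT.pack.c_tv⟩
  exact tv2_W_map hT.pack.hmax hT.pack.c_mem hT.y_mem hcTv (hcTv.conj γ₀) hT.ce hT.ye hT.mem rfl
    γ hγ hw

theorem EssTwo.decomp (hT : EssTwo F e A x c eA γ₀) (a : ↥A) :
    ∃ d w, a = d * w ∧ c d = d ∧ (γ₀ * c * γ₀⁻¹) d = d ∧
      w ∈ Subgroup.closure ({eA, γ₀ eA} : Set ↥A) := by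
  letI : CommGroup ↥A := commGroupOfComm hT.pack.comm
  have hcTv : IsTv 2 c eA := ⟨hT.pack.eA_pow, hT.pack.c_eA, hT.pack.c_tv⟩
  exact tv2_decomp hcTv (hcTv.conj γ₀) hT.ce hT.ye a

theorem EssTwo.W_cases (hT : EssTwo F e A x c eA γ₀) {w : ↥A}
    (hw : w ∈ Subgroup.closure ({eA, γ₀ eA} : Set ↥A)) :
    w = 1 ∨ w = eA ∨ w = γ₀ eA ∨ w = eA * γ₀ eA := by
  letI : CommGroup ↥A := commGroupOfComm hT.pack.comm
  have hcTv : IsTv 2 c eA := ⟨hT.pack.eA_pow, hT.pack.c_eA, hT.pack.c_tv⟩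
  exact tv2_W_cases hcTv (hcTv.conj γ₀) hw

theorem EssTwo.W_inter (hT : EssTwo F e A x c eA γ₀) {w : ↥A}
    (hw : w ∈ Subgroup.closure ({eA, γ₀ eA} : Set ↥A)) (hcw : c w = w)
    (hyw : (γ₀ * c * γ₀⁻¹) w = w) : w = 1 := by
  letI : CommGroup ↥A := commGroupOfComm hT.pack.comm
  have hcTv : IsTv 2 c eA := ⟨hT.pack.eA_pow, hT.pack.c_eA, hT.pack.c_tv⟩
  exact tv2_W_inter hcTv (hcTv.conj γ₀) hT.ce hT.ye hw hcw hyw

theorem EssTwo.no_sqrt (hT : EssTwo F e A x c eA γ₀) (a : ↥A) : a * a ≠ eA := by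
  letI : CommGroup ↥A := commGroupOfComm hT.pack.comm
  have hcTv : IsTv 2 c eA := ⟨hT.pack.eA_pow, hT.pack.c_eA, hT.pack.c_tv⟩
  exact tv2_no_sqrt hcTv (hcTv.conj γ₀) hT.ye a

theorem EssTwo.fix_decomp (hT : EssTwo F e A x c eA γ₀) (a : ↥A) :
    ∃ k : ℕ, (γ₀ * c * γ₀⁻¹) (a * eA ^ k) = a * eA ^ k := by
  letI : CommGroup ↥A := commGroupOfComm hT.pack.comm
  have hcTv : IsTv 2 c eA := ⟨hT.pack.eA_pow, hT.pack.c_eA, hT.pack.c_tv⟩
  exact tv_decomp (hcTv.conj γ₀) hT.ye a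

theorem EssTwo.u_sq (hT : EssTwo F e A x c eA γ₀) : γ₀ eA * γ₀ eA = 1 := by
  rw [← map_mul, ← pow_two, hT.pack.eA_pow, map_one]

end EssTwoLemmas

end Cfsg.Agent.Helper31
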