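import Mathlib
import Cfsg.Agent.Helper31.TvAbs2

set_option autoImplicit false

/-! Transvection pairs, continued: the diagonal element and its fixed points for odd `p`; the
structure of the fixed points for `p = 2` (helper31, for S5265). -/

namespace Cfsg.Agent.Helper31

section Tv3

variable {A : Type*} [CommGroup A]

theorem tv_diag_apply {p : ℕ} {c y : MulAut A} {e₁ e₂ : A} (hc : IsTv p c e₁) (hy : IsTv p y e₂)
    {α β m : ℕ} (hα : c e₂ = e₂ * e₁ ^ α) (hβ : y e₁ = e₁ * e₂ ^ β) {a : A} (hca : c a = a)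
    (hm : y a = a * e₂ ^ m) (i n : ℕ) :
    (y ^ n * c * y ^ i) a =
      a * e₁ ^ (α * (m * i)) * e₂ ^ (m * n + m * i + β * n * (α * (m * i))) := by
  show (y ^ n) (c ((y ^ i) a)) = _
  have h1 : (y ^ i) a = a * e₂ ^ (m * i) := hy.pow_apply hm i
  have h2 : (y ^ n) a = a * e₂ ^ (m * n) := hy.pow_apply hm n
  have h3 : (y ^ n) e₁ = e₁ * e₂ ^ (β * n) := hy.pow_apply hβ n
  have h4 : (y ^ n) e₂ = e₂ := (hy.pow n).2.1
  rw [h1, map_mul, map_pow, hca, hα, map_mul, map_pow, map_mul, map_pow, h2, h3, h4]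
  simp only [mul_pow, ← pow_mul, pow_add]
  simp only [mul_comm, mul_left_comm, mul_assoc]

/-- For odd `p`: the diagonal element, with its action on the fixed points of `c`. -/
theorem tv_exists_diag2 {p : ℕ} [Fact p.Prime] (hp2 : p ≠ 2) {c y : MulAut A} {e₁ e₂ : A}
    (hc : IsTv p c e₁) (hy : IsTv p y e₂) (hce : c e₂ ≠ e₂) (hye : y e₁ ≠ e₁) :
    ∃ h ∈ Subgroup.closure ({c, y} : Set (MulAut A)), h e₁ = e₁ ^ 2 ∧
      (∀ a, c a = a → c (h a) = h a → ∃ k : ℕ, h a = a * e₁ ^ k) ∧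
      (∀ a, c a = a → (h a = a ↔ y a = a)) := by
  have hpp : p.Prime := Fact.out
  obtain ⟨α, hα⟩ := hc.2.2 e₂
  obtain ⟨β, hβ⟩ := hy.2.2 e₁
  have hαp : ¬ p ∣ α := tv_not_dvd hc hce hα
  have hβp : ¬ p ∣ β := tv_not_dvd hy hye hβ
  have hcop : Nat.Coprime (α * β) p :=
    Nat.Coprime.symm ((Nat.Prime.coprime_iff_not_dvd hpp).mpr
      (fun h => (hpp.dvd_mul.mp h).elim hαp hβp))
  obtain ⟨i, -, hi⟩ := Nat.exists_mul_mod_eq_one_of_coprime hcop hpp.one_lt
  obtain ⟨q, hq⟩ : ∃ q, p = 2 * q + 1 := by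
    rcases hpp.eq_two_or_odd with h | h
    · exact absurd h hp2
    · exact ⟨p / 2, by omega⟩
  obtain ⟨t, ht⟩ : ∃ t, α * β * i = p * t + 1 := ⟨α * β * i / p, by
    have := Nat.div_add_mod (α * β * i) p; omega⟩
  have he1 : e₁ ≠ 1 := by
    rintro rfl
    exact hye (map_one y)
  have hord : ∀ n : ℕ, e₁ ^ n = 1 → p ∣ n := fun n hn => by
    have := orderOf_dvd_of_pow_eq_one hn
    rwa [orderOf_eq_prime hc.1 he1] at this
  have hip : ¬ p ∣ i := by
    intro hdiv
    have h1 : p ∣ α * β * i := Dvd.dvd.mul_left hdiv _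
    rw [ht] at h1
    have h2 : p ∣ 1 := (Nat.dvd_add_right (Dvd.intro t rfl)).mp h1
    exact hpp.one_lt.ne' (Nat.dvd_one.mp h2)
  have hcm : c ∈ Subgroup.closure ({c, y} : Set (MulAut A)) := Subgroup.subset_closure (by simp)
  have hym : y ∈ Subgroup.closure ({c, y} : Set (MulAut A)) := Subgroup.subset_closure (by simp)
  have key : ∀ a, c a = a → ∀ m, y a = a * e₂ ^ m →
      c ((y ^ (i * q) * c * y ^ i) a) = (y ^ (i * q) * c * y ^ i) a →
      (y ^ (i * q) * c * y ^ i) a = a * e₁ ^ (α * (m * i)) := by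
    intro a hca m hm hfix
    have hform := tv_diag_apply hc hy hα hβ hca hm i (i * q)
    rw [hform] at hfix ⊢
    rw [map_mul, map_mul, map_pow, map_pow, hca, hc.2.1, hα, mul_pow, ← pow_mul] at hfix
    have h1 : e₁ ^ (α * (m * (i * q) + m * i + β * (i * q) * (α * (m * i)))) = 1 := by
      have h' : a * e₁ ^ (α * (m * i)) * e₂ ^ (m * (i * q) + m * i + β * (i * q) * (α * (m * i))) *
          e₁ ^ (α * (m * (i * q) + m * i + β * (i * q) * (α * (m * i)))) =
          a * e₁ ^ (α * (m * i)) * e₂ ^ (m * (i * q) + m * i + β * (i * q) * (α * (m * i))) * 1 := by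
        rw [mul_one, mul_assoc]; exact hfix
      exact mul_left_cancel h'
    have h2 : p ∣ m * (i * q) + m * i + β * (i * q) * (α * (m * i)) :=
      ((hpp.dvd_mul).mp (hord _ h1)).resolve_left hαp
    rw [pow_eq_one_of_dvd_of_pow hy.1 h2, mul_one]
  refine ⟨y ^ (i * q) * c * y ^ i,
    Subgroup.mul_mem _ (Subgroup.mul_mem _ (Subgroup.pow_mem _ hym _) hcm) (Subgroup.pow_mem _ hym _),
    ?_, ?_, ?_⟩
  · show (y ^ (i * q)) (c ((y ^ i) e₁)) = e₁ ^ 2
    have h1 : (y ^ i) e₁ = e₁ * e₂ ^ (β * i) := hy.pow_apply hβ i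
    have h2 : (y ^ (i * q)) e₁ = e₁ * e₂ ^ (β * (i * q)) := hy.pow_apply hβ (i * q)
    have h3 : (y ^ (i * q)) e₂ = e₂ := (hy.pow (i * q)).2.1
    rw [h1, map_mul, map_pow, hc.2.1, hα, mul_pow, ← pow_mul, map_mul, map_mul, map_pow, map_pow,
      h2, h3, tv_aux_identity]
    have hE1 : e₁ ^ (1 + α * (β * i)) = e₁ ^ 2 := by
      have : 1 + α * (β * i) = 2 + p * t := by rw [← mul_assoc, ht]; ring
      rw [this, pow_add, pow_mul, hc.1, one_pow, mul_one]
    have hE2 : e₂ ^ (β * (i * q) + β * i + β * (i * q) * (α * (β * i))) = 1 := by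
      apply pow_eq_one_of_dvd_of_pow hy.1
      refine ⟨β * i + β * i * q * t, ?_⟩
      have : α * (β * i) = p * t + 1 := by rw [← mul_assoc, ht]
      rw [this, hq]; ring
    rw [hE1, hE2, mul_one]
  · intro a hca hfix
    obtain ⟨m, hm⟩ := hy.2.2 a
    exact ⟨α * (m * i), key a hca m hm hfix⟩
  · intro a hca
    constructor
    · intro hha
      obtain ⟨m, hm⟩ := hy.2.2 a
      have hfix : c ((y ^ (i * q) * c * y ^ i) a) = (y ^ (i * q) * c * y ^ i) a := by
        rw [hha, hca]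
      have h1 := key a hca m hm hfix
      rw [hha] at h1
      have h2 : e₁ ^ (α * (m * i)) = 1 := by
        apply mul_left_cancel (a := a)
        rw [mul_one, ← h1]
      have h3 : p ∣ m := by
        have h4 := ((hpp.dvd_mul).mp (hord _ h2)).resolve_left hαp
        exact ((hpp.dvd_mul).mp h4).resolve_right hip
      rw [hm, pow_eq_one_of_dvd_of_pow hy.1 h3, mul_one]
    · intro hya
      show (y ^ (i * q)) (c ((y ^ i) a)) = a
      have h1 : ∀ n : ℕ, (y ^ n) a = a := by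
        intro n
        induction n with
        | zero => simp
        | succ n ih => rw [pow_succ]; show (y ^ n) (y a) = a; rw [hya, ih]
      rw [h1, hca, h1]

end Tv3

end Cfsg.Agent.Helper31
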