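import Mathlib
import Cfsg.Prelude.Def_FusionSystem
import Cfsg.Agent.Helper31.EssB
import Cfsg.Agent.Helper31.TvAbs3

set_option autoImplicit false

/-! The odd case of S5265: the centre is generated by `e` (helper31). -/

open Cfsg Cfsg.FusionSystem Cfsg.Agent.Helper84
open scoped commutatorElement

namespace Cfsg.Agent.Helper31

variable {Ω : Type*} [Group Ω] {S : Subgroup Ω}

/-- An essential subgroup with a conjugate of `c` outside `⟨c⟩` yields an element of `H2`. -/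
theorem essPack_h2 [Finite S] {p : ℕ} [Fact p.Prime] (hp2 : p ≠ 2) (F : FusionSystem S) {e : ↥S}
    {A : Subgroup Ω} {x : ↥S} {c : MulAut ↥A} {eA : ↥A} (hP : EssPack p F e A x c eA)
    {γ : MulAut ↥A} (hγ : γ ∈ F.autGroup A) (hγc : γ * c * γ⁻¹ ∉ Subgroup.zpowers c) :
    ∃ α, IsH2 F e α ∧ ∀ b : ↥A, c b = b →
      (α ⟨(b : Ω), hP.le b.2⟩ = ⟨(b : Ω), hP.le b.2⟩ ↔ (γ * c * γ⁻¹) b = b) := by
  have hfA : Finite A := finite_of_le hP.le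
  have hyΓ : γ * c * γ⁻¹ ∈ F.autGroup A :=
    (F.autGroup A).mul_mem ((F.autGroup A).mul_mem hγ hP.c_mem) ((F.autGroup A).inv_mem hγ)
  have hy1 : γ * c * γ⁻¹ ≠ 1 := fun h => hγc (h ▸ Subgroup.one_mem _)
  obtain ⟨h, hhΓ, hhe, hh2, hh3⟩ : ∃ h ∈ F.autGroup A, h eA = eA ^ 2 ∧
      (∀ a, c a = a → c (h a) = h a → ∃ k : ℕ, h a = a * eA ^ k) ∧
      (∀ a, c a = a → (h a = a ↔ (γ * c * γ⁻¹) a = a)) := by
    letI : CommGroup ↥A := commGroupOfComm hP.comm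
    have hcTv : IsTv p c eA := ⟨hP.eA_pow, hP.c_eA, hP.c_tv⟩
    have hyTv : IsTv p (γ * c * γ⁻¹) (γ eA) := hcTv.conj γ
    have hcy : c ∉ Subgroup.zpowers (γ * c * γ⁻¹) :=
      not_mem_zpowers_symm hcTv.pow_p hyTv.pow_p hP.c_ne hy1 hγc
    have hce : c (γ eA) ≠ γ eA := tv_not_fix hP.hmax hP.c_mem hyΓ hcTv hyTv hy1 hcy
    have hye : (γ * c * γ⁻¹) eA ≠ eA := tv_not_fix hP.hmax hyΓ hP.c_mem hyTv hcTv hP.c_ne hγc
    obtain ⟨h, hh, hhe, hh2, hh3⟩ := tv_exists_diag2 hp2 hcTv hyTv hce hye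
    refine ⟨h, ?_, hhe, hh2, hh3⟩
    refine (Subgroup.closure_le _).mpr ?_ hh
    intro g hg
    rcases Set.mem_insert_iff.mp hg with h1 | h1
    · rw [h1]; exact hP.c_mem
    · rw [Set.mem_singleton_iff.mp h1]; exact hyΓ
  obtain ⟨α, hα, hαA⟩ := hP.ext h hhΓ ⟨2, hhe⟩
  refine ⟨α, ⟨hα, ?_, ?_⟩, ?_⟩
  · apply Subtype.ext
    have h1 := hαA eA
    have he' : (⟨(eA : Ω), hP.le eA.2⟩ : ↥S) = e := Subtype.ext hP.coe_eA
    rw [he'] at h1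
    rw [h1, hhe]
    show (eA : Ω) ^ 2 = (e : Ω) ^ 2
    rw [hP.coe_eA]
  · intro z hz
    have hzA : (z : Ω) ∈ A := hP.between.1.le hz
    have hcb : c ⟨(z : Ω), hzA⟩ = ⟨(z : Ω), hzA⟩ := (hP.fix_iff ⟨(z : Ω), hzA⟩).mpr hz
    have hαz : ((α z : ↥S) : Ω) = ((h ⟨(z : Ω), hzA⟩ : ↥A) : Ω) := hαA ⟨(z : Ω), hzA⟩
    have hαzc : α z ∈ Subgroup.center ↥S := aut_center_mem α hz
    have hchb : c (h ⟨(z : Ω), hzA⟩) = h ⟨(z : Ω), hzA⟩ := by
      refine (hP.fix_iff (h ⟨(z : Ω), hzA⟩)).mpr ?_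
      have : (⟨((h ⟨(z : Ω), hzA⟩ : ↥A) : Ω), hP.le (h ⟨(z : Ω), hzA⟩).2⟩ : ↥S) = α z :=
        Subtype.ext hαz.symm
      rw [this]; exact hαzc
    obtain ⟨k, hk⟩ := hh2 _ hcb hchb
    refine ⟨k, Subtype.ext ?_⟩
    rw [hαz, hk]
    show (z : Ω) * (eA : Ω) ^ k = (z : Ω) * (e : Ω) ^ k
    rw [hP.coe_eA]
  · intro b hcb
    rw [← hh3 b hcb]
    constructor
    · intro h1
      apply Subtype.ext
      rw [← hαA b, h1]
    · intro h1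
      apply Subtype.ext
      rw [hαA b, h1]

theorem essPack_fix_conj [Finite S] {p : ℕ} [Fact p.Prime] (hp2 : p ≠ 2) (hS : IsPGroup p S)
    (F : FusionSystem S) (hF : F.IsSaturated p) {e : ↥S} (hep : e ^ p = 1)
    {A : Subgroup Ω} {x : ↥S} {c : MulAut ↥A} {eA : ↥A} (hP : EssPack p F e A x c eA)
    {α₀ : MulAut ↥S} (hα₀ : IsH2 F e α₀) {γ : MulAut ↥A} (hγ : γ ∈ F.autGroup A) {b : ↥A}
    (hcb : c b = b) (hαb : α₀ ⟨(b : Ω), hP.le b.2⟩ = ⟨(b : Ω), hP.le b.2⟩) :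
    (γ * c * γ⁻¹) b = b := by
  by_cases hγc : γ * c * γ⁻¹ ∈ Subgroup.zpowers c
  · have hle : Subgroup.zpowers c ≤ MulAction.stabilizer (MulAut ↥A) b :=
      Subgroup.zpowers_le.mpr (MulAction.mem_stabilizer_iff.mpr hcb)
    exact MulAction.mem_stabilizer_iff.mp (hle hγc)
  · obtain ⟨α, hα, hαb'⟩ := essPack_h2 hp2 F hP hγ hγc
    rw [← hαb' b hcb]
    have hz : (⟨(b : Ω), hP.le b.2⟩ : ↥S) ∈ Subgroup.center ↥S := (hP.fix_iff b).mp hcb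
    rw [isH2_agree hp2 hS F hF hep hα hα₀ _ hz]
    exact hαb

/-- The central fixed points of an automorphism of `S`. -/
def fixSub (α : MulAut ↥S) : Subgroup ↥S where
  carrier := {z | z ∈ Subgroup.center ↥S ∧ α z = z}
  mul_mem' := by
    rintro a b ⟨ha, ha'⟩ ⟨hb, hb'⟩
    exact ⟨Subgroup.mul_mem _ ha hb, by rw [map_mul, ha', hb']⟩
  one_mem' := ⟨Subgroup.one_mem _, map_one α⟩
  inv_mem' := by
    rintro a ⟨ha, ha'⟩
    exact ⟨Subgroup.inv_mem _ ha, by rw [map_inv, ha']⟩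

theorem mem_fixSub {α : MulAut ↥S} {z : ↥S} :
    z ∈ fixSub α ↔ z ∈ Subgroup.center ↥S ∧ α z = z := Iff.rfl

theorem coe_mem_map_subtype {K : Subgroup ↥S} {s : ↥S} : (s : Ω) ∈ K.map S.subtype ↔ s ∈ K := by
  constructor
  · rintro ⟨t, ht, hts⟩
    have : t = s := Subtype.ext hts
    rw [← this]; exact ht
  · intro h
    exact ⟨s, h, rfl⟩

theorem fixSub_normal [Finite S] {p : ℕ} [Fact p.Prime] (hp2 : p ≠ 2) (hS : IsPGroup p S)
    (F : FusionSystem S) (hF : F.IsSaturated p)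
    (hidx : (Subgroup.center ↥S).index = p ^ 2) {e : ↥S}
    (he : e ∈ Subgroup.center ↥S) (he1 : e ≠ 1) (hep : e ^ p = 1)
    (hcomm : ∀ u v : ↥S, ∃ k : ℕ, ⁅u, v⁆ = e ^ k) (hnc : ∃ a b : ↥S, a * b ≠ b * a)
    {α₀ : MulAut ↥S} (hα₀ : IsH2 F e α₀) : F.IsNormal ((fixSub α₀).map S.subtype) := by
  rw [normal_iff_essential p hS F hF]
  rintro P (rfl | hess)
  · refine ⟨?_, ?_⟩
    · rintro _ ⟨z, -, rfl⟩
      exact z.2
    · apply map_eq_of_forall_mem (F.autGroup P) (((fixSub α₀).map P.subtype).subgroupOf P)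
      intro α hα q hq
      have hq' : q ∈ fixSub α₀ := coe_mem_map_subtype.mp hq
      have : α q ∈ fixSub α₀ :=
        ⟨aut_center_mem α hq'.1, isH2_fix_comm hp2 hS F hF hep hcomm hnc hα₀ hα hq'.1 hq'.2⟩
      exact coe_mem_map_subtype.mpr this
  · obtain ⟨x, c, eB, hP⟩ := exists_essPack hS F hF hidx he he1 hep hcomm hess
    refine ⟨?_, ?_⟩
    · rintro _ ⟨z, hz, rfl⟩
      exact hP.between.1.le hz.1
    · apply map_eq_of_forall_mem (F.autGroup P) (((fixSub α₀).map S.subtype).subgroupOf P)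
      intro γ hγ b hb
      have hzb : (⟨(b : Ω), hP.le b.2⟩ : ↥S) ∈ fixSub α₀ := coe_mem_map_subtype.mp hb
      have hcb : c b = b := (hP.fix_iff b).mpr hzb.1
      have hcγb : c (γ b) = γ b := by
        have h1 := essPack_fix_conj hp2 hS F hF hep hP hα₀ ((F.autGroup P).inv_mem hγ) hcb hzb.2
        rw [inv_inv] at h1
        have h2 : γ⁻¹ (c (γ b)) = b := h1
        calc c (γ b) = γ (γ⁻¹ (c (γ b))) := (MulAut.apply_inv_self _ _ _).symm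
          _ = γ b := by rw [h2]
      have hcen : (⟨((γ b : ↥P) : Ω), hP.le (γ b).2⟩ : ↥S) ∈ Subgroup.center ↥S :=
        (hP.fix_iff (γ b)).mp hcγb
      obtain ⟨γ₀, hγ₀, hγ₀c⟩ := hP.exists_valid
      obtain ⟨α₁, hα₁, hα₁b⟩ := essPack_h2 hp2 F hP hγ₀ hγ₀c
      have hfix : (γ₀ * c * γ₀⁻¹) (γ b) = γ b := by
        have h1 := essPack_fix_conj hp2 hS F hF hep hP hα₀
          ((F.autGroup P).mul_mem ((F.autGroup P).inv_mem hγ) hγ₀) hcb hzb.2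
        have hconj : γ⁻¹ * γ₀ * c * (γ⁻¹ * γ₀)⁻¹ = γ⁻¹ * (γ₀ * c * γ₀⁻¹) * γ := by group
        rw [hconj] at h1
        have h2 : γ⁻¹ ((γ₀ * c * γ₀⁻¹) (γ b)) = b := h1
        calc (γ₀ * c * γ₀⁻¹) (γ b) = γ (γ⁻¹ ((γ₀ * c * γ₀⁻¹) (γ b))) :=
              (MulAut.apply_inv_self _ _ _).symm
          _ = γ b := by rw [h2]
      have h3 : α₁ ⟨((γ b : ↥P) : Ω), hP.le (γ b).2⟩ = ⟨((γ b : ↥P) : Ω), hP.le (γ b).2⟩ :=
        (hα₁b (γ b) hcγb).mpr hfix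
      have h4 : α₀ ⟨((γ b : ↥P) : Ω), hP.le (γ b).2⟩ = ⟨((γ b : ↥P) : Ω), hP.le (γ b).2⟩ := by
        rw [← isH2_agree hp2 hS F hF hep hα₁ hα₀ _ hcen]; exact h3
      have : (⟨((γ b : ↥P) : Ω), hP.le (γ b).2⟩ : ↥S) ∈ fixSub α₀ := ⟨hcen, h4⟩
      exact coe_mem_map_subtype.mpr this

/-- Odd case: the centre of `S` consists of powers of `e`. -/
theorem center_pow_of_odd [Finite S] {p : ℕ} [Fact p.Prime] (hp2 : p ≠ 2) (hS : IsPGroup p S)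
    (F : FusionSystem S) (hF : F.IsSaturated p) (hcore : F.core = ⊥)
    (hidx : (Subgroup.center ↥S).index = p ^ 2) {e : ↥S}
    (he : e ∈ Subgroup.center ↥S) (he1 : e ≠ 1) (hep : e ^ p = 1)
    (hcomm : ∀ u v : ↥S, ∃ k : ℕ, ⁅u, v⁆ = e ^ k) (hnc : ∃ a b : ↥S, a * b ≠ b * a)
    {A : Subgroup Ω} (hess : F.IsEssential p A) :
    ∀ z ∈ Subgroup.center ↥S, ∃ k : ℕ, z = e ^ k := by
  have hpp : p.Prime := Fact.out
  obtain ⟨x, c, eA, hP⟩ := exists_essPack hS F hF hidx he he1 hep hcomm hess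
  obtain ⟨γ₀, hγ₀, hγ₀c⟩ := hP.exists_valid
  obtain ⟨α₀, hα₀, -⟩ := essPack_h2 hp2 F hP hγ₀ hγ₀c
  have hnorm := fixSub_normal hp2 hS F hF hidx he he1 hep hcomm hnc hα₀
  have hbot : (fixSub α₀).map S.subtype ≤ ⊥ := by
    rw [← hcore]
    exact le_sSup hnorm
  have htriv : ∀ z ∈ fixSub α₀, z = 1 := by
    intro z hz
    have h1 : (z : Ω) ∈ (⊥ : Subgroup Ω) := hbot (coe_mem_map_subtype.mpr hz)
    exact Subtype.ext (Subgroup.mem_bot.mp h1)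
  intro z hz
  obtain ⟨k, hk⟩ := hα₀.2.2 z hz
  obtain ⟨r, hr⟩ : ∃ r, p = r + 1 := ⟨p - 1, by have := hpp.pos; omega⟩
  have hmem : z * e ^ (r * k) ∈ fixSub α₀ := by
    refine ⟨Subgroup.mul_mem _ hz (Subgroup.pow_mem _ he _), ?_⟩
    rw [map_mul, map_pow, hα₀.2.1, hk, ← pow_mul, mul_assoc, ← pow_add]
    have h1 : k + 2 * (r * k) = r * k + p * k := by rw [hr]; ring
    rw [h1, pow_add, pow_mul e p k, hep, one_pow, mul_one]
  have h2 := htriv _ hmem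
  refine ⟨k, ?_⟩
  have h3 : e ^ (r * k) * e ^ k = 1 := by
    rw [← pow_add]
    have : r * k + k = p * k := by rw [hr]; ring
    rw [this, pow_mul, hep, one_pow]
  calc z = z * (e ^ (r * k) * e ^ k) := by rw [h3, mul_one]
    _ = (z * e ^ (r * k)) * e ^ k := by rw [mul_assoc]
    _ = e ^ k := by rw [h2, one_mul]

end Cfsg.Agent.Helper31
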