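import Mathlib
import Cfsg.Prelude.Def_FusionSystem
import Cfsg.Agent.Helper31.EssC
import Cfsg.Agent.Helper31.EssOdd

set_option autoImplicit false

/-! The case `p = 2` of S5265: automorphisms of `S` preserve the essential subgroups, the
normal subgroup of central elements with central images, and the triviality of `Aut_F(S)` on
the centre (helper31). -/

open Cfsg Cfsg.FusionSystem Cfsg.Agent.Helper84
open scoped commutatorElement

namespace Cfsg.Agent.Helper31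

variable {Ω : Type*} [Group Ω] {S : Subgroup Ω}

theorem essTwo_no_central_sqrt [Finite S] {F : FusionSystem S} {e : ↥S} {A : Subgroup Ω} {x : ↥S}
    {c : MulAut ↥A} {eA : ↥A} {γ₀ : MulAut ↥A} (hT : EssTwo F e A x c eA γ₀) :
    ∀ z ∈ Subgroup.center ↥S, z * z ≠ e := by
  intro z hz hzz
  have hzA : (z : Ω) ∈ A := hT.pack.between.1.le hz
  apply hT.no_sqrt ⟨(z : Ω), hzA⟩
  apply Subtype.ext
  show (z : Ω) * (z : Ω) = (eA : Ω)
  rw [hT.pack.coe_eA]
  exact congrArg (fun s : ↥S => (s : Ω)) hzz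

/-- `F`-automorphisms of `S` preserve every essential subgroup (`p = 2`). -/
theorem essTwo_aut_mem [Finite S] (hS : IsPGroup 2 S) {F : FusionSystem S} (hF : F.IsSaturated 2)
    (hidx : (Subgroup.center ↥S).index = 2 ^ 2) {e : ↥S} (hep : e ^ 2 = 1)
    (hcomm : ∀ u v : ↥S, ∃ k : ℕ, ⁅u, v⁆ = e ^ k)
    {A : Subgroup Ω} {x : ↥S} {c : MulAut ↥A} {eA : ↥A} {γ₀ : MulAut ↥A}
    (hT : EssTwo F e A x c eA γ₀) {α : MulAut ↥S} (hα : α ∈ F.autGroup S) :
    ∀ s ∈ A.subgroupOf S, α s ∈ A.subgroupOf S := by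
  have hbet := hT.pack.between
  obtain ⟨u, hu⟩ : ∃ u : ↥S, u = ⟨((γ₀ eA : ↥A) : Ω), hT.pack.le (γ₀ eA).2⟩ := ⟨_, rfl⟩
  have huu : u * u = 1 := by
    rw [hu]; exact Subtype.ext (congrArg (fun a : ↥A => (a : Ω)) hT.u_sq)
  have huA : u ∈ A.subgroupOf S := by rw [hu]; exact (γ₀ eA).2
  have hunc : u ∉ Subgroup.center ↥S := by
    rw [hu]; exact fun h => hT.ce ((hT.pack.fix_iff (γ₀ eA)).mpr h)
  have hAcent := cls2_eq_centralizer hidx hbet.1 hbet.2 huA hunc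
  have hee : e * e = 1 := by rw [← pow_two]; exact hep
  by_contra hcon
  push Not at hcon
  obtain ⟨s, hs, hs'⟩ := hcon
  have hαu : α u ∉ A.subgroupOf S := fun h =>
    hs' (cls2_aut_mem_of_mem hidx hbet.1 hbet.2 α huA hunc h s hs)
  have hvv : α u * α u = 1 := by rw [← map_mul, huu, map_one]
  have huv : u * α u ≠ α u * u := by
    intro h
    apply hαu
    rw [hAcent, Subgroup.mem_centralizer_iff]
    intro g hg
    rw [Set.mem_singleton_iff.mp hg]; exact h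
  have hww : α (α u) * α (α u) = 1 := by rw [← map_mul, hvv, map_one]
  rcases cls2_invol hidx hcomm hee (essTwo_no_central_sqrt hT) huu hvv huv hww with h | h
  · have h2 : (α * α) u ∈ A.subgroupOf S := by
      rw [hAcent, Subgroup.mem_centralizer_iff]
      intro g hg
      rw [Set.mem_singleton_iff.mp hg]; exact h.symm
    have h3 := cls2_aut_mem_of_mem hidx hbet.1 hbet.2 (α * α) huA hunc h2
    have h4 : ∀ m : ℕ, ∀ t ∈ A.subgroupOf S, ((α * α) ^ m) t ∈ A.subgroupOf S := by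
      intro m
      induction m with
      | zero => intro t ht; simpa using ht
      | succ m ih =>
        intro t ht
        rw [pow_succ]
        exact ih _ (h3 t ht)
    obtain ⟨M, hM, hMinn⟩ := exists_pow_mem_inn hS F hF hα
    obtain ⟨g, hg⟩ := hMinn
    obtain ⟨m, hm⟩ : ∃ m, M = 2 * m + 1 := by
      have : M % 2 = 1 := by
        rcases Nat.mod_two_eq_zero_or_one M with h0 | h1
        · exact absurd (Nat.dvd_of_mod_eq_zero h0) hM
        · exact h1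
      exact ⟨M / 2, by omega⟩
    have hnorm : (A.subgroupOf S).Normal := cls2_between_normal hidx hbet.1
    have h5 : (α ^ M) u ∈ A.subgroupOf S := by
      rw [← hg]
      show g * u * g⁻¹ ∈ A.subgroupOf S
      exact hnorm.conj_mem u huA g
    have h6 : α ^ M = α * (α * α) ^ m := by
      rw [hm, pow_succ', pow_mul, pow_two]
    rw [h6] at h5
    have hu' : ((α * α) ^ m) u ∈ A.subgroupOf S := h4 m u huA
    have hu'nc : ((α * α) ^ m) u ∉ Subgroup.center ↥S := by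
      intro hc'
      apply hunc
      have := aut_center_mem ((α * α) ^ m)⁻¹ hc'
      rwa [MulAut.inv_apply_self] at this
    exact hs' (cls2_aut_mem_of_mem hidx hbet.1 hbet.2 α hu' hu'nc h5 s hs)
  · apply huv
    have : α (α u * u) = α (u * α u) := by rw [map_mul, map_mul]; exact h
    exact (α.injective this).symm

theorem essTwo_restrict [Finite S] (hS : IsPGroup 2 S) {F : FusionSystem S}
    (hF : F.IsSaturated 2) (hidx : (Subgroup.center ↥S).index = 2 ^ 2) {e : ↥S} (hep : e ^ 2 = 1)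
    (hcomm : ∀ u v : ↥S, ∃ k : ℕ, ⁅u, v⁆ = e ^ k)
    {A : Subgroup Ω} {x : ↥S} {c : MulAut ↥A} {eA : ↥A} {γ₀ : MulAut ↥A}
    (hT : EssTwo F e A x c eA γ₀) {α : MulAut ↥S} (hα : α ∈ F.autGroup S) :
    ∃ β ∈ F.autGroup A, ∀ a : ↥A,
      ((β a : ↥A) : Ω) = ((α ⟨(a : Ω), hT.pack.le a.2⟩ : ↥S) : Ω) :=
  restrict_mem_autGroup F hT.pack.le hα
    (fun a => essTwo_aut_mem hS hF hidx hep hcomm hT hα ⟨(a : Ω), hT.pack.le a.2⟩ a.2)

/-- The central elements all of whose images under the automorphism groups of the essential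
subgroups are central. -/
def essCore (F : FusionSystem S) : Subgroup ↥S where
  carrier := {z | z ∈ Subgroup.center ↥S ∧ ∀ (A : Subgroup Ω) (hess : F.IsEssential 2 A),
      ∃ a : ↥A, (a : Ω) = (z : Ω) ∧ ∀ γ ∈ F.autGroup A,
        (⟨((γ a : ↥A) : Ω), hess.1.1 (γ a).2⟩ : ↥S) ∈ Subgroup.center ↥S}
  mul_mem' := by
    rintro z z' ⟨hz, h⟩ ⟨hz', h'⟩
    refine ⟨Subgroup.mul_mem _ hz hz', fun A hess => ?_⟩
    obtain ⟨a, ha, haγ⟩ := h A hess
    obtain ⟨a', ha', haγ'⟩ := h' A hess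
    refine ⟨a * a', ?_, fun γ hγ => ?_⟩
    · show (a : Ω) * (a' : Ω) = (z : Ω) * (z' : Ω)
      rw [ha, ha']
    · have h3 := Subgroup.mul_mem _ (haγ γ hγ) (haγ' γ hγ)
      convert h3 using 1
      apply Subtype.ext
      show ((γ (a * a') : ↥A) : Ω) = _
      rw [map_mul]; rfl
  one_mem' := by
    refine ⟨Subgroup.one_mem _, fun A hess => ⟨1, rfl, fun γ hγ => ?_⟩⟩
    have h3 := Subgroup.one_mem (Subgroup.center ↥S)
    convert h3 using 1
    apply Subtype.ext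
    show ((γ 1 : ↥A) : Ω) = _
    rw [map_one]; rfl
  inv_mem' := by
    rintro z ⟨hz, h⟩
    refine ⟨Subgroup.inv_mem _ hz, fun A hess => ?_⟩
    obtain ⟨a, ha, haγ⟩ := h A hess
    refine ⟨a⁻¹, ?_, fun γ hγ => ?_⟩
    · show (a : Ω)⁻¹ = (z : Ω)⁻¹
      rw [ha]
    · have h3 := Subgroup.inv_mem _ (haγ γ hγ)
      convert h3 using 1
      apply Subtype.ext
      show ((γ a⁻¹ : ↥A) : Ω) = _
      rw [map_inv]; rfl

theorem essCore_aut [Finite S] (hS : IsPGroup 2 S) {F : FusionSystem S} (hF : F.IsSaturated 2)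
    (hidx : (Subgroup.center ↥S).index = 2 ^ 2) {e : ↥S}
    (he : e ∈ Subgroup.center ↥S) (he1 : e ≠ 1) (hep : e ^ 2 = 1)
    (hcomm : ∀ u v : ↥S, ∃ k : ℕ, ⁅u, v⁆ = e ^ k)
    {α : MulAut ↥S} (hα : α ∈ F.autGroup S) {z : ↥S} (hz : z ∈ essCore F) :
    α z ∈ essCore F := by
  refine ⟨aut_center_mem α hz.1, fun A hess => ?_⟩
  obtain ⟨x, c, eA, hP⟩ := exists_essPack hS F hF hidx he he1 hep hcomm hess
  obtain ⟨γ₀, hT⟩ := exists_essTwo hP
  obtain ⟨a, ha, haγ⟩ := hz.2 A hess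
  obtain ⟨β, hβ, hβa⟩ := essTwo_restrict hS hF hidx hep hcomm hT hα
  refine ⟨β a, ?_, fun γ hγ => haγ (γ * β) ((F.autGroup A).mul_mem hγ hβ)⟩
  rw [hβa a]
  have : (⟨(a : Ω), hT.pack.le a.2⟩ : ↥S) = z := Subtype.ext ha
  rw [this]

theorem essCore_normal [Finite S] (hS : IsPGroup 2 S) {F : FusionSystem S} (hF : F.IsSaturated 2)
    (hidx : (Subgroup.center ↥S).index = 2 ^ 2) {e : ↥S}
    (he : e ∈ Subgroup.center ↥S) (he1 : e ≠ 1) (hep : e ^ 2 = 1)
    (hcomm : ∀ u v : ↥S, ∃ k : ℕ, ⁅u, v⁆ = e ^ k) :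
    F.IsNormal ((essCore F).map S.subtype) := by
  rw [normal_iff_essential 2 hS F hF]
  rintro P (rfl | hess)
  · refine ⟨?_, ?_⟩
    · rintro _ ⟨z, -, rfl⟩
      exact z.2
    · apply map_eq_of_forall_mem (F.autGroup P) (((essCore F).map P.subtype).subgroupOf P)
      intro α hα q hq
      exact coe_mem_map_subtype.mpr
        (essCore_aut hS hF hidx he he1 hep hcomm hα (coe_mem_map_subtype.mp hq))
  · obtain ⟨x, c, eB, hP⟩ := exists_essPack hS F hF hidx he he1 hep hcomm hess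
    obtain ⟨γ₀, hT⟩ := exists_essTwo hP
    refine ⟨?_, ?_⟩
    · rintro _ ⟨z, hz, rfl⟩
      exact hP.between.1.le hz.1
    · apply map_eq_of_forall_mem (F.autGroup P) (((essCore F).map S.subtype).subgroupOf P)
      intro γ hγ b hb
      have hzb : (⟨(b : Ω), hP.le b.2⟩ : ↥S) ∈ essCore F := coe_mem_map_subtype.mp hb
      obtain ⟨a, ha, haγ⟩ := hzb.2 P hess
      have hab : a = b := Subtype.ext ha
      rw [hab] at haγ
      have hK : c b = b ∧ (γ₀ * c * γ₀⁻¹) b = b :=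
        (hT.K_iff b).mp (fun γ' hγ' => (hP.fix_iff (γ' b)).mpr (haγ γ' hγ'))
      obtain ⟨ν, hν, hνe, hνa⟩ := hT.frattini hγ
      obtain ⟨ν', hν', hν'a⟩ := hP.ext ν hν ⟨1, by rw [hνe, pow_one]⟩
      have h1 := essCore_aut hS hF hidx he he1 hep hcomm hν' hzb
      have h2 : ((ν' ⟨(b : Ω), hP.le b.2⟩ : ↥S) : Ω) = ((γ b : ↥P) : Ω) := by
        rw [hν'a b, hνa b hK.1 hK.2]
      show ((γ b : ↥P) : Ω) ∈ (essCore F).map S.subtype
      rw [← h2]
      exact coe_mem_map_subtype.mpr h1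

theorem essCore_eq_one [Finite S] (hS : IsPGroup 2 S) {F : FusionSystem S} (hF : F.IsSaturated 2)
    (hcore : F.core = ⊥) (hidx : (Subgroup.center ↥S).index = 2 ^ 2) {e : ↥S}
    (he : e ∈ Subgroup.center ↥S) (he1 : e ≠ 1) (hep : e ^ 2 = 1)
    (hcomm : ∀ u v : ↥S, ∃ k : ℕ, ⁅u, v⁆ = e ^ k) : ∀ z ∈ essCore F, z = 1 := by
  have hnorm := essCore_normal hS hF hidx he he1 hep hcomm
  have hbot : (essCore F).map S.subtype ≤ ⊥ := by
    rw [← hcore]
    exact le_sSup hnorm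
  intro z hz
  have h1 : (z : Ω) ∈ (⊥ : Subgroup Ω) := hbot (coe_mem_map_subtype.mpr hz)
  exact Subtype.ext (Subgroup.mem_bot.mp h1)

/-- For `p = 2`, `Aut_F(S)` acts trivially on the centre of `S`. -/
theorem autS_fix_center_two [Finite S] (hS : IsPGroup 2 S) {F : FusionSystem S}
    (hF : F.IsSaturated 2) (hcore : F.core = ⊥)
    (hidx : (Subgroup.center ↥S).index = 2 ^ 2) {e : ↥S}
    (he : e ∈ Subgroup.center ↥S) (he1 : e ≠ 1) (hep : e ^ 2 = 1)
    (hcomm : ∀ u v : ↥S, ∃ k : ℕ, ⁅u, v⁆ = e ^ k) (hnc : ∃ a b : ↥S, a * b ≠ b * a)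
    {α : MulAut ↥S} (hα : α ∈ F.autGroup S) {z : ↥S} (hz : z ∈ Subgroup.center ↥S) :
    α z = z := by
  have hee : e * e = 1 := by rw [← pow_two]; exact hep
  have hαe : α e = e := by
    obtain ⟨m, hm⟩ := aut_e_pow hep hcomm hnc α
    rcases pow_two_cases hee m with h | h
    · exfalso
      rw [h] at hm
      exact he1 ((EmbeddingLike.map_eq_one_iff (f := α)).mp hm)
    · rw [hm, h]
  have hmem : α z * z⁻¹ ∈ essCore F := by
    refine ⟨Subgroup.mul_mem _ (aut_center_mem α hz) (Subgroup.inv_mem _ hz), fun A hess => ?_⟩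
    obtain ⟨x, c, eA, hP⟩ := exists_essPack hS F hF hidx he he1 hep hcomm hess
    obtain ⟨γ₀, hT⟩ := exists_essTwo hP
    have hzA : (z : Ω) ∈ A := hP.between.1.le hz
    have hcb : c ⟨(z : Ω), hzA⟩ = ⟨(z : Ω), hzA⟩ := (hP.fix_iff _).mpr hz
    obtain ⟨k, hk⟩ := hT.fix_decomp ⟨(z : Ω), hzA⟩
    obtain ⟨d, hd⟩ : ∃ d : ↥A, d = ⟨(z : Ω), hzA⟩ * eA ^ k := ⟨_, rfl⟩
    rw [← hd] at hk
    have hcd : c d = d := by rw [hd, map_mul, hcb, map_pow, hP.c_eA]
    have hKd : ∀ γ ∈ F.autGroup A, c (γ d) = γ d := (hT.K_iff d).mpr ⟨hcd, hk⟩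
    obtain ⟨β, hβ, hβa⟩ := essTwo_restrict hS hF hidx hep hcomm hT hα
    have h2 : (d : Ω) = (z : Ω) * (e : Ω) ^ k := by
      rw [hd]
      show (z : Ω) * (eA : Ω) ^ k = _
      rw [hP.coe_eA]
    refine ⟨β d * d⁻¹, ?_, fun γ hγ => ?_⟩
    · have hdS : (⟨(d : Ω), hP.le d.2⟩ : ↥S) = z * e ^ k := Subtype.ext h2
      have h1 : ((β d : ↥A) : Ω) = ((α z : ↥S) : Ω) * (e : Ω) ^ k := by
        rw [hβa d, hdS, map_mul, map_pow, hαe]; rfl
      show ((β d : ↥A) : Ω) * (d : Ω)⁻¹ = ((α z : ↥S) : Ω) * (z : Ω)⁻¹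
      rw [h1, h2]; group
    · have h1 : (⟨((γ (β d) : ↥A) : Ω), hP.le (γ (β d)).2⟩ : ↥S) ∈ Subgroup.center ↥S :=
        (hP.fix_iff _).mp (hKd (γ * β) ((F.autGroup A).mul_mem hγ hβ))
      have h3 : (⟨((γ d : ↥A) : Ω), hP.le (γ d).2⟩ : ↥S) ∈ Subgroup.center ↥S :=
        (hP.fix_iff _).mp (hKd γ hγ)
      have h4 := Subgroup.mul_mem _ h1 (Subgroup.inv_mem _ h3)
      convert h4 using 1
      apply Subtype.ext
      show ((γ (β d * d⁻¹) : ↥A) : Ω) = _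
      rw [map_mul, map_inv]; rfl
  have h := essCore_eq_one hS hF hcore hidx he he1 hep hcomm _ hmem
  exact mul_inv_eq_one.mp h

/-- For `p = 2`, `Aut_F(A)` fixes the common fixed points of `c` and its conjugate. -/
theorem essTwo_K_fix [Finite S] (hS : IsPGroup 2 S) {F : FusionSystem S}
    (hF : F.IsSaturated 2) (hcore : F.core = ⊥)
    (hidx : (Subgroup.center ↥S).index = 2 ^ 2) {e : ↥S}
    (he : e ∈ Subgroup.center ↥S) (he1 : e ≠ 1) (hep : e ^ 2 = 1)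
    (hcomm : ∀ u v : ↥S, ∃ k : ℕ, ⁅u, v⁆ = e ^ k) (hnc : ∃ a b : ↥S, a * b ≠ b * a)
    {A : Subgroup Ω} {x : ↥S} {c : MulAut ↥A} {eA : ↥A} {γ₀ : MulAut ↥A}
    (hT : EssTwo F e A x c eA γ₀) {a : ↥A} (hca : c a = a) (hya : (γ₀ * c * γ₀⁻¹) a = a)
    {γ : MulAut ↥A} (hγ : γ ∈ F.autGroup A) : γ a = a := by
  obtain ⟨ν, hν, hνe, hνa⟩ := hT.frattini hγ
  obtain ⟨ν', hν', hν'a⟩ := hT.pack.ext ν hν ⟨1, by rw [hνe, pow_one]⟩
  have hz : (⟨(a : Ω), hT.pack.le a.2⟩ : ↥S) ∈ Subgroup.center ↥S := (hT.pack.fix_iff a).mp hca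
  have h1 := autS_fix_center_two hS hF hcore hidx he he1 hep hcomm hnc hν' hz
  apply Subtype.ext
  rw [← hνa a hca hya, ← hν'a a, h1]

end Cfsg.Agent.Helper31
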