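import Mathlib
import Cfsg.Prelude.Def_FusionSystem
import Cfsg.Agent.Helper31.EssD

set_option autoImplicit false

/-! The case `p = 2` of S5265: the focal subgroup argument, and the centre (helper31). -/

open Cfsg Cfsg.FusionSystem Cfsg.Agent.Helper84
open scoped commutatorElement

namespace Cfsg.Agent.Helper31

variable {Ω : Type*} [Group Ω] {S : Subgroup Ω}

theorem eq_of_subgroupOf_eq {A C : Subgroup Ω} (hA : A ≤ S) (hC : C ≤ S)
    (h : A.subgroupOf S = C.subgroupOf S) : A = C := by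
  ext g
  constructor
  · intro hg
    have h1 : (⟨g, hA hg⟩ : ↥S) ∈ A.subgroupOf S := hg
    rw [h] at h1
    exact h1
  · intro hg
    have h1 : (⟨g, hC hg⟩ : ↥S) ∈ C.subgroupOf S := hg
    rw [← h] at h1
    exact h1

/-- For `p = 2`: `a⁻¹ γ(a)` lies in the four-group spanned by the centres. -/
theorem essTwo_focal [Finite S] (hS : IsPGroup 2 S) {F : FusionSystem S}
    (hF : F.IsSaturated 2) (hcore : F.core = ⊥)
    (hidx : (Subgroup.center ↥S).index = 2 ^ 2) {e : ↥S}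
    (he : e ∈ Subgroup.center ↥S) (he1 : e ≠ 1) (hep : e ^ 2 = 1)
    (hcomm : ∀ u v : ↥S, ∃ k : ℕ, ⁅u, v⁆ = e ^ k) (hnc : ∃ a b : ↥S, a * b ≠ b * a)
    {A : Subgroup Ω} {x : ↥S} {c : MulAut ↥A} {eA : ↥A} {γ₀ : MulAut ↥A}
    (hT : EssTwo F e A x c eA γ₀) {γ : MulAut ↥A} (hγ : γ ∈ F.autGroup A) (a : ↥A) :
    a⁻¹ * γ a ∈ Subgroup.closure ({eA, γ₀ eA} : Set ↥A) := by
  obtain ⟨d, w, hdw, hcd, hyd, hw⟩ := hT.decomp a
  have hγd : γ d = d := essTwo_K_fix hS hF hcore hidx he he1 hep hcomm hnc hT hcd hyd hγ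
  have key : a⁻¹ * γ a = w⁻¹ * γ w := by
    rw [hdw, map_mul, hγd]; group
  rw [key]
  exact Subgroup.mul_mem _ (Subgroup.inv_mem _ hw) (hT.W_map hγ hw)

/-- For `p = 2`: the common fixed points of `c` and its conjugate in an essential subgroup are
trivial. -/
theorem essTwo_K_trivial [Finite S] (hS : IsPGroup 2 S) {F : FusionSystem S}
    (hF : F.IsSaturated 2) (hcore : F.core = ⊥) (hhyp : F.hyperfocalSubgroup 2 = S)
    (hidx : (Subgroup.center ↥S).index = 2 ^ 2) {e : ↥S}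
    (he : e ∈ Subgroup.center ↥S) (he1 : e ≠ 1) (hep : e ^ 2 = 1)
    (hcomm : ∀ u v : ↥S, ∃ k : ℕ, ⁅u, v⁆ = e ^ k) (hnc : ∃ a b : ↥S, a * b ≠ b * a)
    {A : Subgroup Ω} {x : ↥S} {c : MulAut ↥A} {eA : ↥A} {γ₀ : MulAut ↥A}
    (hT : EssTwo F e A x c eA γ₀) {d : ↥A} (hcd : c d = d) (hyd : (γ₀ * c * γ₀⁻¹) d = d) :
    d = 1 := by
  have hee : e * e = 1 := by rw [← pow_two]; exact hep
  have hP := hT.pack
  by_contra hd1
  obtain ⟨dS, hdS⟩ : ∃ dS : ↥S, dS = ⟨(d : Ω), hP.le d.2⟩ := ⟨_, rfl⟩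
  have hdSc : dS ∈ Subgroup.center ↥S := by rw [hdS]; exact (hP.fix_iff d).mp hcd
  have hdS1 : dS ≠ 1 := by
    intro h
    apply hd1
    apply Subtype.ext
    have := congrArg (fun s : ↥S => (s : Ω)) h
    rw [hdS] at this
    exact this
  have hnot : dS ∉ essCore F := fun h =>
    hdS1 (essCore_eq_one hS hF hcore hidx he he1 hep hcomm dS h)
  have hex : ∃ (B : Subgroup Ω) (hessB : F.IsEssential 2 B), ¬ ∃ a : ↥B, (a : Ω) = (dS : Ω) ∧
      ∀ γ ∈ F.autGroup B, (⟨((γ a : ↥B) : Ω), hessB.1.1 (γ a).2⟩ : ↥S) ∈ Subgroup.center ↥S := by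
    by_contra hcon
    push Not at hcon
    exact hnot ⟨hdSc, fun B hessB => hcon B hessB⟩
  obtain ⟨B, hessB, hB⟩ := hex
  have hAB : A ≠ B := by
    rintro rfl
    apply hB
    refine ⟨d, by rw [hdS], fun γ hγ => (hP.fix_iff _).mp ((hT.K_iff d).mpr ⟨hcd, hyd⟩ γ hγ)⟩
  obtain ⟨xB, cB, eB, hPB⟩ := exists_essPack hS F hF hidx he he1 hep hcomm hessB
  obtain ⟨γ₁, hTB⟩ := exists_essTwo hPB
  have betA := hP.between
  have betB := hPB.between
  -- the involutions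
  obtain ⟨u, hu⟩ : ∃ u : ↥S, u = ⟨((γ₀ eA : ↥A) : Ω), hP.le (γ₀ eA).2⟩ := ⟨_, rfl⟩
  obtain ⟨v, hv⟩ : ∃ v : ↥S, v = ⟨((γ₁ eB : ↥B) : Ω), hPB.le (γ₁ eB).2⟩ := ⟨_, rfl⟩
  have huu : u * u = 1 := by
    rw [hu]; exact Subtype.ext (congrArg (fun a : ↥A => (a : Ω)) hT.u_sq)
  have hvv : v * v = 1 := by
    rw [hv]; exact Subtype.ext (congrArg (fun a : ↥B => (a : Ω)) hTB.u_sq)
  have huA : u ∈ A.subgroupOf S := by rw [hu]; exact (γ₀ eA).2
  have hvB : v ∈ B.subgroupOf S := by rw [hv]; exact (γ₁ eB).2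
  have hunc : u ∉ Subgroup.center ↥S := by
    rw [hu]; exact fun h => hT.ce ((hP.fix_iff (γ₀ eA)).mpr h)
  have hvnc : v ∉ Subgroup.center ↥S := by
    rw [hv]; exact fun h => hTB.ce ((hPB.fix_iff (γ₁ eB)).mpr h)
  have hAcent := cls2_eq_centralizer hidx betA.1 betA.2 huA hunc
  have hBcent := cls2_eq_centralizer hidx betB.1 betB.2 hvB hvnc
  have hvA : v ∉ A.subgroupOf S := by
    intro h
    exact hAB (eq_of_subgroupOf_eq hP.le hPB.le
      (cls2_eq_of_mem hidx betB.1 betB.2 betA.1 betA.2 hvB h hvnc).symm)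
  have huv : u * v ≠ v * u := by
    intro h
    apply hvA
    rw [hAcent, Subgroup.mem_centralizer_iff]
    intro g hg
    rw [Set.mem_singleton_iff.mp hg]; exact h
  -- every essential subgroup is `A` or `B`
  have hall : ∀ C : Subgroup Ω, F.IsEssential 2 C → C = A ∨ C = B := by
    intro C hessC
    obtain ⟨xC, cC, eC, hPC⟩ := exists_essPack hS F hF hidx he he1 hep hcomm hessC
    obtain ⟨γ₂, hTC⟩ := exists_essTwo hPC
    have betC := hPC.between
    obtain ⟨w, hw⟩ : ∃ w : ↥S, w = ⟨((γ₂ eC : ↥C) : Ω), hPC.le (γ₂ eC).2⟩ := ⟨_, rfl⟩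
    have hww : w * w = 1 := by
      rw [hw]; exact Subtype.ext (congrArg (fun a : ↥C => (a : Ω)) hTC.u_sq)
    have hwC : w ∈ C.subgroupOf S := by rw [hw]; exact (γ₂ eC).2
    have hwnc : w ∉ Subgroup.center ↥S := by
      rw [hw]; exact fun h => hTC.ce ((hPC.fix_iff (γ₂ eC)).mpr h)
    rcases cls2_invol hidx hcomm hee (essTwo_no_central_sqrt hT) huu hvv huv hww with h | h
    · left
      have hwA : w ∈ A.subgroupOf S := by
        rw [hAcent, Subgroup.mem_centralizer_iff]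
        intro g hg
        rw [Set.mem_singleton_iff.mp hg]; exact h.symm
      exact eq_of_subgroupOf_eq hPC.le hP.le
        (cls2_eq_of_mem hidx betC.1 betC.2 betA.1 betA.2 hwC hwA hwnc)
    · right
      have hwB : w ∈ B.subgroupOf S := by
        rw [hBcent, Subgroup.mem_centralizer_iff]
        intro g hg
        rw [Set.mem_singleton_iff.mp hg]; exact h.symm
      exact eq_of_subgroupOf_eq hPC.le hPB.le
        (cls2_eq_of_mem hidx betC.1 betC.2 betB.1 betB.2 hwC hwB hwnc)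
  -- the subgroup `N`
  obtain ⟨NS, hNS⟩ : ∃ NS : Subgroup ↥S, NS =
      (Subgroup.closure ({eA, γ₀ eA} : Set ↥A)).map (Subgroup.inclusion hP.le) ⊔
        Subgroup.zpowers v := ⟨_, rfl⟩
  have hWA_le : ∀ w ∈ Subgroup.closure ({eA, γ₀ eA} : Set ↥A),
      (⟨(w : Ω), hP.le w.2⟩ : ↥S) ∈ NS := by
    intro w hw
    rw [hNS]
    exact Subgroup.mem_sup_left ⟨w, hw, rfl⟩
  have hv_mem : v ∈ NS := by
    rw [hNS]; exact Subgroup.mem_sup_right (Subgroup.mem_zpowers v)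
  have he_mem : e ∈ NS := by
    have h1 := hWA_le eA (Subgroup.subset_closure (by simp))
    have h2 : (⟨(eA : Ω), hP.le eA.2⟩ : ↥S) = e := Subtype.ext hP.coe_eA
    rw [h2] at h1; exact h1
  have hu_mem : u ∈ NS := by
    rw [hu]; exact hWA_le (γ₀ eA) (Subgroup.subset_closure (by simp))
  have hWB_le : ∀ w ∈ Subgroup.closure ({eB, γ₁ eB} : Set ↥B),
      (⟨(w : Ω), hPB.le w.2⟩ : ↥S) ∈ NS := by
    intro w hw
    have h2 : (⟨(eB : Ω), hPB.le eB.2⟩ : ↥S) = e := Subtype.ext hPB.coe_eA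
    rcases hTB.W_cases hw with h | h | h | h
    · rw [show (⟨(w : Ω), hPB.le w.2⟩ : ↥S) = 1 from Subtype.ext (by rw [h]; rfl)]
      exact Subgroup.one_mem _
    · rw [show (⟨(w : Ω), hPB.le w.2⟩ : ↥S) = e from Subtype.ext (by rw [h]; exact hPB.coe_eA)]
      exact he_mem
    · rw [show (⟨(w : Ω), hPB.le w.2⟩ : ↥S) = v from Subtype.ext (by rw [h, hv])]
      exact hv_mem
    · rw [show (⟨(w : Ω), hPB.le w.2⟩ : ↥S) = e * v from Subtype.ext (by
        rw [h, hv]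
        show (eB : Ω) * ((γ₁ eB : ↥B) : Ω) = (e : Ω) * ((γ₁ eB : ↥B) : Ω)
        rw [hPB.coe_eA])]
      exact Subgroup.mul_mem _ he_mem hv_mem
  have hN : ⁅S, S⁆ ≤ NS.map S.subtype := by
    rw [Subgroup.commutator_le]
    intro g₁ h₁ g₂ h₂
    obtain ⟨k, hk⟩ := hcomm ⟨g₁, h₁⟩ ⟨g₂, h₂⟩
    have h3 : ⁅g₁, g₂⁆ = ((e ^ k : ↥S) : Ω) := by
      rw [← hk]; rfl
    rw [h3]
    exact coe_mem_map_subtype.mpr (Subgroup.pow_mem _ he_mem k)
  -- Alperin: `F` is contained in the focal subsystem of `N`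
  have hFE : F ≤ focalSub F (NS.map S.subtype) hN := by
    apply alperin 2 hS F hF
    intro P hP' α hα
    rcases hP' with rfl | hessP
    · rw [mem_autGroup_iff (focalSub F (NS.map P.subtype) hN) le_rfl α]
      refine ⟨(mem_autGroup_iff F le_rfl α).mp hα, fun a => ?_⟩
      have hαz : ∀ z ∈ Subgroup.center ↥P, α z = z := fun z hz =>
        autS_fix_center_two hS hF hcore hidx he he1 hep hcomm hnc hα hz
      have hαu : α u ∈ NS := by
        obtain ⟨β, hβ, hβa⟩ := essTwo_restrict hS hF hidx hep hcomm hT hα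
        have h1 := hWA_le (β (γ₀ eA)) (hT.W_map hβ (Subgroup.subset_closure (by simp)))
        have h2 : (⟨((β (γ₀ eA) : ↥A) : Ω), hP.le (β (γ₀ eA)).2⟩ : ↥P) = α u := by
          apply Subtype.ext
          rw [hβa, hu]
        rw [h2] at h1; exact h1
      have hαv : α v ∈ NS := by
        obtain ⟨β, hβ, hβa⟩ := essTwo_restrict hS hF hidx hep hcomm hTB hα
        have h1 := hWB_le (β (γ₁ eB)) (hTB.W_map hβ (Subgroup.subset_closure (by simp)))
        have h2 : (⟨((β (γ₁ eB) : ↥B) : Ω), hPB.le (β (γ₁ eB)).2⟩ : ↥P) = α v := by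
          apply Subtype.ext
          rw [hβa, hv]
        rw [h2] at h1; exact h1
      obtain ⟨h, hh, j, hj⟩ := cls2_between_mul_pow hidx betA.1 betA.2 hvA a
      obtain ⟨z, hz, i, hi⟩ := cls2_between_decomp hidx betA.1 betA.2 huA hunc hh
      have key : a⁻¹ * α a = (v ^ j)⁻¹ * (u ^ i)⁻¹ * (α u) ^ i * (α v) ^ j := by
        rw [hj, hi, map_mul, map_mul, map_pow, map_pow, hαz z hz]; group
      have hmem : a⁻¹ * α a ∈ NS := by
        rw [key]
        exact Subgroup.mul_mem _ (Subgroup.mul_mem _ (Subgroup.mul_mem _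
          (Subgroup.inv_mem _ (Subgroup.pow_mem _ hv_mem j))
          (Subgroup.inv_mem _ (Subgroup.pow_mem _ hu_mem i)))
          (Subgroup.pow_mem _ hαu i)) (Subgroup.pow_mem _ hαv j)
      exact coe_mem_map_subtype.mpr hmem
    · rcases hall P hessP with rfl | rfl
      · rw [mem_autGroup_iff (focalSub F (NS.map S.subtype) hN) hP.le α]
        refine ⟨(mem_autGroup_iff F hP.le α).mp hα, fun a => ?_⟩
        have h1 := hWA_le _ (essTwo_focal hS hF hcore hidx he he1 hep hcomm hnc hT hα a)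
        exact coe_mem_map_subtype.mpr h1
      · rw [mem_autGroup_iff (focalSub F (NS.map S.subtype) hN) hPB.le α]
        refine ⟨(mem_autGroup_iff F hPB.le α).mp hα, fun a => ?_⟩
        have h1 := hWB_le _ (essTwo_focal hS hF hcore hidx he he1 hep hcomm hnc hTB hα a)
        exact coe_mem_map_subtype.mpr h1
  have hfoc : F.focalSubgroup ≤ NS.map S.subtype := by
    unfold FusionSystem.focalSubgroup
    rw [Subgroup.closure_le]
    rintro _ ⟨P, φ, a, hφ, rfl⟩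
    exact (hFE P hφ).2 a
  have hSN : S ≤ NS.map S.subtype := by
    have h1 := (hyperfocal_le_focal F 2).trans hfoc
    rwa [hhyp] at h1
  have hdN : dS ∈ NS := coe_mem_map_subtype.mp (hSN dS.2)
  have hWn : ((Subgroup.closure ({eA, γ₀ eA} : Set ↥A)).map (Subgroup.inclusion hP.le)).Normal := by
    constructor
    rintro _ ⟨w, hw, rfl⟩ g
    have hgN : (g : Ω) ∈ Subgroup.normalizer (A : Set Ω) :=
      (Subgroup.normal_subgroupOf_iff_le_normalizer hP.le).mp (cls2_between_normal hidx betA.1) g.2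
    have hcg : conjAut A (g : Ω) hgN ∈ F.autGroup A :=
      autInducedBy_le_autGroup F hP.le (conjAut_mem_autInducedBy g.2 hgN)
    exact ⟨conjAut A (g : Ω) hgN w, hT.W_map hcg hw, Subtype.ext rfl⟩
  rw [hNS] at hdN
  obtain ⟨w', hw', v', hv', hwv⟩ := (Subgroup.mem_sup_of_normal_left).mp hdN
  have hvsq : v ^ 2 = 1 := by rw [pow_two]; exact hvv
  rcases mem_zpowers_two hvsq hv' with h | h
  · obtain ⟨w, hw, rfl⟩ := hw'
    have hdw : d = w := by
      apply Subtype.ext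
      have h1 := congrArg (fun s : ↥S => (s : Ω)) hwv
      rw [h, mul_one, hdS] at h1
      exact h1.symm
    rw [← hdw] at hw
    exact hd1 (hT.W_inter hw hcd hyd)
  · apply hvA
    have h1 : v = w'⁻¹ * dS := by rw [← hwv, h]; group
    rw [h1]
    refine Subgroup.mul_mem _ (Subgroup.inv_mem _ ?_) ?_
    · obtain ⟨w, -, rfl⟩ := hw'
      exact w.2
    · rw [hdS]; exact d.2

/-- The case `p = 2`: the centre of `S` consists of powers of `e`. -/
theorem center_pow_of_two [Finite S] (hS : IsPGroup 2 S) (F : FusionSystem S)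
    (hF : F.IsSaturated 2) (hcore : F.core = ⊥) (hhyp : F.hyperfocalSubgroup 2 = S)
    (hidx : (Subgroup.center ↥S).index = 2 ^ 2) {e : ↥S}
    (he : e ∈ Subgroup.center ↥S) (he1 : e ≠ 1) (hep : e ^ 2 = 1)
    (hcomm : ∀ u v : ↥S, ∃ k : ℕ, ⁅u, v⁆ = e ^ k) (hnc : ∃ a b : ↥S, a * b ≠ b * a)
    {A : Subgroup Ω} (hess : F.IsEssential 2 A) :
    ∀ z ∈ Subgroup.center ↥S, ∃ k : ℕ, z = e ^ k := by
  obtain ⟨x, c, eA, hP⟩ := exists_essPack hS F hF hidx he he1 hep hcomm hess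
  obtain ⟨γ₀, hT⟩ := exists_essTwo hP
  intro z hz
  have hzA : (z : Ω) ∈ A := hP.between.1.le hz
  have hcb : c ⟨(z : Ω), hzA⟩ = ⟨(z : Ω), hzA⟩ := (hP.fix_iff _).mpr hz
  obtain ⟨k, hk⟩ := hT.fix_decomp ⟨(z : Ω), hzA⟩
  have hcd : c (⟨(z : Ω), hzA⟩ * eA ^ k) = ⟨(z : Ω), hzA⟩ * eA ^ k := by
    rw [map_mul, hcb, map_pow, hP.c_eA]
  have hd1 := essTwo_K_trivial hS hF hcore hhyp hidx he he1 hep hcomm hnc hT hcd hk
  refine ⟨k, ?_⟩
  have h3 : z * e ^ k = 1 := by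
    apply Subtype.ext
    have h4 := congrArg (fun a : ↥A => (a : Ω)) hd1
    have h5 : (z : Ω) * (eA : Ω) ^ k = 1 := h4
    rw [hP.coe_eA] at h5
    exact h5
  have h4 : e ^ k * e ^ k = 1 := by rw [← pow_add, ← two_mul, pow_mul, hep, one_pow]
  calc z = z * (e ^ k * e ^ k) := by rw [h4, mul_one]
    _ = (z * e ^ k) * e ^ k := by rw [mul_assoc]
    _ = e ^ k := by rw [h3, one_mul]

end Cfsg.Agent.Helper31
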