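import Mathlib
import Cfsg.Prelude.Def_FusionSystem
import Cfsg.Agent.Helper31.EssE
import Cfsg.Agent.Helper11.Counting

set_option autoImplicit false

/-! S5265 for odd `p`: the exponent (helper31). -/

open Cfsg Cfsg.FusionSystem Cfsg.Agent.Helper84
open scoped commutatorElement

namespace Cfsg.Agent.Helper31

variable {Ω : Type*} [Group Ω] {S : Subgroup Ω}

/-- An essential subgroup contains a noncentral element of order `p`. -/
theorem essPack_exists_noncentral [Finite S] {p : ℕ} [Fact p.Prime] {F : FusionSystem S} {e : ↥S}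
    {A : Subgroup Ω} {x : ↥S} {c : MulAut ↥A} {eA : ↥A} (hP : EssPack p F e A x c eA) :
    ∃ u : ↥S, u ∈ A.subgroupOf S ∧ u ∉ Subgroup.center ↥S ∧ u ^ p = 1 := by
  have hfA : Finite A := finite_of_le hP.le
  obtain ⟨γ, hγ, hγc⟩ := hP.exists_valid
  have hyΓ : γ * c * γ⁻¹ ∈ F.autGroup A :=
    (F.autGroup A).mul_mem ((F.autGroup A).mul_mem hγ hP.c_mem) ((F.autGroup A).inv_mem hγ)
  have hy1 : γ * c * γ⁻¹ ≠ 1 := fun h => hγc (h ▸ Subgroup.one_mem _)
  have hce : c (γ eA) ≠ γ eA := by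
    letI : CommGroup ↥A := commGroupOfComm hP.comm
    have hcTv : IsTv p c eA := ⟨hP.eA_pow, hP.c_eA, hP.c_tv⟩
    have hyTv : IsTv p (γ * c * γ⁻¹) (γ eA) := hcTv.conj γ
    have hcy : c ∉ Subgroup.zpowers (γ * c * γ⁻¹) :=
      not_mem_zpowers_symm hcTv.pow_p hyTv.pow_p hP.c_ne hy1 hγc
    exact tv_not_fix hP.hmax hP.c_mem hyΓ hcTv hyTv hy1 hcy
  refine ⟨⟨((γ eA : ↥A) : Ω), hP.le (γ eA).2⟩, (γ eA).2,
    fun h => hce ((hP.fix_iff (γ eA)).mpr h), ?_⟩
  apply Subtype.ext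
  show ((γ eA : ↥A) : Ω) ^ p = 1
  have h1 : (γ eA) ^ p = 1 := by rw [← map_pow, hP.eA_pow, map_one]
  exact congrArg (fun a : ↥A => (a : Ω)) h1

/-- Odd case: `S` has exponent `p`. -/
theorem exp_of_odd [Finite S] {p : ℕ} [Fact p.Prime] (hp2 : p ≠ 2) (hS : IsPGroup p S)
    (F : FusionSystem S) (hF : F.IsSaturated p) (hcore : F.core = ⊥)
    (hidx : (Subgroup.center ↥S).index = p ^ 2) {e : ↥S}
    (he : e ∈ Subgroup.center ↥S) (he1 : e ≠ 1) (hep : e ^ p = 1)
    (hcomm : ∀ u v : ↥S, ∃ k : ℕ, ⁅u, v⁆ = e ^ k)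
    (hcen : ∀ z ∈ Subgroup.center ↥S, ∃ k : ℕ, z = e ^ k)
    {A : Subgroup Ω} (hess : F.IsEssential p A) : ∀ g : ↥S, g ^ p = 1 := by
  have hpp : p.Prime := Fact.out
  have hmulp : ∀ s t : ↥S, s ^ p = 1 → t ^ p = 1 → (s * t) ^ p = 1 := by
    intro s t hs ht
    obtain ⟨k, hk⟩ := hcomm t s
    have hc : ⁅t, s⁆ ∈ Subgroup.center ↥S := by rw [hk]; exact Subgroup.pow_mem _ he k
    have hcs : ⁅t, s⁆ * s = s * ⁅t, s⁆ := (Subgroup.mem_center_iff.mp hc s).symm
    have hct : ⁅t, s⁆ * t = t * ⁅t, s⁆ := (Subgroup.mem_center_iff.mp hc t).symm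
    rw [Cfsg.Agent.Helper11.mul_pow_of_commute_commutator s t hcs hct p, hs, ht, hk, ← pow_mul]
    have hdvd : p ∣ p.choose 2 :=
      hpp.dvd_choose_self (by norm_num) (by have := hpp.two_le; omega)
    obtain ⟨r, hr⟩ := hdvd
    have h1 : k * p.choose 2 = p * (k * r) := by rw [hr]; ring
    rw [h1, pow_mul, hep, one_pow, mul_one, mul_one]
  obtain ⟨O1, hO1⟩ : ∃ O1 : Subgroup ↥S, ∀ s, s ∈ O1 ↔ s ^ p = 1 :=
    ⟨{ carrier := {s | s ^ p = 1}
       mul_mem' := fun {a b} ha hb => hmulp a b ha hb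
       one_mem' := one_pow p
       inv_mem' := fun {a} ha => by
        show a⁻¹ ^ p = 1
        rw [inv_pow, (show a ^ p = 1 from ha), inv_one] }, fun s => Iff.rfl⟩
  by_contra hcon
  push Not at hcon
  obtain ⟨s₀, hs₀⟩ := hcon
  have hO1top : O1 < ⊤ :=
    lt_of_le_of_ne le_top (fun h => hs₀ ((hO1 s₀).mp (h ▸ Subgroup.mem_top s₀)))
  have hall : ∀ B : Subgroup Ω, F.IsEssential p B → B.subgroupOf S = O1 := by
    intro B hessB
    obtain ⟨x, c, eB, hP⟩ := exists_essPack hS F hF hidx he he1 hep hcomm hessB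
    obtain ⟨u, huB, hunc, hup⟩ := essPack_exists_noncentral hP
    have hle : B.subgroupOf S ≤ O1 := by
      intro a ha
      obtain ⟨z, hz, j, hj⟩ := cls2_between_decomp hidx hP.between.1 hP.between.2 huB hunc ha
      obtain ⟨k, hk⟩ := hcen z hz
      rw [hO1]
      have hcm : Commute z (u ^ j) := (Subgroup.mem_center_iff.mp hz (u ^ j)).symm
      rw [hj, hcm.mul_pow, hk, ← pow_mul, mul_comm k p, pow_mul, hep, one_pow, ← pow_mul,
        mul_comm j p, pow_mul, hup, one_pow, mul_one]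
    exact cls2_eq_of_le hidx hP.between.1 hP.between.2 (lt_of_lt_of_le hP.between.1 hle) hO1top hle
  have hA' := hall A hess
  have hAS : A ≤ S := hess.1.1
  have hn : F.IsNormal A := by
    rw [normal_iff_essential p hS F hF]
    rintro P (rfl | hessP)
    · refine ⟨hAS, ?_⟩
      apply map_eq_of_forall_mem (F.autGroup P) (A.subgroupOf P)
      intro α hα q hq
      rw [hA', hO1] at hq ⊢
      rw [← map_pow, hq, map_one]
    · have hPA : P = A := eq_of_subgroupOf_eq hessP.1.1 hAS ((hall P hessP).trans hA'.symm)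
      rw [hPA]
      refine ⟨le_rfl, fun α hα => ?_⟩
      rw [Subgroup.subgroupOf_self]
      exact Subgroup.map_top_of_surjective _ α.surjective
  have hbot : A ≤ ⊥ := by rw [← hcore]; exact le_sSup hn
  have heA : (e : Ω) ∈ A := (ess_between hS F hF hess).1.le he
  apply he1
  exact Subtype.ext (Subgroup.mem_bot.mp (hbot heA))

end Cfsg.Agent.Helper31
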