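import Mathlib
import Cfsg.Agent.Helper90.HTDefs
import Cfsg.Agent.Helper31.HTBABcore
import Cfsg.Agent.Helper5.HTFPF

/-!
# helper31: CALL S5953 piece BAB (`bad_ab_u`, verbatim), from the core and FPF.
-/

set_option autoImplicit false
set_option linter.unusedSectionVars false
set_option linter.unusedVariables false

namespace Cfsg.Agent.Helper31.HT5953

open Module Polynomial Cfsg.Agent.Helper90.HT

section models

variable {F : Type*} [Field F] [Fintype F] (q : ℕ) (hq : Fintype.card F = q ^ 2)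

include hq

/-- BAB (uses CAUCHY, FPF, BLK, SCAL): prescribed fixed space. -/
theorem bad_ab_u (r : ℕ) [Fact r.Prime] (hr2 : 2 < r) (hrq : ¬ r ∣ q) (c : ℕ) (hc2 : 2 ≤ c)
    (hcr : r ∣ (if Even c then q ^ c - 1 else q ^ c + 1))
    (hcmin : ∀ j, 1 ≤ j → j < c → ¬ r ∣ (if Even j then q ^ j - 1 else q ^ j + 1))
    (n u e : ℕ) (hu : 1 ≤ u) (hdim : n = c * u + e) :
    ∃ x : Matrix.SpecialLinearGroup (Fin n) F, x ∈ Cfsg.SU n F q ∧ x ^ r = 1 ∧
      (∀ z : F, (x : Matrix (Fin n) (Fin n) F) ≠ z • 1) ∧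
      finrank F (LinearMap.ker (Matrix.toLin' (x : Matrix (Fin n) (Fin n) F) - 1)) = e := by
  exact bad_ab_u_of_fpf q hq r hr2 hrq c hc2 hcr hcmin
    (fun g hg hgr hg1 =>
      Cfsg.Agent.Helper5.HT5953.ht_fpf q hq c hc2 r hr2 hrq hcmin g hg hgr hg1)
    n u e hu hdim

end models

end Cfsg.Agent.Helper31.HT5953
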