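import Mathlib

set_option autoImplicit false

/-! Upper central series of a `p`-group of maximal class: orders of `Z` and `Z₂`, and maximality
of the centralizer of `Z₂` (helper31, for S5270). -/

open scoped commutatorElement

namespace Cfsg.Agent.Helper31

section MaxClass

variable {P : Type*} [Group P]

/-- In a finite `p`-group the upper central series increases strictly until it reaches the top. -/
theorem ucs_lt_succ [Finite P] {p : ℕ} [Fact p.Prime] (hP : IsPGroup p P) (i : ℕ)
    (h : Subgroup.upperCentralSeries P i ≠ ⊤) :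
    Subgroup.upperCentralSeries P i < Subgroup.upperCentralSeries P (i + 1) := by
  refine lt_of_le_of_ne (Subgroup.upperCentralSeries_mono P (Nat.le_succ i)) ?_
  intro heq
  obtain ⟨x, hx⟩ : ∃ x, x ∉ Subgroup.upperCentralSeries P i := by
    by_contra hcon
    push Not at hcon
    exact h (eq_top_iff.mpr fun x _ => hcon x)
  have : Nontrivial (P ⧸ Subgroup.upperCentralSeries P i) :=
    ⟨⟨(x : P ⧸ Subgroup.upperCentralSeries P i), 1, fun h1 => hx ((QuotientGroup.eq_one_iff x).mp h1)⟩⟩
  have hc := (hP.to_quotient (Subgroup.upperCentralSeries P i)).bot_lt_center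
  obtain ⟨q, hq, hq1⟩ := SetLike.exists_of_lt hc
  obtain ⟨y, rfl⟩ := QuotientGroup.mk_surjective q
  have hy : y ∈ Subgroup.upperCentralSeries P (i + 1) := by
    show y ∈ Subgroup.upperCentralSeriesStep (Subgroup.upperCentralSeries P i)
    rw [Subgroup.upperCentralSeriesStep_eq_comap_center]
    exact hq
  rw [← heq] at hy
  exact hq1 ((QuotientGroup.eq_one_iff y).mpr hy)

/-- A term `Z_{i+1}` of the upper central series never has prime index. -/
theorem ucs_succ_index_ne_prime {p : ℕ} (hp : p.Prime) (i : ℕ) :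
    (Subgroup.upperCentralSeries P (i + 1)).index ≠ p := by
  intro hidx
  obtain ⟨g, hg⟩ : ∃ g, g ∉ Subgroup.upperCentralSeries P (i + 1) := by
    by_contra hcon
    push Not at hcon
    have : Subgroup.upperCentralSeries P (i + 1) = ⊤ := eq_top_iff.mpr fun x _ => hcon x
    rw [this, Subgroup.index_top] at hidx
    exact hp.one_lt.ne hidx
  have hstep : Subgroup.upperCentralSeries P (i + 1) =
      Subgroup.comap (QuotientGroup.mk' (Subgroup.upperCentralSeries P i))
        (Subgroup.center (P ⧸ Subgroup.upperCentralSeries P i)) :=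
    Subgroup.upperCentralSeriesStep_eq_comap_center (Subgroup.upperCentralSeries P i)
  let W : Subgroup P := (Subgroup.centralizer
    ({(g : P ⧸ Subgroup.upperCentralSeries P i)} : Set (P ⧸ Subgroup.upperCentralSeries P i))).comap
      (QuotientGroup.mk' (Subgroup.upperCentralSeries P i))
  have hHW : Subgroup.upperCentralSeries P (i + 1) ≤ W := by
    rw [hstep]
    exact Subgroup.comap_mono (Subgroup.center_le_centralizer _)
  have hgW : g ∈ W := by
    show (g : P ⧸ Subgroup.upperCentralSeries P i) ∈ Subgroup.centralizer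
      ({(g : P ⧸ Subgroup.upperCentralSeries P i)} : Set (P ⧸ Subgroup.upperCentralSeries P i))
    rw [Subgroup.mem_centralizer_iff]
    intro h hh
    rw [Set.mem_singleton_iff] at hh
    rw [hh]
  have hWtop : W = ⊤ := by
    have h1 := Subgroup.relIndex_mul_index hHW
    rw [hidx] at h1
    have h2 : (Subgroup.upperCentralSeries P (i + 1)).relIndex W ≠ 1 := by
      intro h
      exact hg (Subgroup.relIndex_eq_one.mp h hgW)
    rcases (Nat.dvd_prime hp).mp (Dvd.intro _ h1) with h3 | h3
    · exact absurd h3 h2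
    · rw [h3] at h1
      have h4 : W.index = 1 := Nat.eq_of_mul_eq_mul_left hp.pos (h1.trans (mul_one p).symm)
      exact Subgroup.index_eq_one.mp h4
  apply hg
  rw [hstep]
  show (g : P ⧸ Subgroup.upperCentralSeries P i) ∈ Subgroup.center (P ⧸ Subgroup.upperCentralSeries P i)
  rw [Subgroup.mem_center_iff]
  intro q
  obtain ⟨y, rfl⟩ := QuotientGroup.mk_surjective q
  have hy : y ∈ W := by rw [hWtop]; exact Subgroup.mem_top y
  have h5 := (Subgroup.mem_centralizer_iff.mp hy) (g : P ⧸ Subgroup.upperCentralSeries P i) rfl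
  exact h5.symm

theorem ucs_index_succ_mul_dvd [Finite P] {p : ℕ} [Fact p.Prime] (hP : IsPGroup p P) (i : ℕ)
    (h : Subgroup.upperCentralSeries P i ≠ ⊤) :
    (Subgroup.upperCentralSeries P (i + 1)).index * p ∣ (Subgroup.upperCentralSeries P i).index := by
  have hlt := ucs_lt_succ hP i h
  have h1 := Subgroup.relIndex_mul_index hlt.le
  obtain ⟨k, hk⟩ := (hP.to_subgroup (Subgroup.upperCentralSeries P (i + 1))).index
    ((Subgroup.upperCentralSeries P i).subgroupOf (Subgroup.upperCentralSeries P (i + 1)))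
  have hk' : (Subgroup.upperCentralSeries P i).relIndex (Subgroup.upperCentralSeries P (i + 1)) = p ^ k := hk
  have hk0 : k ≠ 0 := by
    rintro rfl
    rw [pow_zero] at hk'
    exact (not_le_of_gt hlt) (Subgroup.relIndex_eq_one.mp hk')
  have h2 : (Subgroup.upperCentralSeries P i).index = p ^ k * (Subgroup.upperCentralSeries P (i + 1)).index := by
    rw [← h1, hk']
  rw [h2, mul_comm]
  exact Nat.mul_dvd_mul (dvd_pow_self p hk0) (dvd_refl _)

theorem ucs_index_mul_pow_dvd [Finite P] {p : ℕ} [Fact p.Prime] (hP : IsPGroup p P) (i : ℕ) :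
    ∀ k : ℕ, (∀ j < k, Subgroup.upperCentralSeries P (i + j) ≠ ⊤) →
      (Subgroup.upperCentralSeries P (i + k)).index * p ^ k ∣ (Subgroup.upperCentralSeries P i).index := by
  intro k
  induction k with
  | zero => intro _; simp
  | succ k ih =>
    intro h
    have h1 := ih (fun j hj => h j (Nat.lt_succ_of_lt hj))
    have h2 := ucs_index_succ_mul_dvd hP (i + k) (h k (Nat.lt_succ_self k))
    refine dvd_trans ?_ h1
    have h3 : (Subgroup.upperCentralSeries P (i + (k + 1))).index * p ^ (k + 1) =
        ((Subgroup.upperCentralSeries P (i + k + 1)).index * p) * p ^ k := by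
      show (Subgroup.upperCentralSeries P (i + k + 1)).index * p ^ (k + 1) = _
      rw [pow_succ]; ring
    rw [h3]
    exact Nat.mul_dvd_mul h2 (dvd_refl _)

/-- In a `p`-group of maximal class of order `p ^ n`, `n ≥ 4`: `|Z| = p` and `|Z₂| = p²`. -/
theorem ucs_card_of_maxclass [Finite P] {p : ℕ} [Fact p.Prime] (hP : IsPGroup p P) {n : ℕ}
    (hn : Nat.card P = p ^ n) (h4 : 4 ≤ n) (hmax : Subgroup.upperCentralSeries P (n - 2) ≠ ⊤) :
    Nat.card (Subgroup.center P) = p ∧ Nat.card (Subgroup.upperCentralSeries P 2) = p ^ 2 := by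
  have hp := (Fact.out : p.Prime)
  have hne : ∀ j ≤ n - 2, Subgroup.upperCentralSeries P j ≠ ⊤ := fun j hj h =>
    hmax (eq_top_iff.mpr (h ▸ Subgroup.upperCentralSeries_mono P hj))
  have h0 : (Subgroup.upperCentralSeries P 0).index = p ^ n := by
    rw [Subgroup.upperCentralSeries_zero, Subgroup.index_bot, hn]
  have hA := ucs_index_mul_pow_dvd hP 0 (n - 2) (fun j hj => hne (0 + j) (by omega))
  rw [h0, zero_add] at hA
  have hd : (Subgroup.upperCentralSeries P (n - 2)).index = p ^ 2 := by
    have hA' : (Subgroup.upperCentralSeries P (n - 2)).index ∣ p ^ 2 := by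
      have e : p ^ n = p ^ 2 * p ^ (n - 2) := by rw [← pow_add]; congr 1; omega
      rw [e] at hA
      exact Nat.dvd_of_mul_dvd_mul_right (pow_pos hp.pos _) hA
    obtain ⟨j, hj, hj'⟩ := (Nat.dvd_prime_pow hp).mp hA'
    interval_cases j
    · exfalso; rw [pow_zero] at hj'; exact hmax (Subgroup.index_eq_one.mp hj')
    · exfalso
      have e : n - 2 = (n - 3) + 1 := by omega
      rw [e, pow_one] at hj'
      exact ucs_succ_index_ne_prime hp (n - 3) hj'
    · exact hj'
  have hB1 := ucs_index_mul_pow_dvd hP 1 (n - 3) (fun j hj => hne (1 + j) (by omega))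
  have hB2 := ucs_index_mul_pow_dvd hP 0 1 (fun j hj => hne (0 + j) (by omega))
  have e1 : 1 + (n - 3) = n - 2 := by omega
  rw [e1, hd] at hB1
  rw [h0, zero_add] at hB2
  have hd1 : (Subgroup.upperCentralSeries P 1).index = p ^ (n - 1) := by
    apply Nat.dvd_antisymm
    · have e : p ^ n = p ^ (n - 1) * p ^ 1 := by rw [← pow_add]; congr 1; omega
      rw [e] at hB2
      exact Nat.dvd_of_mul_dvd_mul_right (pow_pos hp.pos _) hB2
    · have e : p ^ (n - 1) = p ^ 2 * p ^ (n - 3) := by rw [← pow_add]; congr 1; omega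
      rw [e]; exact hB1
  have hC1 := ucs_index_mul_pow_dvd hP 2 (n - 4) (fun j hj => hne (2 + j) (by omega))
  have hC2 := ucs_index_mul_pow_dvd hP 0 2 (fun j hj => hne (0 + j) (by omega))
  have e2 : 2 + (n - 4) = n - 2 := by omega
  rw [e2, hd] at hC1
  rw [h0, zero_add] at hC2
  have hd2 : (Subgroup.upperCentralSeries P 2).index = p ^ (n - 2) := by
    apply Nat.dvd_antisymm
    · have e : p ^ n = p ^ (n - 2) * p ^ 2 := by rw [← pow_add]; congr 1; omega
      rw [e] at hC2
      exact Nat.dvd_of_mul_dvd_mul_right (pow_pos hp.pos _) hC2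
    · have e : p ^ (n - 2) = p ^ 2 * p ^ (n - 4) := by rw [← pow_add]; congr 1; omega
      rw [e]; exact hC1
  constructor
  · have h5 := Subgroup.card_mul_index (Subgroup.upperCentralSeries P 1)
    rw [hd1, hn, Subgroup.upperCentralSeries_one] at h5
    have e : p ^ n = p * p ^ (n - 1) := by rw [← pow_succ']; congr 1; omega
    rw [e] at h5
    exact Nat.eq_of_mul_eq_mul_right (pow_pos hp.pos _) h5
  · have h5 := Subgroup.card_mul_index (Subgroup.upperCentralSeries P 2)
    rw [hd2, hn] at h5
    have e : p ^ n = p ^ 2 * p ^ (n - 2) := by rw [← pow_add]; congr 1; omega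
    rw [e] at h5
    exact Nat.eq_of_mul_eq_mul_right (pow_pos hp.pos _) h5

theorem eq_of_lt_le_card_mul_prime {G : Type*} [Group G] {A B C : Subgroup G} [Finite C] {p : ℕ}
    (hp : p.Prime) (hAB : A < B) (hBC : B ≤ C) (hcard : Nat.card C = Nat.card A * p) : B = C := by
  have h1 := Subgroup.card_dvd_of_le hAB.le
  have h2 := Subgroup.card_dvd_of_le hBC
  obtain ⟨m, hm⟩ := h1
  rw [hm, hcard] at h2
  have : Finite B := Finite.of_injective _ (Subgroup.inclusion_injective hBC)
  have : Finite A := Finite.of_injective _ (Subgroup.inclusion_injective hAB.le)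
  have hApos : 0 < Nat.card A := Nat.card_pos
  have h3 : m ∣ p := Nat.dvd_of_mul_dvd_mul_left hApos h2
  rcases (Nat.dvd_prime hp).mp h3 with rfl | rfl
  · exfalso
    rw [mul_one] at hm
    exact (ne_of_lt hAB) (Subgroup.eq_of_le_of_card_ge hAB.le hm.le)
  · exact Subgroup.eq_of_le_of_card_ge hBC (by rw [hcard, hm])

/-- If `|Z| = p` and `|Z₂| = p²`, every subgroup strictly containing `C(Z₂)` is the whole group. -/
theorem centralizer_ucs2_max [Finite P] {p : ℕ} [Fact p.Prime]
    (h1 : Nat.card (Subgroup.center P) = p) (h2 : Nat.card (Subgroup.upperCentralSeries P 2) = p ^ 2) :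
    ∀ Q : Subgroup P, Subgroup.centralizer (Subgroup.upperCentralSeries P 2 : Set P) < Q → Q = ⊤ := by
  have hp := (Fact.out : p.Prime)
  have hle : Subgroup.center P ≤ Subgroup.upperCentralSeries P 2 := by
    rw [← Subgroup.upperCentralSeries_one]; exact Subgroup.upperCentralSeries_mono P (by norm_num)
  have hlt : Subgroup.center P < Subgroup.upperCentralSeries P 2 := by
    refine lt_of_le_of_ne hle (fun h => ?_)
    rw [h, h2] at h1
    have h3 := hp.one_lt
    nlinarith
  obtain ⟨t, ht, htZ⟩ := SetLike.exists_of_lt hlt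
  have hcomm : ∀ s : P, ⁅s, t⁆ ∈ Subgroup.center P := by
    intro s
    have h3 := (Subgroup.mem_upperCentralSeries_succ_iff (n := 1)).mp ht s
    rw [Subgroup.upperCentralSeries_one] at h3
    rw [← commutatorElement_inv]
    exact inv_mem h3
  let f : P →* P := MonoidHom.mk' (fun s => ⁅s, t⁆) (by
    intro a b
    have hc := Subgroup.mem_center_iff.mp (hcomm b)
    show ⁅a * b, t⁆ = ⁅a, t⁆ * ⁅b, t⁆
    have e1 : ⁅a * b, t⁆ = a * ⁅b, t⁆ * (t * a⁻¹ * t⁻¹) := by
      simp only [commutatorElement_def]; group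
    rw [e1, hc a, hc ⁅a, t⁆]
    simp only [commutatorElement_def, mul_assoc])
  have hf : ∀ s, f s = ⁅s, t⁆ := fun s => rfl
  have hrange : f.range ≤ Subgroup.center P := by rintro _ ⟨s, rfl⟩; exact hcomm s
  have hidx : f.ker.index ∣ p := by
    rw [Subgroup.index_ker, ← h1]
    exact Subgroup.card_dvd_of_le hrange
  have hker : Subgroup.centralizer (Subgroup.upperCentralSeries P 2 : Set P) = f.ker := by
    apply le_antisymm
    · intro x hx
      rw [MonoidHom.mem_ker, hf, commutatorElement_eq_one_iff_mul_comm]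
      exact (Subgroup.mem_centralizer_iff.mp hx t ht).symm
    · intro x hx
      have hxt : x * t = t * x := by
        have h3 : ⁅x, t⁆ = 1 := MonoidHom.mem_ker.mp hx
        exact commutatorElement_eq_one_iff_mul_comm.mp h3
      have hZW : Subgroup.center P < Subgroup.centralizer ({x} : Set P) ⊓ Subgroup.upperCentralSeries P 2 := by
        refine lt_of_le_of_ne (le_inf (Subgroup.center_le_centralizer _) hle) ?_
        intro h
        apply htZ
        rw [h]
        refine ⟨?_, ht⟩
        show t ∈ Subgroup.centralizer ({x} : Set P)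
        rw [Subgroup.mem_centralizer_iff]
        intro y hy
        rw [Set.mem_singleton_iff] at hy
        rw [hy]; exact hxt
      have hWeq : Subgroup.centralizer ({x} : Set P) ⊓ Subgroup.upperCentralSeries P 2 =
          Subgroup.upperCentralSeries P 2 :=
        eq_of_lt_le_card_mul_prime hp hZW inf_le_right (by rw [h1, h2, sq])
      rw [Subgroup.mem_centralizer_iff]
      intro y hy
      have hyW : y ∈ Subgroup.centralizer ({x} : Set P) ⊓ Subgroup.upperCentralSeries P 2 := by
        rw [hWeq]; exact hy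
      have h3 := Subgroup.mem_centralizer_iff.mp hyW.1 x rfl
      exact h3.symm
  intro Q hQ
  rw [hker] at hQ
  have h3 := Subgroup.relIndex_mul_index hQ.le
  have h4 : f.ker.relIndex Q ≠ 1 := fun h => (not_le_of_gt hQ) (Subgroup.relIndex_eq_one.mp h)
  rw [← h3] at hidx
  have h5 : f.ker.relIndex Q ∣ p := dvd_trans (Dvd.intro _ rfl) hidx
  rcases (Nat.dvd_prime hp).mp h5 with h6 | h6
  · exact absurd h6 h4
  · rw [h6] at hidx
    have h7 : Q.index ∣ 1 := Nat.dvd_of_mul_dvd_mul_left hp.pos (by simpa using hidx)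
    exact Subgroup.index_eq_one.mp (Nat.dvd_one.mp h7)

end MaxClass

/-- Maximal class, order `p ^ n`, `n ≥ 4`: `C_S(Z₂(S))` is `S` or a maximal subgroup of `S`. -/
theorem maxclass_centralizer_max {Ω : Type*} [Group Ω] {S : Subgroup Ω} [Finite S] (p : ℕ)
    [Fact p.Prime] (hS : IsPGroup p S) (n : ℕ) (hn : Nat.card S = p ^ n) (h4 : 4 ≤ n)
    (hmax : Subgroup.lowerCentralSeries S (n - 2) ≠ ⊥) (Q : Subgroup Ω)
    (hQ : S ⊓ Subgroup.centralizer
      (((Subgroup.upperCentralSeries ↥S 2).map S.subtype : Subgroup Ω) : Set Ω) < Q)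
    (hQS : Q ≤ S) : S ≤ Q := by
  have hmax' : Subgroup.upperCentralSeries ↥S (n - 2) ≠ ⊤ := by
    intro h
    apply hmax
    rw [← Subgroup.top_subtype_lowerCentralSeries,
      (Subgroup.lowerCentralSeries_eq_bot_iff_upperCentralSeries_eq_top).mpr h, Subgroup.map_bot]
  obtain ⟨h1, h2⟩ := ucs_card_of_maxclass hS hn h4 hmax'
  have key := centralizer_ucs2_max (p := p) h1 h2 (Q.subgroupOf S) ?_
  · intro s hs
    have h3 : (⟨s, hs⟩ : ↥S) ∈ Q.subgroupOf S := by rw [key]; exact Subgroup.mem_top _
    exact h3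
  · refine lt_of_le_of_ne ?_ ?_
    · intro x hx
      show (x : Ω) ∈ Q
      apply hQ.le
      refine ⟨x.2, ?_⟩
      show (x : Ω) ∈ Subgroup.centralizer
        (((Subgroup.upperCentralSeries ↥S 2).map S.subtype : Subgroup Ω) : Set Ω)
      rw [Subgroup.mem_centralizer_iff]
      rintro _ ⟨y, hy, rfl⟩
      have h3 := Subgroup.mem_centralizer_iff.mp hx y hy
      exact congrArg Subtype.val h3
    · intro h
      apply (not_le_of_gt hQ)
      intro q hq
      have hqS := hQS hq
      have h3 : (⟨q, hqS⟩ : ↥S) ∈ Subgroup.centralizer (Subgroup.upperCentralSeries ↥S 2 : Set ↥S) := by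
        rw [h]; exact hq
      refine ⟨hqS, ?_⟩
      show q ∈ Subgroup.centralizer
        (((Subgroup.upperCentralSeries ↥S 2).map S.subtype : Subgroup Ω) : Set Ω)
      rw [Subgroup.mem_centralizer_iff]
      rintro _ ⟨y, hy, rfl⟩
      have h5 := Subgroup.mem_centralizer_iff.mp h3 y hy
      exact congrArg Subtype.val h5

end Cfsg.Agent.Helper31
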