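import Mathlib
import Cfsg.Agent.S5317

/-!
# Two-by-two matrices: involutions and elements of order four (helper31)

Elementary facts on `2 × 2` matrices over a field used to transfer the conjugacy of involutions of
`PSL₂(F)` to elements of order four of `SL₂(F)` and `GL₂(F)`.
-/

set_option autoImplicit false

namespace Cfsg.Agent.Helper31

open Cfsg.Agent.Helper41

section Mat

variable {F : Type*} [Field F]

/-- Cayley–Hamilton for `2 × 2` matrices. -/
theorem mat2_sq (A : Matrix (Fin 2) (Fin 2) F) :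
    A * A = (A 0 0 + A 1 1) • A - A.det • (1 : Matrix (Fin 2) (Fin 2) F) := by
  rw [Matrix.det_fin_two]
  ext i j
  fin_cases i <;> fin_cases j <;> simp [Matrix.mul_apply, Fin.sum_univ_two] <;> ring

theorem mat2_entries {A B : Matrix (Fin 2) (Fin 2) F} (h : A = B) :
    A 0 0 = B 0 0 ∧ A 0 1 = B 0 1 ∧ A 1 0 = B 1 0 ∧ A 1 1 = B 1 1 := by
  subst h
  exact ⟨rfl, rfl, rfl, rfl⟩

theorem mat2_ext {A B : Matrix (Fin 2) (Fin 2) F} (h00 : A 0 0 = B 0 0) (h01 : A 0 1 = B 0 1)
    (h10 : A 1 0 = B 1 0) (h11 : A 1 1 = B 1 1) : A = B := by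
  ext i j
  fin_cases i <;> fin_cases j
  · exact h00
  · exact h01
  · exact h10
  · exact h11

/-- A scalar-like `2 × 2` matrix squaring to `1` is `1` or `-1`. -/
theorem mat2_scalar_sq {A : Matrix (Fin 2) (Fin 2) F} (h01 : A 0 1 = 0) (h10 : A 1 0 = 0)
    (h : A 0 0 = A 1 1) (hsq : A 0 0 * A 0 0 = 1) (hne : A ≠ 1) : A = -1 := by
  have h1 : (A 0 0 - 1) * (A 0 0 + 1) = 0 := by linear_combination hsq
  rcases mul_eq_zero.mp h1 with h2 | h2
  · exfalso
    apply hne
    have h3 : A 0 0 = 1 := by linear_combination h2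
    exact mat2_ext (by simp [h3]) (by simp [h01]) (by simp [h10]) (by rw [← h, h3]; simp)
  · have h3 : A 0 0 = -1 := by linear_combination h2
    exact mat2_ext (by simp [h3]) (by simp [h01]) (by simp [h10]) (by rw [← h, h3]; simp)

/-- The only involution of determinant one is `-1` (characteristic not two). -/
theorem sl2_invol (h2 : (2 : F) ≠ 0) (A : Matrix (Fin 2) (Fin 2) F) (hdet : A.det = 1)
    (hsq : A * A = 1) (hne : A ≠ 1) : A = -1 := by
  have h := mat2_sq A
  rw [hsq, hdet] at h
  obtain ⟨h00, h01, h10, h11⟩ := mat2_entries h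
  simp at h00 h01 h10 h11
  have ht : A 0 0 + A 1 1 ≠ 0 := by
    intro ht
    rw [ht] at h00
    apply h2
    linear_combination h00
  have e01 : A 0 1 = 0 := by
    rcases h01 with h | h
    · exact absurd h ht
    · exact h
  have e10 : A 1 0 = 0 := by
    rcases h10 with h | h
    · exact absurd h ht
    · exact h
  have e : A 0 0 = A 1 1 := by
    have : (A 0 0 + A 1 1) * (A 0 0 - A 1 1) = 0 := by linear_combination h11 - h00
    rcases mul_eq_zero.mp this with h | h
    · exact absurd h ht
    · linear_combination h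
  have hd := hdet
  rw [Matrix.det_fin_two, e01, e10] at hd
  exact mat2_scalar_sq e01 e10 e (by rw [← e] at hd; linear_combination hd) hne

/-- If `-1` is not a square in `F`, an involution of `GL₂(F)` that is a fourth power is `-1`. -/
theorem gl2_invol (hns : ∀ r : F, r * r ≠ -1) (Z W : Matrix (Fin 2) (Fin 2) F)
    (hZW : Z = W * W * (W * W)) (hsq : Z * Z = 1) (hne : Z ≠ 1) : Z = -1 := by
  have hdet : Z.det = (W.det * W.det) * (W.det * W.det) := by
    rw [hZW, Matrix.det_mul, Matrix.det_mul]
  have h := mat2_sq Z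
  rw [hsq] at h
  obtain ⟨h00, h01, h10, h11⟩ := mat2_entries h
  simp at h00 h01 h10 h11
  have ht : Z 0 0 + Z 1 1 ≠ 0 := by
    intro ht
    rw [ht] at h00
    apply hns (W.det * W.det)
    rw [← hdet]
    linear_combination h00
  have e01 : Z 0 1 = 0 := by
    rcases h01 with h | h
    · exact absurd h ht
    · exact h
  have e10 : Z 1 0 = 0 := by
    rcases h10 with h | h
    · exact absurd h ht
    · exact h
  have e : Z 0 0 = Z 1 1 := by
    have : (Z 0 0 + Z 1 1) * (Z 0 0 - Z 1 1) = 0 := by linear_combination h11 - h00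
    rcases mul_eq_zero.mp this with h | h
    · exact absurd h ht
    · linear_combination h
  have hs := (mat2_entries hsq).1
  simp [Matrix.mul_apply, Fin.sum_univ_two, e01] at hs
  exact mat2_scalar_sq e01 e10 e hs hne

/-- If `-1` is not a square in `F`, a `2 × 2` matrix squaring to `-1` has determinant one. -/
theorem det_eq_one_of_sq_neg_one (hns : ∀ r : F, r * r ≠ -1) (U : Matrix (Fin 2) (Fin 2) F)
    (hsq : U * U = -1) : U.det = 1 := by
  have h := mat2_sq U
  rw [hsq] at h
  obtain ⟨h00, h01, h10, h11⟩ := mat2_entries h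
  simp at h00 h01 h10 h11
  by_cases ht : U 0 0 + U 1 1 = 0
  · rw [ht] at h00
    linear_combination h00
  · exfalso
    have e01 : U 0 1 = 0 := by
      rcases h01 with h | h
      · exact absurd h ht
      · exact h
    have hs := (mat2_entries hsq).1
    simp [Matrix.mul_apply, Fin.sum_univ_two, e01] at hs
    exact hns _ hs

end Mat

section Conj

variable {F : Type*} [Field F] [Fintype F]

/-- Two elements of `SL₂(F)` (`F` finite of odd order) squaring to `-1` are conjugate up to sign. -/
theorem sl2_conj_of_sq_neg_one (hodd : Fintype.card F % 2 = 1)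
    (U V : Matrix.SpecialLinearGroup (Fin 2) F)
    (hU : (U : Matrix (Fin 2) (Fin 2) F) * (U : Matrix (Fin 2) (Fin 2) F) = -1)
    (hV : (V : Matrix (Fin 2) (Fin 2) F) * (V : Matrix (Fin 2) (Fin 2) F) = -1) :
    ∃ g : Matrix.SpecialLinearGroup (Fin 2) F,
      ((g * U * g⁻¹ : Matrix.SpecialLinearGroup (Fin 2) F) : Matrix (Fin 2) (Fin 2) F) = V ∨
      ((g * U * g⁻¹ : Matrix.SpecialLinearGroup (Fin 2) F) : Matrix (Fin 2) (Fin 2) F) =
        -(V : Matrix (Fin 2) (Fin 2) F) := by
  have h2 : (2 : F) ≠ 0 := Cfsg.Agent.S5317.two_ne_zero_of_odd hodd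
  have hneg : (-1 : Matrix (Fin 2) (Fin 2) F) ≠ 1 := by
    intro h
    have := (mat2_entries h).1
    simp at this
    apply h2
    linear_combination -this
  have hord : ∀ W : Matrix.SpecialLinearGroup (Fin 2) F,
      (W : Matrix (Fin 2) (Fin 2) F) * (W : Matrix (Fin 2) (Fin 2) F) = -1 → orderOf (pmk W) = 2 := by
    intro W hW
    have hfact2 : Fact (Nat.Prime 2) := ⟨Nat.prime_two⟩
    apply orderOf_eq_prime
    · rw [pmk_pow_eq_one_iff]
      right
      rw [pow_two]
      exact hW
    · intro h1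
      rw [pmk_eq_one_iff] at h1
      rcases h1 with h1 | h1
      · rw [h1, one_mul] at hW
        exact hneg hW.symm
      · rw [h1, neg_mul_neg, one_mul] at hW
        exact hneg hW.symm
  obtain ⟨c, hc⟩ := Cfsg.Agent.S5317.invol_conj hodd (pmk U) (pmk V) (hord U hU) (hord V hV)
  obtain ⟨g, rfl⟩ := pmk_surjective c
  refine ⟨g, ?_⟩
  have h3 : pmk (g * U * g⁻¹) = pmk V := hc
  exact (pmk_eq_iff _ _).mp h3

end Conj

end Cfsg.Agent.Helper31
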