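import Mathlib
import Cfsg.Agent.Helper20.Recog
import Cfsg.Agent.Helper31.MetaMat
import Cfsg.Agent.Helper31.MetaReal
import Cfsg.Agent.S0261
import Cfsg.Agent.Helper5.SLCard
import Cfsg.Agent.Helper5.SylowConj

/-!
# Dihedral and generalized quaternion 2-groups are not resistant (helper31)

A generalized quaternion group of order at least 16 is a Sylow 2-subgroup of `SL₂(q)` for a suitable
prime `q`, and a dihedral group of order at least 8 is a Sylow 2-subgroup of `PSL₂(q)`; in both cases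
the fusion system of the ambient group does not have the Sylow subgroup as a normal subgroup.  The
groups of order 4 and 8 have an automorphism of order three.
-/

set_option autoImplicit false

namespace Cfsg.Agent.Helper31

open Cfsg Cfsg.Agent.Helper41

section Small

/-- An automorphism of order three of the four-group. -/
def d2fun : DihedralGroup 2 → DihedralGroup 2
  | .r i => if i = 0 then .r 0 else .sr 0
  | .sr i => if i = 0 then .sr 1 else .r 1

theorem d2fun_mul : ∀ a b : DihedralGroup 2, d2fun (a * b) = d2fun a * d2fun b := by decide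

theorem d2fun_cube : ∀ a : DihedralGroup 2, d2fun (d2fun (d2fun a)) = a := by decide

/-- An automorphism of order three of the quaternion group of order eight. -/
def q2fun : QuaternionGroup 2 → QuaternionGroup 2
  | .a i => if i = 0 then .a 0 else if i = 1 then .xa 0 else if i = 2 then .a 2 else .xa 2
  | .xa i => if i = 0 then .xa 3 else if i = 1 then .a 3 else if i = 2 then .xa 1 else .a 1

theorem q2fun_mul : ∀ a b : QuaternionGroup 2, q2fun (a * b) = q2fun a * q2fun b := by decide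

theorem q2fun_cube : ∀ a : QuaternionGroup 2, q2fun (q2fun (q2fun a)) = a := by decide

theorem exists_aut_order_three_of_fun {M : Type*} [Group M] (f : M → M)
    (hmul : ∀ a b : M, f (a * b) = f a * f b) (hcube : ∀ a : M, f (f (f a)) = a)
    (hne : ∃ a : M, f a ≠ a) : ∃ τ : MulAut M, τ ≠ 1 ∧ τ ^ 3 = 1 := by
  let τ : MulAut M :=
    { toFun := f
      invFun := fun a => f (f a)
      left_inv := hcube
      right_inv := hcube
      map_mul' := hmul }
  refine ⟨τ, ?_, ?_⟩
  · intro h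
    obtain ⟨a, ha⟩ := hne
    apply ha
    have := congrArg (fun σ : MulAut M => σ a) h
    exact this
  · ext a
    show f (f (f a)) = a
    exact hcube a

/-- A group with an automorphism of order three has a subgroup of automorphisms of odd order that
is not of exponent `1`. -/
theorem not_aut_condition_of_order_three {R : Type*} [Group R] (τ : MulAut R) (hτ1 : τ ≠ 1)
    (hτ3 : τ ^ 3 = 1)
    (haut : ∀ H : Subgroup (MulAut R), (Nat.card ↥H).Coprime 2 →
      IsMulCommutative ↥H ∧ ∀ h ∈ H, h ^ (2 - 1) = 1) : False := by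
  have hfact3 : Fact (Nat.Prime 3) := ⟨Nat.prime_three⟩
  have hord : orderOf τ = 3 := orderOf_eq_prime hτ3 hτ1
  have hcard : Nat.card (Subgroup.zpowers τ) = 3 := by rw [Nat.card_zpowers, hord]
  have h := (haut (Subgroup.zpowers τ) (by rw [hcard]; decide)).2 τ (Subgroup.mem_zpowers τ)
  apply hτ1
  simpa using h

theorem dih_two_not_aut {R : Type*} [Group R] (e : R ≃* DihedralGroup 2)
    (haut : ∀ H : Subgroup (MulAut R), (Nat.card ↥H).Coprime 2 →
      IsMulCommutative ↥H ∧ ∀ h ∈ H, h ^ (2 - 1) = 1) : False := by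
  obtain ⟨τ, hτ1, hτ3⟩ := exists_aut_order_three_of_fun d2fun d2fun_mul d2fun_cube
    ⟨DihedralGroup.r 1, by decide⟩
  refine not_aut_condition_of_order_three ((MulAut.congr e).symm τ) ?_ ?_ haut
  · intro h
    apply hτ1
    have h1 : (MulAut.congr e).symm τ = (MulAut.congr e).symm 1 := by rw [h, map_one]
    exact (MulAut.congr e).symm.injective h1
  · rw [← map_pow, hτ3, map_one]

theorem quat_two_not_aut {R : Type*} [Group R] (e : R ≃* QuaternionGroup 2)
    (haut : ∀ H : Subgroup (MulAut R), (Nat.card ↥H).Coprime 2 →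
      IsMulCommutative ↥H ∧ ∀ h ∈ H, h ^ (2 - 1) = 1) : False := by
  obtain ⟨τ, hτ1, hτ3⟩ := exists_aut_order_three_of_fun q2fun q2fun_mul q2fun_cube
    ⟨QuaternionGroup.a 1, by decide⟩
  refine not_aut_condition_of_order_three ((MulAut.congr e).symm τ) ?_ ?_ haut
  · intro h
    apply hτ1
    have h1 : (MulAut.congr e).symm τ = (MulAut.congr e).symm 1 := by rw [h, map_one]
    exact (MulAut.congr e).symm.injective h1
  · rw [← map_pow, hτ3, map_one]

end Small

section Arith

/-- A prime `q` with `q ^ 2 - 1 = 2 ^ (k + 3) * c`, `c` odd. -/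
theorem exists_prime_dq (k : ℕ) :
    ∃ q c : ℕ, q.Prime ∧ q % 2 = 1 ∧ Odd c ∧ q ^ 2 - 1 = 2 ^ (k + 3) * c := by
  have hM : 2 ^ (k + 3) ≠ 0 := pow_ne_zero _ (by norm_num)
  have hodd : Odd (2 ^ (k + 2) + 1) := by
    refine ⟨2 ^ (k + 1), ?_⟩
    ring
  have hcop : (2 ^ (k + 2) + 1).Coprime (2 ^ (k + 3)) :=
    Nat.Coprime.pow_right _ (Nat.coprime_two_right.mpr hodd)
  obtain ⟨q, -, hq, hmod⟩ := Nat.forall_exists_prime_gt_and_modEq 0 hM hcop
  have h1 : 1 ≤ 2 ^ (k + 2) := Nat.one_le_two_pow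
  have h1' : 2 ≤ 2 ^ (k + 2) := by
    have : 2 ^ (k + 2) = 2 * 2 ^ (k + 1) := by ring
    have : 1 ≤ 2 ^ (k + 1) := Nat.one_le_two_pow
    omega
  have hlt : 2 ^ (k + 2) + 1 < 2 ^ (k + 3) := by
    have : 2 ^ (k + 3) = 2 * 2 ^ (k + 2) := by ring
    omega
  have hq' : q = 2 ^ (k + 3) * (q / 2 ^ (k + 3)) + (2 ^ (k + 2) + 1) := by
    have h4 := Nat.div_add_mod q (2 ^ (k + 3))
    have h5 : q % 2 ^ (k + 3) = 2 ^ (k + 2) + 1 := by
      have := hmod
      unfold Nat.ModEq at this
      rw [this, Nat.mod_eq_of_lt hlt]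
    omega
  obtain ⟨d, hd⟩ : ∃ d, d = q / 2 ^ (k + 3) := ⟨_, rfl⟩
  rw [← hd] at hq'
  refine ⟨q, (2 * d + 1) * (2 ^ (k + 2) * d + 2 ^ (k + 1) + 1), hq, ?_, ?_, ?_⟩
  · have e1 : 2 ^ (k + 3) = 2 * 2 ^ (k + 2) := by ring
    have e2 : 2 ^ (k + 2) = 2 * 2 ^ (k + 1) := by ring
    have e3 : 2 * 2 ^ (k + 2) * d = 2 * (2 ^ (k + 2) * d) := by ring
    rw [e1, e3] at hq'
    omega
  · refine Odd.mul ⟨d, rfl⟩ ⟨2 ^ (k + 1) * d + 2 ^ k, ?_⟩
    ring
  · have h2 : q ^ 2 = 2 ^ (k + 3) * ((2 * d + 1) * (2 ^ (k + 2) * d + 2 ^ (k + 1) + 1)) + 1 := by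
      rw [hq']
      ring
    omega

end Arith

section SL

variable {F : Type*} [Field F] [Fintype F]

/-- The Sylow 2-subgroups of `SL₂(F)` when `|F|² - 1 = 2 ^ (k + 3) * c` with `c` odd. -/
theorem sl2_sylow_quaternion (k c : ℕ) (hodd : Fintype.card F % 2 = 1) (hc : Odd c)
    (hcard : Fintype.card F ^ 2 - 1 = 2 ^ (k + 3) * c)
    (P : Sylow 2 (Matrix.SpecialLinearGroup (Fin 2) F)) (n : ℕ) (hn : n = 2 ^ (k + 1)) :
    Nonempty (↥(P : Subgroup (Matrix.SpecialLinearGroup (Fin 2) F)) ≃* QuaternionGroup n) := by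
  classical
  have hfact2 : Fact (Nat.Prime 2) := ⟨Nat.prime_two⟩
  obtain ⟨k', hk', ⟨e⟩⟩ := Cfsg.Agent.S0261.result (Nat.odd_iff.mpr hodd) P
  have hPcard : Nat.card ↥(P : Subgroup (Matrix.SpecialLinearGroup (Fin 2) F)) = 2 ^ (k + 3) := by
    rw [Sylow.card_eq_multiplicity, Helper5.card_SL2, hcard]
    congr 1
    rw [show Fintype.card F * (2 ^ (k + 3) * c) = 2 ^ (k + 3) * (Fintype.card F * c) by ring]
    exact Helper5.fact2 _ _ ((Nat.odd_iff.mpr hodd).mul hc)
  have hQcard : Nat.card (QuaternionGroup (2 ^ k')) = 4 * 2 ^ k' := by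
    have hne : NeZero (2 ^ k') := ⟨pow_ne_zero _ (by norm_num)⟩
    rw [Nat.card_eq_fintype_card, QuaternionGroup.card]
  have h1 : 4 * 2 ^ k' = 2 ^ (k + 3) := by
    rw [← hQcard, ← hPcard]
    exact (Nat.card_congr e.toEquiv).symm
  have h2 : k' = k + 1 := by
    have h3 : 2 ^ (k' + 2) = 2 ^ (k + 3) := by rw [← h1]; ring
    have := Nat.pow_right_injective (le_refl 2) h3
    omega
  subst h2
  subst hn
  exact ⟨e⟩

/-- The Sylow 2-subgroups of `PSL₂(F)` have order `2 ^ (k + 2)`. -/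
theorem psl2_factorization (k c : ℕ) (hodd : Fintype.card F % 2 = 1) (hc : Odd c)
    (hcard : Fintype.card F ^ 2 - 1 = 2 ^ (k + 3) * c) :
    (Nat.card (Matrix.ProjectiveSpecialLinearGroup (Fin 2) F)).factorization 2 = k + 2 := by
  classical
  have h2 : (2 : F) ≠ 0 := Cfsg.Agent.S5317.two_ne_zero_of_odd hodd
  have h := Helper5.card_PSL2_mul (F := F)
  rw [Helper5.card_center_SL2 h2, hcard] at h
  have h3 : Nat.card (Matrix.ProjectiveSpecialLinearGroup (Fin 2) F) =
      2 ^ (k + 2) * (Fintype.card F * c) := by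
    have e1 : Fintype.card F * (2 ^ (k + 3) * c) = 2 ^ (k + 2) * (Fintype.card F * c) * 2 := by ring
    rw [e1] at h
    exact Nat.eq_of_mul_eq_mul_right (by norm_num) h
  rw [h3]
  exact Helper5.fact2 _ _ ((Nat.odd_iff.mpr hodd).mul hc)

omit [Fintype F] in
/-- An isomorphism of a subgroup of `SL₂(F)` with a generalized quaternion group, as an embedding;
the central involution goes to `-1`. -/
theorem quat_embedding_aux (h2 : (2 : F) ≠ 0) {n : ℕ} [NeZero n]
    (P : Subgroup (Matrix.SpecialLinearGroup (Fin 2) F)) (e : ↥P ≃* QuaternionGroup n) :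
    ∃ jq : QuaternionGroup n →* Matrix.SpecialLinearGroup (Fin 2) F, Function.Injective jq ∧
      P = jq.range ∧
      ((jq (QuaternionGroup.a ((n : ℕ) : ZMod (2 * n))) : Matrix.SpecialLinearGroup (Fin 2) F) :
        Matrix (Fin 2) (Fin 2) F) = -1 := by
  obtain ⟨jq, hjq⟩ : ∃ jq : QuaternionGroup n →* Matrix.SpecialLinearGroup (Fin 2) F,
      ∀ m, jq m = ((e.symm m : P) : Matrix.SpecialLinearGroup (Fin 2) F) :=
    ⟨P.subtype.comp e.symm.toMonoidHom, fun m => rfl⟩
  have hinj : Function.Injective jq := by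
    intro x y hxy
    rw [hjq, hjq] at hxy
    exact e.symm.injective (Subtype.ext hxy)
  refine ⟨jq, hinj, ?_, ?_⟩
  · ext y
    constructor
    · intro hy
      refine ⟨e ⟨y, hy⟩, ?_⟩
      rw [hjq, MulEquiv.symm_apply_apply]
    · rintro ⟨m, rfl⟩
      rw [hjq]
      exact (e.symm m).2
  · have hzz : QuaternionGroup.a ((n : ℕ) : ZMod (2 * n)) * QuaternionGroup.a ((n : ℕ) : ZMod (2 * n)) =
        (1 : QuaternionGroup n) := by
      rw [QuaternionGroup.a_mul_a, QuaternionGroup.one_def]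
      congr 1
      rw [← Nat.cast_add]
      have : n + n = 2 * n := by ring
      rw [this, ZMod.natCast_self]
    have hz1 : QuaternionGroup.a ((n : ℕ) : ZMod (2 * n)) ≠ (1 : QuaternionGroup n) := by
      rw [QuaternionGroup.one_def]
      intro h
      injection h with h'
      rw [ZMod.natCast_eq_zero_iff] at h'
      have hn0 : 0 < n := Nat.pos_of_ne_zero (NeZero.ne n)
      have := Nat.le_of_dvd hn0 h'
      omega
    apply sl2_invol h2 _ (jq (QuaternionGroup.a ((n : ℕ) : ZMod (2 * n)))).2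
    · rw [← Matrix.SpecialLinearGroup.coe_mul, ← map_mul, hzz, map_one]
      rfl
    · intro h
      apply hz1
      apply hinj
      rw [map_one]
      exact Subtype.ext h

end SL

section Quat

theorem quat_sq_ne_xa {n : ℕ} (w : QuaternionGroup n) (i : ZMod (2 * n)) :
    w * w ≠ QuaternionGroup.xa i := by
  cases w <;> simp

/-- A generalized quaternion group of order `16 l` is not normal in every saturated fusion system
over it, given a realization as a Sylow 2-subgroup of `SL₂(F)`. -/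
theorem quat_not_all_normal_aux {Ω : Type*} [Group Ω] {S : Subgroup Ω} [Finite S]
    {F : Type*} [Field F] [Fintype F] (hodd : Fintype.card F % 2 = 1) (l : ℕ) (hl : 0 < l)
    (P : Sylow 2 (Matrix.SpecialLinearGroup (Fin 2) F))
    (e₀ : ↥(P : Subgroup (Matrix.SpecialLinearGroup (Fin 2) F)) ≃* QuaternionGroup (4 * l))
    (e : ↥S ≃* QuaternionGroup (4 * l))
    (hnormal : ∀ F : Cfsg.FusionSystem S, F.IsSaturated 2 → F.IsNormal S) : False := by
  classical
  have hfact2 : Fact (Nat.Prime 2) := ⟨Nat.prime_two⟩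
  have hne : NeZero (4 * l) := ⟨by omega⟩
  have h2 : (2 : F) ≠ 0 := Cfsg.Agent.S5317.two_ne_zero_of_odd hodd
  obtain ⟨jq, hinj, hrange, hZ⟩ := quat_embedding_aux h2 (P : Subgroup _) e₀
  have hmul : ∀ x y : QuaternionGroup (4 * l),
      ((jq (x * y) : Matrix.SpecialLinearGroup (Fin 2) F) : Matrix (Fin 2) (Fin 2) F) =
        (jq x : Matrix (Fin 2) (Fin 2) F) * (jq y : Matrix (Fin 2) (Fin 2) F) := by
    intro x y
    rw [map_mul, Matrix.SpecialLinearGroup.coe_mul]
  have hu : QuaternionGroup.a (((2 * l : ℕ)) : ZMod (2 * (4 * l))) =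
      QuaternionGroup.a ((l : ℕ) : ZMod (2 * (4 * l))) * QuaternionGroup.a ((l : ℕ) : ZMod (2 * (4 * l))) := by
    rw [QuaternionGroup.a_mul_a]
    congr 1
    push_cast
    ring
  have hz : QuaternionGroup.a (((2 * l : ℕ)) : ZMod (2 * (4 * l))) *
      QuaternionGroup.a (((2 * l : ℕ)) : ZMod (2 * (4 * l))) =
      QuaternionGroup.a (((4 * l : ℕ)) : ZMod (2 * (4 * l))) := by
    rw [QuaternionGroup.a_mul_a]
    congr 1
    push_cast
    ring
  have hv : (QuaternionGroup.xa 0 : QuaternionGroup (4 * l)) * QuaternionGroup.xa 0 =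
      QuaternionGroup.a (((4 * l : ℕ)) : ZMod (2 * (4 * l))) := by
    rw [QuaternionGroup.xa_mul_xa]
    congr 1
    ring
  have hUU : (jq (QuaternionGroup.a (((2 * l : ℕ)) : ZMod (2 * (4 * l)))) : Matrix (Fin 2) (Fin 2) F) *
      (jq (QuaternionGroup.a (((2 * l : ℕ)) : ZMod (2 * (4 * l)))) : Matrix (Fin 2) (Fin 2) F) = -1 := by
    rw [← hmul, hz, hZ]
  have hVV : (jq (QuaternionGroup.xa 0) : Matrix (Fin 2) (Fin 2) F) *
      (jq (QuaternionGroup.xa 0) : Matrix (Fin 2) (Fin 2) F) = -1 := by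
    rw [← hmul, hv, hZ]
  obtain ⟨g, hg⟩ := sl2_conj_of_sq_neg_one hodd _ _ hUU hVV
  have hconj : ∃ i : ZMod (2 * (4 * l)),
      g * jq (QuaternionGroup.a (((2 * l : ℕ)) : ZMod (2 * (4 * l)))) * g⁻¹ =
        jq (QuaternionGroup.xa i) := by
    rcases hg with hg | hg
    · exact ⟨0, Subtype.ext hg⟩
    · refine ⟨0 + ((4 * l : ℕ) : ZMod (2 * (4 * l))), Subtype.ext ?_⟩
      rw [hg, ← QuaternionGroup.xa_mul_a, hmul, hZ, mul_neg, mul_one]
  obtain ⟨i, hi⟩ := hconj
  obtain ⟨σ, hσ⟩ := exists_aut_of_all_normal hnormal e jq hinj P hrange _ _ g hi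
  rw [hu, map_mul] at hσ
  exact quat_sq_ne_xa _ i hσ

/-- A generalized quaternion 2-group of order at least 16 is not normal in every saturated fusion
system over it. -/
theorem quat_not_all_normal {Ω : Type*} [Group Ω] {S : Subgroup Ω} [Finite S] (hS : IsPGroup 2 ↥S)
    (n : ℕ) (hn : 3 ≤ n) (e : ↥S ≃* QuaternionGroup n)
    (hnormal : ∀ F : Cfsg.FusionSystem S, F.IsSaturated 2 → F.IsNormal S) : False := by
  classical
  have hfact2 : Fact (Nat.Prime 2) := ⟨Nat.prime_two⟩
  have hne : NeZero n := ⟨by omega⟩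
  obtain ⟨a, ha⟩ := IsPGroup.iff_card.mp hS
  have hcardS : Nat.card ↥S = 4 * n := by
    rw [Nat.card_congr e.toEquiv, Nat.card_eq_fintype_card, QuaternionGroup.card]
  rw [hcardS] at ha
  have ha4 : 4 ≤ a := by
    by_contra hlt
    push Not at hlt
    have : 2 ^ a ≤ 2 ^ 3 := Nat.pow_le_pow_right (by norm_num) (by omega)
    omega
  obtain ⟨k, rfl⟩ : ∃ k, a = k + 4 := ⟨a - 4, by omega⟩
  have hn' : n = 4 * 2 ^ k := by
    have : 2 ^ (k + 4) = 4 * (4 * 2 ^ k) := by ring
    omega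
  obtain ⟨q, c, hq, hq2, hc, hqc⟩ := exists_prime_dq (k + 1)
  have hqf : Fact q.Prime := ⟨hq⟩
  have hq0 : NeZero q := ⟨hq.ne_zero⟩
  have hcard : Fintype.card (ZMod q) = q := ZMod.card q
  obtain ⟨P⟩ : Nonempty (Sylow 2 (Matrix.SpecialLinearGroup (Fin 2) (ZMod q))) := inferInstance
  obtain ⟨e₀⟩ := sl2_sylow_quaternion (k + 1) c (by rw [hcard]; exact hq2) hc (by rw [hcard]; exact hqc)
    P (4 * 2 ^ k) (by ring)
  subst hn'
  exact quat_not_all_normal_aux (by rw [hcard]; exact hq2) (2 ^ k) (pow_pos (by norm_num) k) P e₀ e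
    hnormal

end Quat

section Dih

/-- A dihedral group of order `8 l` is not normal in every saturated fusion system over it, given a
realization of the generalized quaternion group of order `16 l` as a Sylow 2-subgroup of `SL₂(F)`. -/
theorem dih_not_all_normal_aux {Ω : Type*} [Group Ω] {S : Subgroup Ω} [Finite S]
    {F : Type*} [Field F] [Fintype F] (hodd : Fintype.card F % 2 = 1) (l : ℕ) (hl : 0 < l)
    (P : Sylow 2 (Matrix.SpecialLinearGroup (Fin 2) F))
    (e₀ : ↥(P : Subgroup (Matrix.SpecialLinearGroup (Fin 2) F)) ≃* QuaternionGroup (4 * l))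
    (hfac : 2 ^ (Nat.card (Matrix.ProjectiveSpecialLinearGroup (Fin 2) F)).factorization 2 = 2 * (4 * l))
    (e : ↥S ≃* DihedralGroup (4 * l))
    (hnormal : ∀ F : Cfsg.FusionSystem S, F.IsSaturated 2 → F.IsNormal S) : False := by
  classical
  have hfact2 : Fact (Nat.Prime 2) := ⟨Nat.prime_two⟩
  have hne : NeZero (4 * l) := ⟨by omega⟩
  have h2 : (2 : F) ≠ 0 := Cfsg.Agent.S5317.two_ne_zero_of_odd hodd
  obtain ⟨jq, hinj, hrange, hZ⟩ := quat_embedding_aux h2 (P : Subgroup _) e₀
  obtain ⟨jd, hjd⟩ : ∃ jd : QuaternionGroup (4 * l) →* Matrix.ProjectiveSpecialLinearGroup (Fin 2) F,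
      ∀ m, jd m = pmk (jq m) :=
    ⟨(QuotientGroup.mk' (Subgroup.center (Matrix.SpecialLinearGroup (Fin 2) F))).comp jq, fun m => rfl⟩
  have hz1 : jd (QuaternionGroup.a (((4 * l : ℕ)) : ZMod (2 * (4 * l)))) = 1 := by
    rw [hjd, pmk_eq_one_iff]
    exact Or.inr hZ
  have hker : ∀ m : QuaternionGroup (4 * l), jd m = 1 →
      m = 1 ∨ m = QuaternionGroup.a (((4 * l : ℕ)) : ZMod (2 * (4 * l))) := by
    intro m hm
    rw [hjd, pmk_eq_one_iff] at hm
    rcases hm with hm | hm
    · left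
      apply hinj
      rw [map_one]
      exact Subtype.ext hm
    · right
      apply hinj
      exact Subtype.ext (hm.trans hZ.symm)
  have hu : jd (QuaternionGroup.a 1) ^ (4 * l) = 1 := by
    rw [← map_pow, QuaternionGroup.a_one_pow, hz1]
  have hv : jd (QuaternionGroup.xa 0) * jd (QuaternionGroup.xa 0) = 1 := by
    rw [← map_mul, QuaternionGroup.xa_mul_xa]
    have : ((4 * l : ℕ) : ZMod (2 * (4 * l))) + 0 - 0 = ((4 * l : ℕ) : ZMod (2 * (4 * l))) := by ring
    rw [this, hz1]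
  have huv : jd (QuaternionGroup.xa 0) * jd (QuaternionGroup.a 1) * (jd (QuaternionGroup.xa 0))⁻¹ =
      (jd (QuaternionGroup.a 1))⁻¹ := by
    rw [← map_inv, ← map_mul, ← map_mul, ← map_inv]
    congr 1
    rw [mul_inv_eq_iff_eq_mul]
    show QuaternionGroup.xa 0 * QuaternionGroup.a 1 = QuaternionGroup.a (-1) * QuaternionGroup.xa 0
    rw [QuaternionGroup.xa_mul_a, QuaternionGroup.a_mul_xa]
    congr 1
    ring
  obtain ⟨δ, hδr, hδs⟩ : ∃ δ : DihedralGroup (4 * l) →* Matrix.ProjectiveSpecialLinearGroup (Fin 2) F,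
      (∀ i : ZMod (4 * l), δ (DihedralGroup.r i) = jd (QuaternionGroup.a ((i.val : ℕ) : ZMod (2 * (4 * l))))) ∧
      (∀ i : ZMod (4 * l), δ (DihedralGroup.sr i) =
        jd (QuaternionGroup.xa ((i.val : ℕ) : ZMod (2 * (4 * l))))) := by
    refine ⟨Helper20.dihedralHom (4 * l) _ _ hu hv huv, fun i => ?_, fun i => ?_⟩
    · show jd (QuaternionGroup.a 1) ^ i.val = _
      rw [← map_pow, QuaternionGroup.a_one_pow]
    · show jd (QuaternionGroup.xa 0) * jd (QuaternionGroup.a 1) ^ i.val = _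
      rw [← map_pow, QuaternionGroup.a_one_pow, ← map_mul, QuaternionGroup.xa_mul_a, zero_add]
  have hδinj : Function.Injective δ := by
    rw [injective_iff_map_eq_one]
    rintro (i | i) hi
    · rw [hδr] at hi
      have hlt : i.val < 4 * l := ZMod.val_lt i
      rcases hker _ hi with h | h
      · rw [QuaternionGroup.one_def] at h
        injection h with h'
        rw [ZMod.natCast_eq_zero_iff] at h'
        have h0 : i.val = 0 := Nat.eq_zero_of_dvd_of_lt h' (by omega)
        have : i = 0 := (ZMod.val_eq_zero i).mp h0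
        rw [this]
        rfl
      · exfalso
        injection h with h'
        rw [ZMod.natCast_eq_natCast_iff', Nat.mod_eq_of_lt (by omega), Nat.mod_eq_of_lt (by omega)] at h'
        omega
    · exfalso
      rw [hδs] at hi
      rcases hker _ hi with h | h
      · rw [QuaternionGroup.one_def] at h
        cases h
      · cases h
  have hcardrange : Nat.card δ.range =
      2 ^ (Nat.card (Matrix.ProjectiveSpecialLinearGroup (Fin 2) F)).factorization 2 := by
    rw [hfac, ← DihedralGroup.nat_card]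
    exact (Nat.card_congr (MonoidHom.ofInjective hδinj).toEquiv).symm
  -- the central involution and a noncentral one
  have hh : ((2 * l : ℕ) : ZMod (4 * l)) + ((2 * l : ℕ) : ZMod (4 * l)) = 0 := by
    rw [← Nat.cast_add]
    have : 2 * l + 2 * l = 4 * l := by ring
    rw [this, ZMod.natCast_self]
  have hu₀ : orderOf (DihedralGroup.r ((2 * l : ℕ) : ZMod (4 * l))) = 2 := by
    apply orderOf_eq_prime
    · rw [sq, DihedralGroup.r_mul_r, hh, DihedralGroup.r_zero]
    · rw [DihedralGroup.one_def]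
      intro h
      injection h with h'
      rw [ZMod.natCast_eq_zero_iff] at h'
      have := Nat.le_of_dvd (by omega) h'
      omega
  have hv₀ : orderOf (DihedralGroup.sr (0 : ZMod (4 * l))) = 2 := DihedralGroup.orderOf_sr 0
  obtain ⟨g, hg⟩ := Cfsg.Agent.S5317.invol_conj hodd (δ (DihedralGroup.r ((2 * l : ℕ) : ZMod (4 * l))))
    (δ (DihedralGroup.sr 0)) (by rw [orderOf_injective δ hδinj, hu₀])
    (by rw [orderOf_injective δ hδinj, hv₀])
  obtain ⟨σ, hσ⟩ := exists_aut_of_all_normal hnormal e δ hδinj (Sylow.ofCard δ.range hcardrange)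
    (Sylow.coe_ofCard _ _) _ _ g hg
  have hcent : ∀ x : DihedralGroup (4 * l),
      DihedralGroup.r ((2 * l : ℕ) : ZMod (4 * l)) * x = x * DihedralGroup.r ((2 * l : ℕ) : ZMod (4 * l)) := by
    rintro (i | i)
    · rw [DihedralGroup.r_mul_r, DihedralGroup.r_mul_r, add_comm]
    · rw [DihedralGroup.r_mul_sr, DihedralGroup.sr_mul_r]
      congr 1
      linear_combination (-1 : ZMod (4 * l)) * hh
  have hcent' : ∀ y : DihedralGroup (4 * l),
      DihedralGroup.sr (0 : ZMod (4 * l)) * y = y * DihedralGroup.sr (0 : ZMod (4 * l)) := by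
    intro y
    obtain ⟨x, rfl⟩ := σ.surjective y
    rw [← hσ, ← map_mul, ← map_mul, hcent]
  have h1 := hcent' (DihedralGroup.r 1)
  rw [DihedralGroup.sr_mul_r, DihedralGroup.r_mul_sr] at h1
  injection h1 with h1'
  have h3 : ((2 : ℕ) : ZMod (4 * l)) = 0 := by
    push_cast
    linear_combination h1'
  rw [ZMod.natCast_eq_zero_iff] at h3
  have := Nat.le_of_dvd (by norm_num) h3
  omega

/-- A dihedral 2-group of order at least 8 is not normal in every saturated fusion system over it. -/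
theorem dih_not_all_normal {Ω : Type*} [Group Ω] {S : Subgroup Ω} [Finite S] (hS : IsPGroup 2 ↥S)
    (n : ℕ) (hn : 3 ≤ n) (e : ↥S ≃* DihedralGroup n)
    (hnormal : ∀ F : Cfsg.FusionSystem S, F.IsSaturated 2 → F.IsNormal S) : False := by
  classical
  have hfact2 : Fact (Nat.Prime 2) := ⟨Nat.prime_two⟩
  obtain ⟨a, ha⟩ := IsPGroup.iff_card.mp hS
  have hcardS : Nat.card ↥S = 2 * n := by
    rw [Nat.card_congr e.toEquiv, DihedralGroup.nat_card]
  rw [hcardS] at ha
  have ha3 : 3 ≤ a := by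
    by_contra hlt
    push Not at hlt
    have : 2 ^ a ≤ 2 ^ 2 := Nat.pow_le_pow_right (by norm_num) (by omega)
    omega
  obtain ⟨k, rfl⟩ : ∃ k, a = k + 3 := ⟨a - 3, by omega⟩
  have hn' : n = 4 * 2 ^ k := by
    have : 2 ^ (k + 3) = 2 * (4 * 2 ^ k) := by ring
    omega
  obtain ⟨q, c, hq, hq2, hc, hqc⟩ := exists_prime_dq (k + 1)
  have hqf : Fact q.Prime := ⟨hq⟩
  have hq0 : NeZero q := ⟨hq.ne_zero⟩
  have hcard : Fintype.card (ZMod q) = q := ZMod.card q
  obtain ⟨P⟩ : Nonempty (Sylow 2 (Matrix.SpecialLinearGroup (Fin 2) (ZMod q))) := inferInstance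
  obtain ⟨e₀⟩ := sl2_sylow_quaternion (k + 1) c (by rw [hcard]; exact hq2) hc (by rw [hcard]; exact hqc)
    P (4 * 2 ^ k) (by ring)
  have hfac := psl2_factorization (F := ZMod q) (k + 1) c (by rw [hcard]; exact hq2) hc
    (by rw [hcard]; exact hqc)
  subst hn'
  exact dih_not_all_normal_aux (by rw [hcard]; exact hq2) (2 ^ k) (pow_pos (by norm_num) k) P e₀
    (by rw [hfac]; ring) e hnormal

end Dih

end Cfsg.Agent.Helper31
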