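import Mathlib
import Cfsg.Prelude.Def_GeometricClasses
import Cfsg.Prelude.Def_Classical
import Cfsg.Agent.Helper13.NPDefs
import Cfsg.Agent.Helper96.OHDefs

set_option autoImplicit false

/-!
# helper31: CALL NP (helper13, row S5989), piece LINEISO (`np_line_iso`, verbatim).
-/

namespace Cfsg.Agent.Helper31.NP5989

open Module Cfsg Cfsg.Geo Cfsg.Agent.Helper13.NP Cfsg.Agent.Helper96.OH
open scoped MatrixGroups

universe u

section C

variable {ι : Type} [Fintype ι] [DecidableEq ι] {F : Type*} [Field F] [Fintype F]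
  (Q : (ι → F) → F)

/-- LINEISO [S]: `t • k ↦ t • v` (`Q (t • k) = t² Q k`, `hQ.smul`). -/
theorem np_line_iso (hQ : IsNondegenerateQuadraticForm Q) (k v : ι → F) (hkv : Q k = Q v)
    (hv : Q v ≠ 0) : AreIsometricFor Q (Submodule.span F {k}) (Submodule.span F {v}) := by
  have hQ0 : Q 0 = 0 := by
    have h := hQ.smul 0 k
    rw [zero_smul] at h
    rw [h]; ring
  have hv0 : v ≠ 0 := fun h => hv (by rw [h, hQ0])
  have hk0 : k ≠ 0 := fun h => hv (by rw [← hkv, h, hQ0])
  refine ⟨(LinearEquiv.toSpanNonzeroSingleton F (ι → F) k hk0).symm.trans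
    (LinearEquiv.toSpanNonzeroSingleton F (ι → F) v hv0), fun w => ?_⟩
  obtain ⟨t, rfl⟩ := (LinearEquiv.toSpanNonzeroSingleton F (ι → F) k hk0).surjective w
  rw [LinearEquiv.trans_apply, LinearEquiv.symm_apply_apply]
  have h1 : (((LinearEquiv.toSpanNonzeroSingleton F (ι → F) v hv0) t :
      Submodule.span F {v}) : ι → F) = t • v := rfl
  have h2 : (((LinearEquiv.toSpanNonzeroSingleton F (ι → F) k hk0) t :
      Submodule.span F {k}) : ι → F) = t • k := rfl
  rw [h1, h2, hQ.smul, hQ.smul, hkv]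

end C

end Cfsg.Agent.Helper31.NP5989
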