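import Mathlib
import Cfsg.Agent.Helper96.OHDefs
import Cfsg.Agent.Helper73.TLUPERP

/-!
# helper31: CALL S5992 piece OPERP (`o_perp`, verbatim): wrapper at `σ = RingHom.id F`.
-/

set_option autoImplicit false
set_option linter.unusedSectionVars false
set_option linter.unusedVariables false

namespace Cfsg.Agent.Helper31.OH5992

open Module Polynomial Cfsg Cfsg.Geo
open Cfsg.Agent.Helper13.TIu Cfsg.Agent.Helper96.OH

variable {ι : Type} [Fintype ι] [DecidableEq ι] {F : Type*} [Field F] (Q : (ι → F) → F)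

/-- OPERP: wrapper of `Cfsg.Agent.Helper73.TI5954.u_perp` at `σ = RingHom.id F`. -/
theorem o_perp (hQ : IsNondegenerateQuadraticForm Q) (T : Module.End F (ι → F)) (hT : OPres Q T)
    (r : ℕ) (hr0 : 0 < r) (hTr : T ^ r = 1) (M M₁ : Submodule F (ι → F)) (hM : ONd Q M)
    (hM₁ : ONd Q M₁) (hle : M₁ ≤ M) (hMT : M.map T ≤ M) (hM₁T : M₁.map T ≤ M₁) :
    ∃ P : Submodule F (ι → F), P ≤ M ∧ P.map T ≤ P ∧ ONd Q P ∧ M₁ ⊓ P = ⊥ ∧ M₁ ⊔ P = M ∧
      OOrth Q M₁ P ∧ finrank F P + finrank F M₁ = finrank F M := by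
  obtain ⟨P, hPM, hPT, hPnd, hinf, hsup, ho1, ho2, hdim⟩ :=
    Cfsg.Agent.Helper73.TI5954.u_perp (pB Q hQ) id2 (LinearMap.BilinForm.isSymm_iff.1 (pB_symm Q hQ)) T (upres_of Q hQ T hT) r hr0
      hTr M M₁ ((und_iff Q hQ M).2 hM) ((und_iff Q hQ M₁).2 hM₁) hle hMT hM₁T
  exact ⟨P, hPM, hPT, (und_iff Q hQ P).1 hPnd, hinf, hsup, fun u hu v hv => ho1 u hu v hv, hdim⟩

end Cfsg.Agent.Helper31.OH5992
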