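import Mathlib
import Cfsg.Prelude.Def_GeometricClasses
import Cfsg.Prelude.Def_Classical
import Cfsg.Agent.Helper13.NPDefs
import Cfsg.Agent.Helper96.OHDefs
import Cfsg.Agent.Helper26.OHOATOM
import Cfsg.Agent.Helper31.OHOPERP
import Cfsg.Agent.Helper33.OType

set_option autoImplicit false

/-!
# helper31: CALL NP (helper13, row S5989), piece SUBATOM (`np_sub_atom`, verbatim).
-/

namespace Cfsg.Agent.Helper31.NP5989

open Module Cfsg Cfsg.Geo Cfsg.Agent.Helper13.NP Cfsg.Agent.Helper96.OH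
open scoped MatrixGroups

universe u

section C

variable {ι : Type} [Fintype ι] [DecidableEq ι] {F : Type*} [Field F] [Fintype F]
  (Q : (ι → F) → F)

/-- SUBATOM [M] (`Cfsg.Agent.Helper26.OH5992.o_atom`, `Cfsg.Agent.Helper31.OH5992.o_perp`,
`Cfsg.Agent.Helper33.OType.nondeg_sup`, `finrank_sup_of_orth`): induction on `b`: the perp in `D` of
the subspace for `b` is invariant, nondegenerate, without fixed vectors and nonzero, so contains an
atom of dimension `c`. -/
theorem np_sub_atom (hQ : IsNondegenerateQuadraticForm Q) (h2 : (2 : F) ≠ 0)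
    (T : Module.End F (ι → F)) (hT : OPres Q T) (r : ℕ) [Fact r.Prime] (hr2 : 2 < r)
    (hrF : (r : F) ≠ 0) (hTr : T ^ r = 1) (i c : ℕ)
    (hi : i = orderOf ((Fintype.card F : ℕ) : ZMod r)) (hc : c = if Even i then i else 2 * i)
    (D : Submodule F (ι → F)) (hDT : D.map T ≤ D) (hD : ONd Q D)
    (hDk : D ⊓ LinearMap.ker (T - 1) = ⊥) (b : ℕ) (hb : c * b ≤ finrank F D) :
    ∃ E : Submodule F (ι → F), E ≤ D ∧ E.map T ≤ E ∧ ONd Q E ∧ finrank F E = c * b := by
  have hbot : ∃ E : Submodule F (ι → F), E ≤ D ∧ E.map T ≤ E ∧ ONd Q E ∧ finrank F E = 0 := by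
    refine ⟨⊥, bot_le, ?_, ?_, finrank_bot F (ι → F)⟩
    · rw [Submodule.map_bot]
    · intro w hw hw0
      exact absurd ((Submodule.mem_bot F).1 hw) hw0
  induction b with
  | zero => rw [Nat.mul_zero]; exact hbot
  | succ b ih =>
    rcases Nat.eq_zero_or_pos c with hc0 | hcpos
    · rw [hc0, Nat.zero_mul]; exact hbot
    · have hb' : c * b ≤ finrank F D := le_trans (Nat.mul_le_mul_left c (Nat.le_succ b)) hb
      obtain ⟨E₀, hE₀D, hE₀T, hE₀nd, hE₀dim⟩ := ih hb'
      obtain ⟨P, hPD, hPT, hPnd, hinf, hsup, horth, hdim⟩ :=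
        Cfsg.Agent.Helper31.OH5992.o_perp Q hQ T hT r (Fact.out : r.Prime).pos hTr D E₀ hD hE₀nd
          hE₀D hDT hE₀T
      have hPdim : c ≤ finrank F P := by
        rw [Nat.mul_succ] at hb
        omega
      have hP0 : P ≠ ⊥ := by
        intro h
        rw [h, finrank_bot] at hPdim
        omega
      have hPk : P ⊓ LinearMap.ker (T - 1) = ⊥ := by
        rw [eq_bot_iff, ← hDk]
        exact inf_le_inf_right _ hPD
      obtain ⟨E₁, hE₁P, hE₁T, hE₁nd, hE₁dim⟩ :=
        Cfsg.Agent.Helper26.OH5992.o_atom Q hQ h2 T hT r hr2 hrF hTr i c hi hc P hPT hPnd hP0 hPk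
      have horth' : OOrth Q E₀ E₁ := fun u hu v hv => horth u hu v (hE₁P hv)
      refine ⟨E₀ ⊔ E₁, sup_le hE₀D (hE₁P.trans hPD), ?_, ?_, ?_⟩
      · rw [Submodule.map_sup]
        exact sup_le_sup hE₀T hE₁T
      · exact Cfsg.Agent.Helper33.OType.nondeg_sup Q hQ E₀ E₁ hE₀nd hE₁nd horth'
      · rw [Cfsg.Agent.Helper33.OType.finrank_sup_of_orth Q E₀ E₁ hE₀nd horth', hE₀dim, hE₁dim,
          Nat.mul_succ]

end C

end Cfsg.Agent.Helper31.NP5989
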