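import Mathlib
import Cfsg.Prelude.Def_GeometricClasses
import Cfsg.Prelude.Def_Classical
import Cfsg.Agent.Helper13.NPDefs
import Cfsg.Agent.Helper96.OHDefs
import Cfsg.Agent.Helper43.UniIso

set_option autoImplicit false

/-!
# helper31: CALL NP (helper13, row S5989), piece XFERU (`np_xfer_u`, verbatim).
-/

namespace Cfsg.Agent.Helper31.NP5989

open Module Cfsg Cfsg.Geo Cfsg.Agent.Helper13.NP Cfsg.Agent.Helper96.OH
open Cfsg.Agent.Helper43.UniIso (UnipH kdim)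
open scoped MatrixGroups

universe u

section B

variable {F : Type u} [Field F] [Fintype F]

/-- XFERU [M] (unfold `UnipH`; `Cfsg.Agent.Helper43.OrthEven.exists_plus_of_hasTS` gives
`Ψ : (Fin d ⊕ Fin d → F) ≃ₗ V` with `Q (Ψ z) = quadFormPlus d F z`;
`Cfsg.Agent.Helper43.UniIso.exists_matrix_kdim` with `c = 1`; as in Helper69/S5993P.lean). -/
theorem np_xfer_u (h2 : (2 : F) ≠ 0) (d : ℕ) (hd : 1 ≤ d) (μ : Multiset ℕ) (hμ : UnipH F μ)
    (hsum : μ.sum = 2 * d) :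
    ∃ A : Matrix (Fin d ⊕ Fin d) (Fin d ⊕ Fin d) F,
      (∀ v, Cfsg.quadFormPlus d F (A.mulVec v) = Cfsg.quadFormPlus d F v) ∧
      ∀ l, finrank F ↥(LinearMap.ker ((Matrix.toLin' A - 1) ^ l)) = kdim μ l := by
  obtain ⟨V, _, _, _, Q, T, hnd, hT, hdim, hkd, h, hh, hTS⟩ := hμ
  have hhd : h = d := by omega
  subst hhd
  obtain ⟨Ψ, hΨ⟩ := Cfsg.Agent.Helper43.OrthEven.exists_plus_of_hasTS hd (hdim.trans hsum) Q hnd hTS
  obtain ⟨A, hA, hAk⟩ := Cfsg.Agent.Helper43.UniIso.exists_matrix_kdim Q T hT Ψ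
    (Cfsg.quadFormPlus h F) 1 one_ne_zero (by intro z; rw [hΨ, one_mul])
  exact ⟨A, hA, fun l => by rw [hAk, hkd]⟩

end B

end Cfsg.Agent.Helper31.NP5989
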