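import Mathlib
import Cfsg.Agent.Helper96.OHDefs
import Cfsg.Agent.Helper41.TLUFIX

/-!
# helper31: CALL S5992 piece OFIX (`o_fix`, verbatim): wrapper at `σ = RingHom.id F`.
-/

set_option autoImplicit false
set_option linter.unusedSectionVars false
set_option linter.unusedVariables false

namespace Cfsg.Agent.Helper31.OH5992

open Module Polynomial Cfsg Cfsg.Geo
open Cfsg.Agent.Helper13.TIu Cfsg.Agent.Helper96.OH

variable {ι : Type} [Fintype ι] [DecidableEq ι] {F : Type*} [Field F] (Q : (ι → F) → F)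

/-- OFIX: wrapper of `Cfsg.Agent.Helper41.TI5954.u_fix` at `σ = RingHom.id F`, `B = pB Q hQ`
(`id2`, `pB_symm`, `upres_of`, `und_iff`). -/
theorem o_fix (hQ : IsNondegenerateQuadraticForm Q) (T : Module.End F (ι → F)) (hT : OPres Q T)
    (r : ℕ) (hr0 : 0 < r) (hrF : (r : F) ≠ 0) (hTr : T ^ r = 1) (N : Submodule F (ι → F))
    (hNT : N.map T ≤ N) (hN : ONd Q N) :
    ONd Q (N ⊓ LinearMap.ker (T - 1)) ∧
    ∃ P : Submodule F (ι → F), P ≤ N ∧ P.map T ≤ P ∧ ONd Q P ∧ P ⊓ LinearMap.ker (T - 1) = ⊥ ∧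
      (N ⊓ LinearMap.ker (T - 1)) ⊔ P = N ∧ OOrth Q (N ⊓ LinearMap.ker (T - 1)) P ∧
      finrank F P + finrank F (N ⊓ LinearMap.ker (T - 1) : Submodule F (ι → F)) = finrank F N := by
  obtain ⟨h0, P, hPN, hPT, hPnd, hPk, hsup, ho1, ho2, hdim⟩ :=
    Cfsg.Agent.Helper41.TI5954.u_fix (pB Q hQ) id2 (LinearMap.BilinForm.isSymm_iff.1 (pB_symm Q hQ)) T (upres_of Q hQ T hT) r hr0 hrF
      hTr N hNT ((und_iff Q hQ N).2 hN)
  exact ⟨(und_iff Q hQ _).1 h0, P, hPN, hPT, (und_iff Q hQ P).1 hPnd, hPk, hsup,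
    fun u hu v hv => ho1 u hu v hv, hdim⟩

end Cfsg.Agent.Helper31.OH5992
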