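import Mathlib
import Cfsg.Agent.Helper96.OHDefs
import Cfsg.Agent.Helper13.FinQuad

/-!
# helper31: CALL S5992 piece OLINE (`o_line`, verbatim).
-/

set_option autoImplicit false
set_option linter.unusedSectionVars false
set_option linter.unusedVariables false

namespace Cfsg.Agent.Helper31.OH5992

open Module Polynomial Cfsg Cfsg.Geo
open Cfsg.Agent.Helper13.TIu Cfsg.Agent.Helper96.OH

variable {ι : Type} [Fintype ι] [DecidableEq ι] {F : Type*} [Field F] (Q : (ι → F) → F)

/-- `Q (x u + y v) = x² Q u + y² Q v` for orthogonal `u`, `v`. -/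
theorem oline_form (hQ : IsNondegenerateQuadraticForm Q) (u v : ι → F)
    (huv : QuadraticMap.polar Q u v = 0) (x y : F) :
    Q (x • u + y • v) = x ^ 2 * Q u + y ^ 2 * Q v := by
  rw [q_add Q, hQ.smul, hQ.smul, ← pB_apply Q hQ]
  simp only [map_smul, LinearMap.smul_apply, smul_eq_mul]
  rw [pB_apply, huv]
  ring

/-- a nondegenerate plane represents every nonzero scalar. -/
theorem oline_rep [Fintype F] (hQ : IsNondegenerateQuadraticForm Q) (h2 : (2 : F) ≠ 0)
    (Pi : Submodule F (ι → F)) (hPi : ONd Q Pi) (hdim : finrank F Pi = 2) (β : F) (hβ : β ≠ 0) :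
    ∃ l ∈ Pi, Q l = β := by
  classical
  obtain ⟨ε, hε⟩ := FiniteField.exists_nonsquare
    (Cfsg.Agent.Helper13.ringChar_ne_two_of_two_ne_zero h2)
  have hε0 : ε ≠ 0 := by
    rintro rfl
    exact hε ⟨0, by simp⟩
  obtain ⟨B', hB'⟩ : ∃ B' : LinearMap.BilinForm F Pi,
      ∀ u v : Pi, B' u v = QuadraticMap.polar Q (u : ι → F) (v : ι → F) :=
    ⟨(pB Q hQ).compl₁₂ Pi.subtype Pi.subtype, fun u v => rfl⟩
  have hsymm : ∀ u v : Pi, B' u v = B' v u := by
    intro u v
    rw [hB', hB', QuadraticMap.polar_comm]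
  have hS : B'.IsSymm := ⟨hsymm⟩
  have hnd : B'.Nondegenerate := by
    constructor
    · intro x hx
      by_contra hx0
      obtain ⟨-, y, hy, hne⟩ := hPi x.1 x.2 (fun h => hx0 (Subtype.ext h))
      exact hne (by rw [← hB' x ⟨y, hy⟩]; exact hx ⟨y, hy⟩)
    · intro x hx
      by_contra hx0
      obtain ⟨⟨y, hy, hne⟩, -⟩ := hPi x.1 x.2 (fun h => hx0 (Subtype.ext h))
      exact hne (by rw [← hB' ⟨y, hy⟩ x]; exact hx ⟨y, hy⟩)
  obtain ⟨bb, hbo, hb1, hlast⟩ :=
    Cfsg.Agent.Helper13.exists_orthonormalish_basis B' h2 hS hnd (n := 1) hdim ε hε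
  have h01 : QuadraticMap.polar Q (bb 0 : ι → F) (bb 1 : ι → F) = 0 := by
    rw [← hB']
    exact hbo 0 1 (by decide)
  have ha1 : 2 * Q (bb 0 : ι → F) = 1 := by
    rw [← pB_self Q hQ, pB_apply, ← hB']
    exact hb1 0 (by decide)
  have ha2 : 2 * Q (bb 1 : ι → F) ≠ 0 := by
    rw [← pB_self Q hQ, pB_apply, ← hB']
    rcases hlast with h | h
    · rw [show (1 : Fin 2) = Fin.last 1 from rfl, h]
      exact one_ne_zero
    · rw [show (1 : Fin 2) = Fin.last 1 from rfl, h]
      exact hε0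
  have ha1' : Q (bb 0 : ι → F) ≠ 0 := by
    intro h
    rw [h, mul_zero] at ha1
    exact zero_ne_one ha1
  have ha2' : Q (bb 1 : ι → F) ≠ 0 := by
    intro h
    rw [h, mul_zero] at ha2
    exact ha2 rfl
  obtain ⟨x, y, hxy⟩ := Cfsg.Agent.Helper13.exists_sq_add_sq_eq_one h2
    (a := Q (bb 0 : ι → F) / β) (b := Q (bb 1 : ι → F) / β)
    (div_ne_zero ha1' hβ) (div_ne_zero ha2' hβ)
  refine ⟨x • (bb 0 : ι → F) + y • (bb 1 : ι → F),
    Pi.add_mem (Pi.smul_mem _ (bb 0).2) (Pi.smul_mem _ (bb 1).2), ?_⟩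
  rw [oline_form Q hQ _ _ h01]
  have h3 : (Q (bb 0 : ι → F) / β * x ^ 2 + Q (bb 1 : ι → F) / β * y ^ 2) * β = 1 * β := by
    rw [hxy]
  rw [one_mul] at h3
  rw [← h3]
  field_simp

/-- OLINE -/
theorem o_line [Fintype F] (hQ : IsNondegenerateQuadraticForm Q) (h2 : (2 : F) ≠ 0)
    (Pi : Submodule F (ι → F)) (hPi : ONd Q Pi) (hdim : finrank F Pi = 2) (f : ι → F)
    (hf : Q f ≠ 0) (horth : ∀ v ∈ Pi, QuadraticMap.polar Q f v = 0) (b : Prop) :
    ∃ l ∈ Pi, ONd Q (Submodule.span F {f, l}) ∧ finrank F (Submodule.span F {f, l}) = 2 ∧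
      (OPl Q (Submodule.span F {f, l}) ↔ b) := by
  classical
  obtain ⟨ε, hε⟩ := FiniteField.exists_nonsquare
    (Cfsg.Agent.Helper13.ringChar_ne_two_of_two_ne_zero h2)
  have hε0 : ε ≠ 0 := by
    rintro rfl
    exact hε ⟨0, by simp⟩
  obtain ⟨β, hβ0, hβ⟩ : ∃ β : F, β ≠ 0 ∧ ((b ∧ β = - Q f) ∨ (¬ b ∧ β = - Q f * ε)) := by
    by_cases hb : b
    · exact ⟨- Q f, neg_ne_zero.2 hf, Or.inl ⟨hb, rfl⟩⟩
    · exact ⟨- Q f * ε, mul_ne_zero (neg_ne_zero.2 hf) hε0, Or.inr ⟨hb, rfl⟩⟩
  obtain ⟨l, hlPi, hlβ⟩ := oline_rep Q hQ h2 Pi hPi hdim β hβ0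
  have hfl : QuadraticMap.polar Q f l = 0 := horth l hlPi
  have hQfl : ∀ x y : F, Q (x • f + y • l) = x ^ 2 * Q f + y ^ 2 * β := by
    intro x y
    rw [oline_form Q hQ f l hfl, hlβ]
  have hpf : ∀ x y : F, QuadraticMap.polar Q (x • f + y • l) f = 2 * Q f * x := by
    intro x y
    rw [← pB_apply Q hQ]
    simp only [map_add, map_smul, LinearMap.add_apply, LinearMap.smul_apply, smul_eq_mul]
    rw [pB_self, pB_comm Q hQ l f, pB_apply Q hQ f l, hfl]
    ring
  have hpl : ∀ x y : F, QuadraticMap.polar Q (x • f + y • l) l = 2 * β * y := by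
    intro x y
    rw [← pB_apply Q hQ]
    simp only [map_add, map_smul, LinearMap.add_apply, LinearMap.smul_apply, smul_eq_mul]
    rw [pB_self, pB_apply Q hQ f l, hfl, hlβ]
    ring
  have hz : ∀ v, QuadraticMap.polar Q 0 v = 0 := by
    intro v
    rw [← pB_apply Q hQ]
    simp
  have hzero : ∀ x y : F, x • f + y • l = 0 → x = 0 ∧ y = 0 := by
    intro x y h0
    have h1 := hpf x y
    have h3 := hpl x y
    rw [h0, hz] at h1 h3
    constructor
    · rcases mul_eq_zero.1 h1.symm with h | h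
      · exact absurd h (mul_ne_zero h2 hf)
      · exact h
    · rcases mul_eq_zero.1 h3.symm with h | h
      · exact absurd h (mul_ne_zero h2 hβ0)
      · exact h
  have hfW : f ∈ Submodule.span F {f, l} := Submodule.subset_span (by simp)
  have hlW : l ∈ Submodule.span F {f, l} := Submodule.subset_span (by simp)
  have hfin : finrank F (Submodule.span F {f, l}) = 2 := by
    have hli : LinearIndependent F ![f, l] :=
      LinearIndependent.pair_iff.2 (fun s t h => hzero s t h)
    have h3 := finrank_span_eq_card hli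
    rw [Matrix.range_cons_cons_empty] at h3
    rw [h3]
    rfl
  refine ⟨l, hlPi, ?_, hfin, ?_⟩
  · intro w hw hw0
    obtain ⟨x, y, rfl⟩ := Submodule.mem_span_pair.1 hw
    have hxy : x ≠ 0 ∨ y ≠ 0 := by
      by_contra hcon
      rw [not_or, not_not, not_not] at hcon
      apply hw0
      rw [hcon.1, hcon.2, zero_smul, zero_smul, add_zero]
    rcases hxy with hx | hy
    · have hne : QuadraticMap.polar Q (x • f + y • l) f ≠ 0 := by
        rw [hpf]
        exact mul_ne_zero (mul_ne_zero h2 hf) hx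
      exact ⟨⟨f, hfW, by rw [QuadraticMap.polar_comm]; exact hne⟩, ⟨f, hfW, hne⟩⟩
    · have hne : QuadraticMap.polar Q (x • f + y • l) l ≠ 0 := by
        rw [hpl]
        exact mul_ne_zero (mul_ne_zero h2 hβ0) hy
      exact ⟨⟨l, hlW, by rw [QuadraticMap.polar_comm]; exact hne⟩, ⟨l, hlW, hne⟩⟩
  · rcases hβ with ⟨hb, hβe⟩ | ⟨hb, hβe⟩
    · refine ⟨fun _ => hb, fun _ => ?_⟩
      have hne : f + l ≠ 0 := by
        intro h0
        have h3 := hzero 1 1 (by rw [one_smul, one_smul]; exact h0)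
        exact one_ne_zero h3.1
      have hQs : Q (f + l) = 0 := by
        have h3 := hQfl 1 1
        rw [one_smul, one_smul, hβe] at h3
        rw [h3]
        ring
      refine ⟨Submodule.span F {f + l}, ?_, ?_, ?_⟩
      · rw [Submodule.span_le, Set.singleton_subset_iff]
        exact Submodule.add_mem _ hfW hlW
      · intro w hw
        obtain ⟨c, rfl⟩ := Submodule.mem_span_singleton.1 hw
        rw [hQ.smul, hQs, mul_zero]
      · rw [finrank_span_singleton hne, hfin]
    · refine ⟨fun hpl' => ?_, fun h => absurd h hb⟩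
      exfalso
      obtain ⟨U, hUW, hUs, hUd⟩ := hpl'
      rw [hfin] at hUd
      have hU1 : finrank F U = 1 := by omega
      have hUne : U ≠ ⊥ := by
        intro h
        rw [h, finrank_bot] at hU1
        omega
      obtain ⟨u, huU, hu0⟩ := Submodule.exists_mem_ne_zero_of_ne_bot hUne
      obtain ⟨x, y, rfl⟩ := Submodule.mem_span_pair.1 (hUW huU)
      have hq := hUs _ huU
      rw [hQfl, hβe] at hq
      have hq' : x ^ 2 = ε * y ^ 2 := by
        have h3 : Q f * (x ^ 2 - ε * y ^ 2) = 0 := by linear_combination hq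
        rcases mul_eq_zero.1 h3 with h | h
        · exact absurd h hf
        · linear_combination h
      by_cases hy : y = 0
      · rw [hy] at hq'
        have hx : x = 0 := by
          have h3 : x ^ 2 = 0 := by rw [hq']; ring
          exact pow_eq_zero_iff (two_ne_zero) |>.1 h3
        apply hu0
        rw [hx, hy, zero_smul, zero_smul, add_zero]
      · apply hε
        refine ⟨x / y, ?_⟩
        field_simp
        linear_combination -hq'

end Cfsg.Agent.Helper31.OH5992
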