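import Mathlib
import Cfsg.Agent.Helper96.OHDefs
import Cfsg.Agent.Helper86.TLUPAIR

/-!
# helper31: CALL S5992 piece OPAIR (`o_hyp_pair`, verbatim): wrapper at `σ = RingHom.id F`.
-/

set_option autoImplicit false
set_option linter.unusedSectionVars false
set_option linter.unusedVariables false

namespace Cfsg.Agent.Helper31.OH5992

open Module Polynomial Cfsg Cfsg.Geo
open Cfsg.Agent.Helper13.TIu Cfsg.Agent.Helper96.OH

variable {ι : Type} [Fintype ι] [DecidableEq ι] {F : Type*} [Field F] (Q : (ι → F) → F)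

/-- OPAIR: wrapper of `Cfsg.Agent.Helper86.TI5954.u_hyp_pair` at `σ = RingHom.id F`. -/
theorem o_hyp_pair [Fintype F] (hQ : IsNondegenerateQuadraticForm Q) (T : Module.End F (ι → F))
    (hT : OPres Q T) (r : ℕ) [Fact r.Prime] (hrF : (r : F) ≠ 0) (hTr : T ^ r = 1)
    (N : Submodule F (ι → F)) (hNT : N.map T ≤ N) (hN : ONd Q N) (hN0 : N ≠ ⊥)
    (hNk : N ⊓ LinearMap.ker (T - 1) = ⊥) :
    (∃ U₁ : Submodule F (ι → F), U₁ ≤ N ∧ U₁.map T ≤ U₁ ∧ ONd Q U₁ ∧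
      finrank F U₁ = orderOf ((Fintype.card F : ℕ) : ZMod r)) ∨
    (∃ E₂ : Submodule F (ι → F), E₂ ≤ N ∧ E₂.map T ≤ E₂ ∧ ONd Q E₂ ∧
      finrank F E₂ = 2 * orderOf ((Fintype.card F : ℕ) : ZMod r)) := by
  rcases Cfsg.Agent.Helper86.TI5954.u_hyp_pair (pB Q hQ) id2 (LinearMap.BilinForm.isSymm_iff.1 (pB_symm Q hQ)) T
      (upres_of Q hQ T hT) r hrF hTr N hNT ((und_iff Q hQ N).2 hN) hN0 hNk with
    ⟨U₁, h1, h2, h3, h4⟩ | ⟨E₂, h1, h2, h3, h4⟩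
  · exact Or.inl ⟨U₁, h1, h2, (und_iff Q hQ U₁).1 h3, h4⟩
  · exact Or.inr ⟨E₂, h1, h2, (und_iff Q hQ E₂).1 h3, h4⟩

end Cfsg.Agent.Helper31.OH5992
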