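import Mathlib
import Cfsg.Agent.Helper96.OHDefs
import Cfsg.Agent.Helper10.TLURAD

/-!
# helper31: CALL S5992 piece ORAD (`o_rad_dich`, verbatim): wrapper at `σ = RingHom.id F`.
-/

set_option autoImplicit false
set_option linter.unusedSectionVars false
set_option linter.unusedVariables false

namespace Cfsg.Agent.Helper31.OH5992

open Module Polynomial Cfsg Cfsg.Geo
open Cfsg.Agent.Helper13.TIu Cfsg.Agent.Helper96.OH

variable {ι : Type} [Fintype ι] [DecidableEq ι] {F : Type*} [Field F] (Q : (ι → F) → F)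

/-- ORAD: wrapper of `Cfsg.Agent.Helper10.TI5954.u_rad_dich` at `σ = RingHom.id F`. -/
theorem o_rad_dich [Fintype F] (hQ : IsNondegenerateQuadraticForm Q) (T : Module.End F (ι → F))
    (hT : OPres Q T) (r : ℕ) [Fact r.Prime] (hrF : (r : F) ≠ 0) (hTr : T ^ r = 1)
    (U : Submodule F (ι → F)) (hUT : U.map T ≤ U) (hUk : U ⊓ LinearMap.ker (T - 1) = ⊥)
    (hUdim : finrank F U = orderOf ((Fintype.card F : ℕ) : ZMod r)) :
    ONd Q U ∨ (∀ u ∈ U, ∀ v ∈ U, QuadraticMap.polar Q u v = 0) := by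
  rcases Cfsg.Agent.Helper10.TI5954.u_rad_dich (pB Q hQ) id2 (LinearMap.BilinForm.isSymm_iff.1 (pB_symm Q hQ)) T
      (upres_of Q hQ T hT) r hrF hTr U hUT hUk hUdim with h | h
  · exact Or.inl ((und_iff Q hQ U).1 h)
  · exact Or.inr (fun u hu v hv => h u hu v hv)

end Cfsg.Agent.Helper31.OH5992
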