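import Mathlib
import Cfsg.Agent.Helper43.OTDefs
import Cfsg.Agent.Helper90.BGChain
import Cfsg.Agent.Helper46.BGLIRR
import Cfsg.Agent.Helper10.HTHMAXAux
import Cfsg.Agent.Helper47.HTHORTH
import Cfsg.Agent.Helper34.HTHFIX

/-!
# helper31: CALL OT (S5972) piece B3 (`ot_b3`, verbatim; helper10's `ht_b3` for `σ = id`).
-/

set_option autoImplicit false

namespace Cfsg.Agent.Helper31.OT5972

open Module Polynomial Cfsg.Agent.Helper90.HT Cfsg.Agent.Helper43.OT
open Cfsg.Agent.Helper43.C3O (gm)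

universe u

section geom

variable {F : Type*} [Field F] {V : Type*} [AddCommGroup V] [Module F V] [FiniteDimensional F V]
  (h : V → V → F)

/-- B3 (= helper10's `ht_b3` without `hq hσ`; uses `ht_fix`, `ht_bound`, `cyc_dvd`, Helper46): the
obstruction. -/
theorem ot_b3 [Fintype F] (hh : IsHerm (RingHom.id F) h) (hnd : ∀ v, (∀ w, h v w = 0) → v = 0)
    (T : Module.End F V) (hT : HPres h T) (r : ℕ) [Fact r.Prime] (hrF : (r : F) ≠ 0)
    (hTr : T ^ r = 1) (W : Submodule F V) (hTI : HTI h W) (hW : W.map T ≤ W) :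
    ∃ a, a ≤ finrank F W ∧ orderOf ((Fintype.card F : ℕ) : ZMod r) ∣ finrank F W - a ∧
      2 * a ≤ finrank F (LinearMap.ker (T - 1)) := by
  obtain ⟨-, -, -, -, hCnd, -⟩ :=
    Cfsg.Agent.Helper34.HT5953.ht_fix (RingHom.id F) h hh hnd T hT r hrF hTr
  refine ⟨finrank F (W ⊓ LinearMap.ker (T - 1) : Submodule F V), ?_, ?_, ?_⟩
  · exact Submodule.finrank_mono inf_le_left
  · exact Cfsg.Agent.Helper90.BG.cyc_dvd T r _ hrF hTr
      (fun g hg hdvd => Cfsg.Agent.Helper46.bgl_irr_factor_degree r hrF g hg hdvd) W hW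
  · exact Cfsg.Agent.Helper10.HT5953.ht_bound_aux h
      (fun D W hD hW => Cfsg.Agent.Helper47.HT5953.ht_orth (RingHom.id F) h hh D W hD hW)
      (LinearMap.ker (T - 1)) (W ⊓ LinearMap.ker (T - 1)) hCnd inf_le_right
      (fun u hu v hv => hTI u hu.1 v hv.1)

end geom

end Cfsg.Agent.Helper31.OT5972
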