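import Mathlib
import Cfsg.Agent.Helper43.OTDefs
import Cfsg.Agent.Helper45.Spinor

/-!
# helper31: CALL OT (S5972) piece MODD (`ot_omega_odd`, verbatim).
-/

set_option autoImplicit false

namespace Cfsg.Agent.Helper31.OT5972

open Module Polynomial Cfsg.Agent.Helper90.HT Cfsg.Agent.Helper43.OT
open Cfsg.Agent.Helper43.C3O (gm)

universe u

section grp

variable {F : Type u} [Field F] [Fintype F] {ι : Type} [Fintype ι] [DecidableEq ι]

/-- MODD: elements of odd order of the isometry group lie in `Ω` (`Helper45.mem_omega_iff`; the two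
`spin` characters have values in `ℤˣ`). -/
theorem ot_omega_odd (Q : QuadraticForm F (ι → F)) (h2 : (2 : F) ≠ 0)
    (hQ : (QuadraticMap.polarBilin Q).Nondegenerate) (hcard : 2 ≤ Fintype.card ι)
    (g : ↥(Cfsg.isometryGroup F ⇑Q)) (hodd : Odd (orderOf g)) :
    (g : Matrix.GeneralLinearGroup ι F) ∈ Cfsg.Geo.omegaGL ⇑Q := by
  have hmem : g ∈ Cfsg.Omega F ⇑Q := by
    obtain ⟨ε, hε⟩ := FiniteField.exists_nonsquare (Helper45.ringChar_ne_two h2)
    rw [Helper45.mem_omega_iff Q h2 hQ hcard ε hε]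
    have hg : g ^ orderOf g = 1 := pow_orderOf_eq_one g
    have key : ∀ φ : ↥(Cfsg.isometryGroup F ⇑Q) →* ℤˣ, φ g = 1 := by
      intro φ
      have h1 : φ g ^ orderOf g = 1 := by rw [← map_pow, hg, map_one]
      rcases Int.units_eq_one_or (φ g) with h | h
      · exact h
      · rw [h, Odd.neg_one_pow hodd] at h1
        exact absurd h1 (by decide)
    exact ⟨key _, key _⟩
  exact ⟨g, hmem, rfl⟩

end grp

end Cfsg.Agent.Helper31.OT5972
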