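import Mathlib
import Cfsg.Agent.Helper43.OTDefs
import Cfsg.Agent.Helper13.FinQuad

/-!
# helper31: CALL OT (S5972) piece NF (`ot_nf`, verbatim).
-/

set_option autoImplicit false

namespace Cfsg.Agent.Helper31.OT5972

open Module Polynomial Cfsg.Agent.Helper90.HT Cfsg.Agent.Helper43.OT
open Cfsg.Agent.Helper43.C3O (gm)

universe u

section quad

variable {F : Type*} [Field F] [Fintype F] {V : Type*} [AddCommGroup V] [Module F V]
  [FiniteDimensional F V]

/-- NF: normal-form orthogonal basis of a nondegenerate subspace (use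
`Helper13.exists_orthonormalish_basis` on the subtype `↥D`). -/
theorem ot_nf (Q : QuadraticForm F V) (h2 : (2 : F) ≠ 0) (D : Submodule F V)
    (hD : HNondegOn (ph Q) D) (s : ℕ) (hs : finrank F D = s + 1) :
    ∃ (b : Fin (s + 1) → V) (δ : F), δ ≠ 0 ∧ LinearIndependent F b ∧
      Submodule.span F (Set.range b) = D ∧ (∀ j l, j ≠ l → ph Q (b j) (b l) = 0) ∧
      (∀ j, j ≠ Fin.last s → ph Q (b j) (b j) = 1) ∧ ph Q (b (Fin.last s)) (b (Fin.last s)) = δ := by
  classical
  obtain ⟨α, hα⟩ := FiniteField.exists_nonsquare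
    (Cfsg.Agent.Helper13.ringChar_ne_two_of_two_ne_zero h2)
  obtain ⟨B, hBapp⟩ : ∃ B : LinearMap.BilinForm F D, ∀ u v : D, B u v = ph Q (u : V) (v : V) :=
    ⟨(QuadraticMap.polarBilin Q).compl₁₂ D.subtype D.subtype, fun u v => rfl⟩
  have hsymm : ∀ u v : D, B u v = B v u := by
    intro u v
    rw [hBapp, hBapp]
    exact QuadraticMap.polar_comm Q _ _
  have hS : B.IsSymm := ⟨hsymm⟩
  have hB : B.Nondegenerate := by
    constructor
    · intro x hx
      have h1 := hD x.1 x.2 (fun w hw => by rw [← hBapp x ⟨w, hw⟩]; exact hx ⟨w, hw⟩)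
      exact Subtype.ext h1
    · intro y hy
      have h1 := hD y.1 y.2 (fun w hw => by
        rw [← hBapp y ⟨w, hw⟩, hsymm]; exact hy ⟨w, hw⟩)
      exact Subtype.ext h1
  obtain ⟨b', hbo, hb1, hlast⟩ :=
    Cfsg.Agent.Helper13.exists_orthonormalish_basis B h2 hS hB hs α hα
  refine ⟨fun j => (b' j : V), ph Q (b' (Fin.last s) : V) (b' (Fin.last s) : V),
    ?_, ?_, ?_, ?_, ?_, rfl⟩
  · rcases hlast with h1 | h1
    · rw [hBapp] at h1
      rw [h1]
      exact one_ne_zero
    · rw [hBapp] at h1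
      rw [h1]
      rintro rfl
      exact hα ⟨0, by simp⟩
  · exact b'.linearIndependent.map' D.subtype (Submodule.ker_subtype D)
  · have hrange : Set.range (fun j => (b' j : V)) = D.subtype '' Set.range b' := by
      rw [← Set.range_comp]
      rfl
    rw [hrange, ← Submodule.map_span, b'.span_eq, Submodule.map_subtype_top]
  · intro j l hjl
    rw [← hBapp]
    exact hbo j l hjl
  · intro j hj
    rw [← hBapp]
    exact hb1 j hj

end quad

end Cfsg.Agent.Helper31.OT5972
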