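import Mathlib

set_option autoImplicit false

namespace Cfsg.Agent.Helper31

/-- A central element of prime order outside the Frattini subgroup splits off as a direct
factor: `G ≃ E0 × C_p` for a maximal subgroup `E0` not containing it. -/
theorem exists_prod_decomp_of_central {G : Type*} [Group G] [Finite G] (p : ℕ) [Fact p.Prime]
    (c : G) (hc : c ∈ Subgroup.center G) (hcp : c ^ p = 1) (hcf : c ∉ frattini G) :
    ∃ E0 : Subgroup G, c ∉ E0 ∧ Nonempty (G ≃* E0 × Multiplicative (ZMod p)) := by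
  have hpp : p.Prime := Fact.out
  have hc1 : c ≠ 1 := fun h => hcf (h ▸ Subgroup.one_mem _)
  have hord : orderOf c = p := orderOf_eq_prime hcp hc1
  obtain ⟨E0, hE0, hcE⟩ : ∃ E0 : Subgroup G, IsCoatom E0 ∧ c ∉ E0 := by
    by_contra hcon
    apply hcf
    unfold frattini Order.radical
    simp only [Subgroup.mem_iInf]
    intro H hH
    by_contra hcH
    exact hcon ⟨H, hH, hcH⟩
  refine ⟨E0, hcE, ?_⟩
  have hle : Subgroup.zpowers c ≤ Subgroup.center G := (Subgroup.zpowers_le).mpr hc
  have hnorm : (Subgroup.zpowers c).Normal := by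
    refine ⟨fun n hn g => ?_⟩
    have h1 : n ∈ Subgroup.center G := hle hn
    have h2 : g * n * g⁻¹ = n := by
      rw [Subgroup.mem_center_iff] at h1
      rw [h1 g, mul_inv_cancel_right]
    rw [h2]
    exact hn
  have hsup : E0 ⊔ Subgroup.zpowers c = ⊤ := by
    apply hE0.2
    refine lt_of_le_of_ne le_sup_left (fun h => hcE ?_)
    rw [h]
    exact Subgroup.mem_sup_right (Subgroup.mem_zpowers c)
  have hcardz : Nat.card (Subgroup.zpowers c) = p := by rw [Nat.card_zpowers, hord]
  have hinf : E0 ⊓ Subgroup.zpowers c = ⊥ := by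
    have h1 : Nat.card ↥(E0 ⊓ Subgroup.zpowers c) ∣ p := by
      rw [← hcardz]
      exact Subgroup.card_dvd_of_le inf_le_right
    rcases (Nat.dvd_prime hpp).mp h1 with h | h
    · exact Subgroup.eq_bot_of_card_eq _ h
    · exfalso
      apply hcE
      have h2 : E0 ⊓ Subgroup.zpowers c = Subgroup.zpowers c :=
        Subgroup.eq_of_le_of_card_ge inf_le_right (by rw [h, hcardz])
      have h3 : c ∈ E0 ⊓ Subgroup.zpowers c := by
        rw [h2]; exact Subgroup.mem_zpowers c
      exact h3.1
  -- the multiplication map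
  let ψ : E0 × Subgroup.zpowers c →* G :=
    MonoidHom.noncommCoprod E0.subtype (Subgroup.zpowers c).subtype (fun e w => by
      have h1 : (w : G) ∈ Subgroup.center G := hle w.2
      rw [Subgroup.mem_center_iff] at h1
      exact h1 (e : G))
  have hψ : ∀ e : E0, ∀ w : Subgroup.zpowers c, ψ (e, w) = (e : G) * (w : G) := fun e w => rfl
  have hinj : Function.Injective ψ := by
    rw [injective_iff_map_eq_one]
    rintro ⟨e, w⟩ h
    rw [hψ] at h
    have h1 : (e : G) = (w : G)⁻¹ := eq_inv_of_mul_eq_one_left h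
    have h2 : (e : G) ∈ E0 ⊓ Subgroup.zpowers c :=
      ⟨e.2, by rw [h1]; exact Subgroup.inv_mem _ w.2⟩
    rw [hinf, Subgroup.mem_bot] at h2
    have h3 : (w : G) = 1 := by rw [h2, one_mul] at h; exact h
    exact Prod.ext (Subtype.ext h2) (Subtype.ext h3)
  have hsurj : Function.Surjective ψ := by
    intro g
    have hg : g ∈ E0 ⊔ Subgroup.zpowers c := by rw [hsup]; trivial
    obtain ⟨y, hy, z, hz, rfl⟩ := Subgroup.mem_sup_of_normal_right.mp hg
    exact ⟨(⟨y, hy⟩, ⟨z, hz⟩), rfl⟩
  have e1 : E0 × Subgroup.zpowers c ≃* G := MulEquiv.ofBijective ψ ⟨hinj, hsurj⟩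
  have hcardm : Nat.card (Multiplicative (ZMod p)) = p := by
    rw [Nat.card_eq_fintype_card, Fintype.card_multiplicative, ZMod.card]
  have e2 : Subgroup.zpowers c ≃* Multiplicative (ZMod p) :=
    mulEquivOfCyclicCardEq (by rw [hcardz, hcardm])
  exact ⟨e1.symm.trans (MulEquiv.prodCongr (MulEquiv.refl _) e2)⟩

end Cfsg.Agent.Helper31
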