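import Mathlib
import Cfsg.Prelude.Def_Transfer
import Cfsg.Agent.Helper84.P4Defs
import Cfsg.Agent.Helper51.PCube
import Cfsg.Agent.Helper87.OddFix
import Cfsg.Agent.Helper31.P4Base

set_option autoImplicit false

namespace Cfsg.Agent.Helper31

open Cfsg.Agent.Helper84
open scoped commutatorElement

/-- PIECE C1 of CALL S5188: groups of order `p^4`, `p` odd, with Frattini subgroup of order `p`
and non-cyclic centre of order `p^2`. -/
theorem p4_three_gen_odd {G : Type*} [Group G] [Finite G] (p : ℕ) [Fact p.Prime] (hp : p ≠ 2) (hG : Nat.card G = p ^ 4) (hna : ¬ ∀ a b : G, a * b = b * a) (hd : Nat.card (frattini G) = p) (hz : Nat.card (Subgroup.center G) = p ^ 2) (hzc : ¬ IsCyclic (Subgroup.center G)) (hcf : commutator G = frattini G) (hfz : frattini G ≤ Subgroup.center G) (hpow : ∀ x : G, x ^ p ∈ frattini G) : CharChain4 p G ∨ ∃ (E : Type) (_ : Group E) (_ : Finite E), Cfsg.IsExtraspecial p E ∧ Nat.card E = p ^ 3 ∧ (∀ x : E, x ^ p = 1) ∧ Nonempty (G ≃* E × Multiplicative (ZMod p)) := by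
  have hpp : p.Prime := Fact.out
  have hp3 : 2 < p := lt_of_le_of_ne hpp.two_le (Ne.symm hp)
  -- commutators lie in the Frattini subgroup, which is central of exponent `p`
  have hcomm_mem : ∀ x y : G, ⁅x, y⁆ ∈ frattini G := by
    intro x y
    rw [← hcf, commutator_def]
    exact Subgroup.commutator_mem_commutator (Subgroup.mem_top x) (Subgroup.mem_top y)
  have hfp : ∀ w ∈ frattini G, w ^ p = 1 := by
    intro w hw
    have h1 : (⟨w, hw⟩ : frattini G) ^ Nat.card (frattini G) = 1 := pow_card_eq_one'
    rw [hd] at h1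
    exact congrArg Subtype.val h1
  -- the `p`-th power map is a homomorphism
  have hmul : ∀ x y : G, (x * y) ^ p = x ^ p * y ^ p := by
    intro x y
    have hc := hfz (hcomm_mem y x)
    rw [Subgroup.mem_center_iff] at hc
    have h1 := Cfsg.Agent.Helper87.mul_pow_class_two x y (hc x).symm (hc y).symm p
    obtain ⟨m, hm⟩ := Nat.Prime.dvd_choose_self hpp (by norm_num : (2 : ℕ) ≠ 0) hp3
    rw [h1, hm, pow_mul, hfp _ (hcomm_mem y x), one_pow, mul_one]
  let π : G →* G := { toFun := fun x => x ^ p, map_one' := one_pow p, map_mul' := hmul }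
  have hπ : ∀ x : G, π x = x ^ p := fun x => rfl
  by_cases hexp : ∀ x : G, x ^ p = 1
  · right
    have hnle : ¬ Subgroup.center G ≤ frattini G := by
      intro h
      have h1 := Subgroup.card_le_of_le h
      rw [hz, hd] at h1
      have h2 : p < p ^ 2 := by nlinarith [hpp.one_lt]
      omega
    obtain ⟨c, hcZ, hcF⟩ := SetLike.not_le_iff_exists.mp hnle
    obtain ⟨E0, hcE, ⟨e⟩⟩ := exists_prod_decomp_of_central p c hcZ (hexp c) hcF
    have hcardm : Nat.card (Multiplicative (ZMod p)) = p := by
      rw [Nat.card_eq_fintype_card, Fintype.card_multiplicative, ZMod.card]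
    have hE0 : Nat.card E0 = p ^ 3 := by
      have h1 : Nat.card G = Nat.card E0 * p := by
        rw [Nat.card_congr e.toEquiv, Nat.card_prod, hcardm]
      rw [hG] at h1
      have h2 : p ^ 3 * p = Nat.card E0 * p := by rw [← h1]; ring
      exact (Nat.eq_of_mul_eq_mul_right hpp.pos h2).symm
    have hE0na : ∃ a b : E0, a * b ≠ b * a := by
      by_contra hcon
      apply hna
      intro a b
      apply e.injective
      rw [map_mul, map_mul]
      refine Prod.ext ?_ (mul_comm _ _)
      by_contra hne
      exact hcon ⟨_, _, hne⟩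
    obtain ⟨a0, b0, hab0⟩ := hE0na
    let e0 : {n : ℕ // n < p ^ 3} ≃ E0 :=
      (Fin.equivSubtype.symm).trans (Finite.equivFinOfCardEq hE0).symm
    have hfinT : Finite {n : ℕ // n < p ^ 3} := Finite.of_equiv _ e0.symm
    have hcardT : Nat.card {n : ℕ // n < p ^ 3} = p ^ 3 := by rw [Nat.card_congr e0, hE0]
    let instT : Group {n : ℕ // n < p ^ 3} := e0.group
    let me : {n : ℕ // n < p ^ 3} ≃* E0 := e0.mulEquiv
    refine ⟨{n : ℕ // n < p ^ 3}, instT, hfinT, ?_, hcardT, ?_, ?_⟩
    · refine Cfsg.Agent.Helper51.isExtraspecial_of_card_eq_prime_cube hcardT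
        ⟨me.symm a0, me.symm b0, fun h => hab0 ?_⟩
      have h1 := congrArg me h
      rw [map_mul, map_mul, MulEquiv.apply_symm_apply, MulEquiv.apply_symm_apply] at h1
      exact h1
    · intro x
      apply me.injective
      rw [map_pow, map_one]
      apply Subtype.ext
      rw [Subgroup.coe_pow, Subgroup.coe_one]
      exact hexp _
    · exact ⟨e.trans (MulEquiv.prodCongr me.symm (MulEquiv.refl _))⟩
  · left
    obtain ⟨x0, hx0⟩ := not_forall.mp hexp
    have hrange : π.range ≤ frattini G := by
      rintro _ ⟨x, rfl⟩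
      exact hpow x
    have hrcard : Nat.card π.range = p := by
      have h1 : Nat.card π.range ∣ p := by
        rw [← hd]
        exact Subgroup.card_dvd_of_le hrange
      rcases (Nat.dvd_prime hpp).mp h1 with h | h
      · exfalso
        have h2 := Subgroup.eq_bot_of_card_eq _ h
        have hx : x0 ^ p ∈ π.range := ⟨x0, rfl⟩
        rw [h2, Subgroup.mem_bot] at hx
        exact hx0 hx
      · exact h
    have hker : Nat.card π.ker = p ^ 3 := by
      have h1 := Subgroup.card_mul_index π.ker
      rw [Subgroup.index_ker, hrcard, hG] at h1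
      have h2 : Nat.card π.ker * p = p ^ 3 * p := by rw [h1]; ring
      exact Nat.eq_of_mul_eq_mul_right hpp.pos h2
    have hkerchar : π.ker.Characteristic := by
      rw [Subgroup.characteristic_iff_comap_le]
      intro φ x hx
      rw [Subgroup.mem_comap, MonoidHom.mem_ker] at hx
      rw [MonoidHom.mem_ker, hπ]
      have h1 : φ (x ^ p) = 1 := by
        rw [map_pow]
        exact hx
      apply φ.injective
      rw [h1, map_one]
    have hZker : Subgroup.center G ≤ π.ker := by
      intro w hw
      rw [MonoidHom.mem_ker, hπ]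
      by_contra hwp
      apply hzc
      have hdvd : orderOf (⟨w, hw⟩ : Subgroup.center G) ∣ p ^ 2 := by
        rw [← hz]
        exact orderOf_dvd_natCard _
      obtain ⟨k, hk, hkeq⟩ := (Nat.dvd_prime_pow hpp).mp hdvd
      have hk2 : k = 2 := by
        by_contra hne
        have hk1 : k ≤ 1 := by omega
        apply hwp
        have h2 : orderOf (⟨w, hw⟩ : Subgroup.center G) ∣ p := by
          rw [hkeq]
          exact pow_dvd_pow p hk1 |>.trans (by rw [pow_one])
        have h3 := orderOf_dvd_iff_pow_eq_one.mp h2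
        exact congrArg Subtype.val h3
      rw [hk2] at hkeq
      exact isCyclic_of_orderOf_eq_card _ (by rw [hkeq, hz])
    exact ⟨frattini G, Subgroup.center G, π.ker, inferInstance, inferInstance, hkerchar, hfz,
      hZker, hd, hz, hker⟩

end Cfsg.Agent.Helper31
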