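import Mathlib
import Cfsg.Prelude.Def_Transfer
import Cfsg.Agent.Helper84.P4Defs
import Cfsg.Agent.Helper50.Ord8
import Cfsg.Agent.Helper87.OddFix
import Cfsg.Agent.Helper31.P4Base

set_option autoImplicit false

namespace Cfsg.Agent.Helper31

open Cfsg.Agent.Helper84
open scoped commutatorElement

/-- PIECE C2 of CALL S5188: groups of order `2^4` with Frattini subgroup of order `2` and
non-cyclic centre of order `4`. -/
theorem p4_three_gen_two {G : Type*} [Group G] [Finite G] (hG : Nat.card G = 2 ^ 4) (hna : ¬ ∀ a b : G, a * b = b * a) (hd : Nat.card (frattini G) = 2) (hz : Nat.card (Subgroup.center G) = 2 ^ 2) (hzc : ¬ IsCyclic (Subgroup.center G)) (hcf : commutator G = frattini G) (hfz : frattini G ≤ Subgroup.center G) (hpow : ∀ x : G, x ^ 2 ∈ frattini G) : CharChain4 2 G ∨ Nonempty (G ≃* QuaternionGroup 2 × Multiplicative (ZMod 2)) := by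
  have hfact : Fact (Nat.Prime 2) := ⟨Nat.prime_two⟩
  -- the nontrivial element of the Frattini subgroup
  obtain ⟨z, hzΦ, hz1, hzuniq⟩ : ∃ z ∈ frattini G, z ≠ 1 ∧ ∀ w ∈ frattini G, w = 1 ∨ w = z := by
    obtain ⟨y, hy, hyu⟩ := (Nat.card_eq_two_iff' (1 : frattini G)).mp hd
    refine ⟨y, y.2, fun h => hy (Subtype.ext h), fun w hw => ?_⟩
    by_cases hw1 : w = 1
    · exact Or.inl hw1
    · right
      have h1 := hyu ⟨w, hw⟩ (fun h => hw1 (congrArg Subtype.val h))
      exact congrArg Subtype.val h1
  have hzZ : z ∈ Subgroup.center G := hfz hzΦ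
  have hz2 : z ^ 2 = 1 := by
    have h1 : (⟨z, hzΦ⟩ : frattini G) ^ Nat.card (frattini G) = 1 := pow_card_eq_one'
    rw [hd] at h1
    exact congrArg Subtype.val h1
  have hzz : z * z = 1 := by rw [← pow_two]; exact hz2
  have hsq : ∀ g : G, g ^ 2 = 1 ∨ g ^ 2 = z := fun g => hzuniq _ (hpow g)
  have hcomm_mem : ∀ x y : G, ⁅x, y⁆ ∈ frattini G := by
    intro x y
    rw [← hcf, commutator_def]
    exact Subgroup.commutator_mem_commutator (Subgroup.mem_top x) (Subgroup.mem_top y)
  have hcomm : ∀ x y : G, x * y ≠ y * x → ⁅x, y⁆ = z := by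
    intro x y hxy
    rcases hzuniq _ (hcomm_mem x y) with h | h
    · exact absurd (commutatorElement_eq_one_iff_mul_comm.mp h) hxy
    · exact h
  have hmul2 : ∀ x y : G, (x * y) ^ 2 = x ^ 2 * y ^ 2 * ⁅y, x⁆ := by
    intro x y
    have hc := hfz (hcomm_mem y x)
    rw [Subgroup.mem_center_iff] at hc
    have h1 := Cfsg.Agent.Helper87.mul_pow_class_two x y (hc x).symm (hc y).symm 2
    rw [h1]
    norm_num
  have hZsq : ∀ c ∈ Subgroup.center G, c ^ 2 = 1 := by
    intro w hw
    by_contra hwp
    apply hzc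
    have hdvd : orderOf (⟨w, hw⟩ : Subgroup.center G) ∣ 2 ^ 2 := by
      rw [← hz]
      exact orderOf_dvd_natCard _
    obtain ⟨k, hk, hkeq⟩ := (Nat.dvd_prime_pow Nat.prime_two).mp hdvd
    have hk2 : k = 2 := by
      by_contra hne
      have hk1 : k ≤ 1 := by omega
      apply hwp
      have h2 : orderOf (⟨w, hw⟩ : Subgroup.center G) ∣ 2 := by
        rw [hkeq]
        exact (pow_dvd_pow 2 hk1).trans (by rw [pow_one])
      have h3 := orderOf_dvd_iff_pow_eq_one.mp h2
      exact congrArg Subtype.val h3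
    rw [hk2] at hkeq
    exact isCyclic_of_orderOf_eq_card _ (by rw [hkeq, hz])
  by_cases hall : ∀ g : G, g ∉ Subgroup.center G → g ^ 2 = z
  · right
    have hnle : ¬ Subgroup.center G ≤ frattini G := by
      intro h
      have h1 := Subgroup.card_le_of_le h
      rw [hz, hd] at h1
      omega
    obtain ⟨c, hcZ, hcF⟩ := SetLike.not_le_iff_exists.mp hnle
    obtain ⟨E0, hcE, ⟨e⟩⟩ := exists_prod_decomp_of_central 2 c hcZ (hZsq c hcZ) hcF
    have hcardm : Nat.card (Multiplicative (ZMod 2)) = 2 := by
      rw [Nat.card_eq_fintype_card, Fintype.card_multiplicative, ZMod.card]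
    have hE0 : Nat.card E0 = 8 := by
      have h1 : Nat.card G = Nat.card E0 * 2 := by
        rw [Nat.card_congr e.toEquiv, Nat.card_prod, hcardm]
      rw [hG] at h1
      omega
    have hE0na : ∃ a b : E0, a * b ≠ b * a := by
      by_contra hcon
      apply hna
      intro a b
      apply e.injective
      rw [map_mul, map_mul]
      refine Prod.ext ?_ (mul_comm _ _)
      by_contra hne
      exact hcon ⟨_, _, hne⟩
    rcases Cfsg.Agent.Helper50.d8_or_q8 hE0 hE0na with ⟨⟨d⟩⟩ | ⟨⟨q⟩⟩
    · exfalso
      obtain ⟨u, hu⟩ : ∃ u : E0, u = d.symm (DihedralGroup.sr 0) := ⟨_, rfl⟩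
      obtain ⟨v, hv⟩ : ∃ v : E0, v = d.symm (DihedralGroup.sr 1) := ⟨_, rfl⟩
      have huu : u * u = 1 := by
        rw [hu, ← map_mul, DihedralGroup.sr_mul_self, map_one]
      have hvv : v * v = 1 := by
        rw [hv, ← map_mul, DihedralGroup.sr_mul_self, map_one]
      have huv : u * v ≠ v * u := by
        intro h
        rw [hu, hv, ← map_mul, ← map_mul] at h
        have h1 := d.symm.injective h
        rw [DihedralGroup.sr_mul_sr, DihedralGroup.sr_mul_sr] at h1
        have h2 : ((1 : ZMod 4) - 0) = 0 - 1 := by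
          injection h1
        revert h2
        decide
      have hinZ : ∀ w : E0, w * w = 1 → (w : G) ∈ Subgroup.center G := by
        intro w hw
        by_contra hnot
        have h1 := hall _ hnot
        have h2 : (w : G) ^ 2 = 1 := by
          rw [pow_two, ← Subgroup.coe_mul, hw, Subgroup.coe_one]
        exact hz1 (h1.symm.trans h2)
      apply huv
      apply Subtype.ext
      rw [Subgroup.coe_mul, Subgroup.coe_mul]
      exact Subgroup.mem_center_iff.mp (hinZ v hvv) (u : G)
    · exact ⟨e.trans (MulEquiv.prodCongr q (MulEquiv.refl _))⟩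
  · left
    obtain ⟨a, ha⟩ := not_forall.mp hall
    have haZ : a ∉ Subgroup.center G := fun h => ha (fun h' => absurd h h')
    have haz : a ^ 2 ≠ z := fun h => ha (fun _ => h)
    have ha2 : a ^ 2 = 1 := (hsq a).resolve_right haz
    obtain ⟨y0, hy0⟩ : ∃ y0 : G, y0 * a ≠ a * y0 := by
      by_contra hcon
      apply haZ
      rw [Subgroup.mem_center_iff]
      intro g
      by_contra h
      exact hcon ⟨g, h⟩
    obtain ⟨b, hb2, hab⟩ : ∃ b : G, b ^ 2 = 1 ∧ a * b ≠ b * a := by
      rcases hsq y0 with h | h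
      · exact ⟨y0, h, fun h' => hy0 h'.symm⟩
      · refine ⟨a * y0, ?_, ?_⟩
        · rw [hmul2, ha2, h, hcomm y0 a hy0, one_mul, hzz]
        · intro h'
          apply hy0
          have h1 : a * (a * y0) = a * (y0 * a) := by rw [h', mul_assoc]
          exact (mul_left_cancel h1).symm
    obtain ⟨g, hg⟩ : ∃ g : G, g = a * b := ⟨_, rfl⟩
    have hg2 : g ^ 2 = z := by
      rw [hg, hmul2, ha2, hb2, one_mul, one_mul]
      exact hcomm b a (fun h => hab h.symm)
    have hgZ : g ∉ Subgroup.center G := fun h => hz1 (hg2.symm.trans (hZsq g h))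
    have hbZ : b ∉ Subgroup.center G := fun h => hab (Subgroup.mem_center_iff.mp h a)
    obtain ⟨M, hM⟩ : ∃ M : Subgroup G, M = Subgroup.zpowers g ⊔ Subgroup.center G := ⟨_, rfl⟩
    have hZM : Subgroup.center G ≤ M := by rw [hM]; exact le_sup_right
    have hgM : g ∈ M := by
      rw [hM]; exact Subgroup.mem_sup_left (Subgroup.mem_zpowers g)
    have hMcent : M ≤ Subgroup.centralizer ({g} : Set G) := by
      rw [hM]
      refine sup_le ?_ ?_
      · rw [Subgroup.zpowers_le, Subgroup.mem_centralizer_iff]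
        intro h hh
        rw [Set.mem_singleton_iff] at hh
        rw [hh]
      · intro w hw
        rw [Subgroup.mem_centralizer_iff]
        intro h _
        exact Subgroup.mem_center_iff.mp hw h
    have hMne : M ≠ ⊤ := by
      intro h
      apply hgZ
      rw [Subgroup.mem_center_iff]
      intro x
      have h1 : x ∈ Subgroup.centralizer ({g} : Set G) := hMcent (by rw [h]; trivial)
      exact (Subgroup.mem_centralizer_iff.mp h1 g rfl).symm
    have hMcard : Nat.card M = 2 ^ 3 := by
      have h1 : Nat.card M ∣ 2 ^ 4 := by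
        rw [← hG]; exact Subgroup.card_subgroup_dvd_card M
      have h2 : 2 ^ 2 ∣ Nat.card M := by
        rw [← hz]; exact Subgroup.card_dvd_of_le hZM
      have h3 : Nat.card M ≠ 2 ^ 2 := by
        intro h
        have h5 : Subgroup.center G = M := Subgroup.eq_of_le_of_card_ge hZM (by rw [h, hz])
        exact hgZ (by rw [h5]; exact hgM)
      have h4 : Nat.card M ≠ 2 ^ 4 := by
        intro h
        exact hMne (Subgroup.eq_top_of_card_eq M (by rw [h, hG]))
      obtain ⟨k, hk, hkeq⟩ := (Nat.dvd_prime_pow Nat.prime_two).mp h1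
      rw [hkeq] at h2 h3 h4 ⊢
      have hk2 : 2 ≤ k := (Nat.pow_dvd_pow_iff_le_right (by norm_num)).mp h2
      interval_cases k
      · exact absurd rfl h3
      · rfl
      · exact absurd rfl h4
    have hMidx : M.index = 2 := by
      have h1 := Subgroup.card_mul_index M
      rw [hMcard, hG] at h1
      omega
    have hMmem : ∀ u ∈ M, u ∈ Subgroup.center G ∨ ∃ c ∈ Subgroup.center G, u = g * c := by
      intro u hu
      rw [hM] at hu
      obtain ⟨y, hy, c, hc, rfl⟩ := Subgroup.mem_sup_of_normal_right.mp hu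
      obtain ⟨k, rfl⟩ := Subgroup.mem_zpowers_iff.mp hy
      rcases Int.even_or_odd' k with ⟨m, rfl | rfl⟩
      · left
        have h1 : g ^ (2 * m) = z ^ m := by
          rw [zpow_mul, zpow_ofNat, hg2]
        rw [h1]
        exact Subgroup.mul_mem _ (Subgroup.zpow_mem _ hzZ m) hc
      · right
        refine ⟨z ^ m * c, Subgroup.mul_mem _ (Subgroup.zpow_mem _ hzZ m) hc, ?_⟩
        have h1 : g ^ (2 * m + 1) = g * z ^ m := by
          rw [zpow_add, zpow_one, zpow_mul, zpow_ofNat, hg2]
          exact (Subgroup.mem_center_iff.mp (Subgroup.zpow_mem _ hzZ m) g).symm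
        rw [h1, mul_assoc]
    have hMsq : ∀ u ∈ M, u ∉ Subgroup.center G → u ^ 2 = z := by
      intro u hu huZ
      rcases hMmem u hu with h | ⟨c, hc, rfl⟩
      · exact absurd h huZ
      · have hcm : Commute g c := (Subgroup.mem_center_iff.mp hc g)
        rw [hcm.mul_pow, hg2, hZsq c hc, mul_one]
    have haM : a ∉ M := fun h => haz (hMsq a h haZ)
    have hbM : b ∉ M := fun h => hz1 ((hMsq b h hbZ).symm.trans hb2)
    have hkey : ∀ h : G, h ^ 2 = z → h ∈ M := by
      intro h hh
      by_contra hhM
      have h1 : h * a ∈ M := (Subgroup.mul_mem_iff_of_index_two hMidx).mpr (iff_of_false hhM haM)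
      have h2 : h * b ∈ M := (Subgroup.mul_mem_iff_of_index_two hMidx).mpr (iff_of_false hhM hbM)
      have hnotZ : ∀ w : G, w ^ 2 = 1 → h * w ∉ Subgroup.center G := by
        intro w hw hc
        have hcm : Commute (h * w) w⁻¹ := (Subgroup.mem_center_iff.mp hc w⁻¹).symm
        have e1 : h = (h * w) * w⁻¹ := by group
        have e2 : h ^ 2 = 1 := by
          rw [e1, hcm.mul_pow, hZsq _ hc, inv_pow, hw, inv_one, mul_one]
        exact hz1 (hh.symm.trans e2)
      rcases hMmem _ h1 with h3 | ⟨c1, hc1, e1⟩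
      · exact hnotZ a ha2 h3
      rcases hMmem _ h2 with h3 | ⟨c2, hc2, e2⟩
      · exact hnotZ b hb2 h3
      have ea : a = h⁻¹ * (g * c1) := by rw [← e1]; group
      have eb : b = h⁻¹ * (g * c2) := by rw [← e2]; group
      have hb' : b = a * (c1⁻¹ * c2) := by rw [ea, eb]; group
      have hc' : c1⁻¹ * c2 ∈ Subgroup.center G :=
        Subgroup.mul_mem _ (Subgroup.inv_mem _ hc1) hc2
      apply hab
      rw [hb', mul_assoc a (c1⁻¹ * c2) a, ← Subgroup.mem_center_iff.mp hc' a]
    have hMchar : M.Characteristic := by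
      rw [Subgroup.characteristic_iff_map_le]
      intro φ
      rw [hM, Subgroup.map_sup, MonoidHom.map_zpowers, ← hM]
      refine sup_le ?_ ?_
      · rw [Subgroup.zpowers_le]
        apply hkey
        have hφz : φ z = z := by
          have h1 : φ z ∈ frattini G := by
            have h2 : (frattini G).map φ.toMonoidHom = frattini G :=
              Subgroup.characteristic_iff_map_eq.mp inferInstance φ
            rw [← h2]
            exact Subgroup.mem_map_of_mem _ hzΦ
          rcases hzuniq _ h1 with h3 | h3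
          · exfalso
            apply hz1
            apply φ.injective
            rw [h3, map_one]
          · exact h3
        show (φ g) ^ 2 = z
        rw [← map_pow, hg2, hφz]
      · exact (Subgroup.characteristic_iff_map_le.mp inferInstance φ).trans hZM
    exact ⟨frattini G, Subgroup.center G, M, inferInstance, inferInstance, hMchar, hfz, hZM,
      hd, hz, hMcard⟩

end Cfsg.Agent.Helper31
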