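import Mathlib

/-! helper31: CALL S0998 (helper9), piece NB4 (`prq_num_B4`). -/

set_option autoImplicit false

namespace Cfsg.Agent.Helper31

theorem prq_num_B4 (p r e b d j : ℕ) (hp : p.Prime) (hr : r.Prime) (hr3 : 3 ≤ r)
    (hpre : r + e = p) (hj : 2 ≤ j) (he : e = 2 ^ j) (hed : e ∣ p - 1) (hd4 : d % 4 = 2)
    (hdd : d ∣ r * 2 ^ b)
    (hdm : ((d : ℤ) ≡ 1 [ZMOD p]) ∨ ((d : ℤ) ≡ -1 [ZMOD p])) : False := by
  -- `e ≥ 4`
  have he4 : 4 ≤ e := by
    rw [he]
    calc 4 = 2 ^ 2 := by norm_num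
      _ ≤ 2 ^ j := Nat.pow_le_pow_right (by norm_num) hj
  have hp7 : 7 ≤ p := by omega
  -- `2 e ≤ p - 1`
  have h2e : 2 * e + 1 ≤ p := by
    obtain ⟨k, hk⟩ := hed
    have hk2 : 2 ≤ k := by
      by_contra hlt
      have hk01 : k = 0 ∨ k = 1 := by omega
      rcases hk01 with rfl | rfl
      · omega
      · omega
    have : e * 2 ≤ e * k := Nat.mul_le_mul_left e hk2
    omega
  -- `d = 2 m`, `m` odd, `m ∣ r`
  obtain ⟨m, hm⟩ : ∃ m, d = 2 * m := ⟨d / 2, by omega⟩
  have hmodd : m % 2 = 1 := by omega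
  have hmr : m ∣ r := by
    have h1 : m ∣ r * 2 ^ b := Dvd.dvd.trans ⟨2, by rw [hm]; ring⟩ hdd
    have hcop : Nat.Coprime m (2 ^ b) := by
      apply Nat.Coprime.pow_right
      rw [Nat.coprime_comm, Nat.Prime.coprime_iff_not_dvd Nat.prime_two]
      omega
    exact hcop.dvd_of_dvd_mul_right h1
  have hm1r : m = 1 ∨ m = r := (Nat.dvd_prime hr).1 hmr
  -- integer divisibilities
  have hdiv1 : ∀ t : ℤ, ((d : ℤ) ≡ t [ZMOD p]) → ∃ c : ℤ, t - d = p * c := by
    intro t ht
    exact (Int.modEq_iff_dvd.1 ht)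
  rcases hm1r with rfl | rfl
  · -- `d = 2`
    rcases hdm with h | h
    · obtain ⟨c, hc⟩ := hdiv1 1 h
      rw [hm] at hc
      have h3 : (p : ℤ) ∣ 1 := ⟨-c, by push_cast at hc; linarith⟩
      have h4 : p ∣ 1 := by exact_mod_cast h3
      have := Nat.le_of_dvd (by norm_num) h4
      omega
    · obtain ⟨c, hc⟩ := hdiv1 (-1) h
      rw [hm] at hc
      have h3 : (p : ℤ) ∣ 3 := ⟨-c, by push_cast at hc; linarith⟩
      have h4 : p ∣ 3 := by exact_mod_cast h3
      have := Nat.le_of_dvd (by norm_num) h4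
      omega
  · -- `d = 2 r`
    have hpe : (p : ℤ) = (m : ℤ) + e := by exact_mod_cast hpre.symm
    rcases hdm with h | h
    · obtain ⟨c, hc⟩ := hdiv1 1 h
      rw [hm] at hc
      have h3 : (p : ℤ) ∣ ((2 * e + 1 : ℕ) : ℤ) := ⟨c + 2, by push_cast at hc ⊢; linarith⟩
      have h4 : p ∣ 2 * e + 1 := by exact_mod_cast h3
      have h5 := Nat.le_of_dvd (by omega) h4
      have hp2e : p = 2 * e + 1 := by omega
      have hre : m = e + 1 := by omega
      -- mod 3
      have hmod : 2 ^ j % 3 = 1 ∨ 2 ^ j % 3 = 2 := by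
        have h6 : ∀ i : ℕ, 2 ^ i % 3 = 1 ∨ 2 ^ i % 3 = 2 := by
          intro i
          induction i with
          | zero => left; norm_num
          | succ i ih =>
            rw [pow_succ]
            omega
        exact h6 j
      rcases hmod with h7 | h7
      · have h8 : 3 ∣ p := by
          rw [hp2e, he]
          omega
        have h9 := (Nat.prime_dvd_prime_iff_eq Nat.prime_three hp).1 h8
        omega
      · have h8 : 3 ∣ m := by
          rw [hre, he]
          omega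
        have h9 := (Nat.prime_dvd_prime_iff_eq Nat.prime_three hr).1 h8
        omega
    · obtain ⟨c, hc⟩ := hdiv1 (-1) h
      rw [hm] at hc
      have h3 : (p : ℤ) ∣ ((2 * e - 1 : ℕ) : ℤ) := by
        refine ⟨c + 2, ?_⟩
        have h10 : ((2 * e - 1 : ℕ) : ℤ) = 2 * (e : ℤ) - 1 := by
          rw [Nat.cast_sub (by omega)]
          push_cast
          ring
        rw [h10]
        push_cast at hc
        linarith
      have h4 : p ∣ 2 * e - 1 := by exact_mod_cast h3
      have h5 := Nat.le_of_dvd (by omega) h4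
      omega

end Cfsg.Agent.Helper31
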