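import Mathlib

/-! helper31: CALL S0998 (helper9), piece NM (`prq_mod4`). -/

set_option autoImplicit false

namespace Cfsg.Agent.Helper31

theorem prq_mod4 {ι : Type*} (X1 X2 : Finset ι) (d : ι → ℕ) (r : ℕ) (hr : r % 4 = 1)
    (h1 : ∀ i ∈ X1, 2 ∣ d i) (h2 : ∀ i ∈ X2, 2 ∣ d i)
    (hrel : -(r : ℤ) = 1 + ((∑ i ∈ X1, d i : ℕ) : ℤ) - ((∑ i ∈ X2, d i : ℕ) : ℤ)) :
    ∃ i, (i ∈ X1 ∨ i ∈ X2) ∧ d i % 4 = 2 := by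
  by_contra hcon
  have hall : ∀ i, (i ∈ X1 ∨ i ∈ X2) → 4 ∣ d i := by
    intro i hi
    have h2' : 2 ∣ d i := hi.elim (h1 i) (h2 i)
    have h3 : d i % 4 ≠ 2 := fun h => hcon ⟨i, hi, h⟩
    omega
  have hs1 : 4 ∣ ∑ i ∈ X1, d i := Finset.dvd_sum (fun i hi => hall i (Or.inl hi))
  have hs2 : 4 ∣ ∑ i ∈ X2, d i := Finset.dvd_sum (fun i hi => hall i (Or.inr hi))
  obtain ⟨a, ha⟩ := hs1
  obtain ⟨b, hb⟩ := hs2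
  rw [ha, hb] at hrel
  push_cast at hrel
  omega

end Cfsg.Agent.Helper31
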