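import Mathlib
import Cfsg.Agent.Helper87.R2Defs
import Cfsg.Agent.Helper87.OddFix
import Cfsg.Agent.Helper29.UniqueOrderP

/-!
# PIECE A2a of CALL S5289 (helper87): the subgroup `W`

In the context `R2Ctx p G A t` without an `A`-invariant `E_{p^2}`, with `B` a maximal `A`-invariant abelian
subgroup (`MaxAb`), there is an `A`-invariant nonabelian subgroup `W` of exponent `p` centralizing `B`
with `[W, G] ≤ Z₀`.
-/

set_option autoImplicit false

namespace Cfsg.Agent.Helper31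

open scoped commutatorElement
open Cfsg.Agent.Helper87

theorem r2a_comm_mul_left {G : Type*} [Group G] (x y e : G) :
    ⁅x * y, e⁆ = x * ⁅y, e⁆ * x⁻¹ * ⁅x, e⁆ := by
  simp only [commutatorElement_def]; group

theorem r2a_comm_inv_left {G : Type*} [Group G] (x e : G) :
    ⁅x⁻¹, e⁆ = x⁻¹ * ⁅x, e⁆⁻¹ * x⁻¹⁻¹ := by
  simp only [commutatorElement_def]; group

theorem r2a_comm_pow_left {G : Type*} [Group G] (x y : G) (hc : Commute ⁅x, y⁆ x) (n : ℕ) :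
    ⁅x ^ n, y⁆ = ⁅x, y⁆ ^ n := by
  induction n with
  | zero => simp
  | succ n ih =>
    have h1 : ⁅x ^ (n + 1), y⁆ = x * ⁅x ^ n, y⁆ * x⁻¹ * ⁅x, y⁆ := by
      rw [pow_succ', r2a_comm_mul_left]
    rw [h1, ih, pow_succ]
    have h2 : x * ⁅x, y⁆ ^ n * x⁻¹ = ⁅x, y⁆ ^ n := by
      have h3 := (hc.pow_left n).eq
      rw [← h3]; group
    rw [h2]

/-- The subgroup `Q` of elements centralizing `B`, with `p`-th power in `B` and all commutators in `B`. -/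
theorem r2a_exists_Q {G : Type*} [Group G] (p : ℕ) (B : Subgroup G)
    (hBn : ∀ g : G, ∀ b ∈ B, g * b * g⁻¹ ∈ B) :
    ∃ Q : Subgroup G, ∀ q : G, q ∈ Q ↔
      ((∀ c ∈ B, q * c = c * q) ∧ q ^ p ∈ B ∧ ∀ e : G, ⁅q, e⁆ ∈ B) := by
  refine ⟨{ carrier := {q | (∀ c ∈ B, q * c = c * q) ∧ q ^ p ∈ B ∧ ∀ e : G, ⁅q, e⁆ ∈ B}
            one_mem' := ?_
            mul_mem' := ?_
            inv_mem' := ?_ }, fun q => Iff.rfl⟩
  · rintro q1 q2 ⟨h1c, h1p, h1e⟩ ⟨h2c, h2p, h2e⟩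
    refine ⟨fun c hc => by rw [mul_assoc, h2c c hc, ← mul_assoc, h1c c hc, mul_assoc], ?_, ?_⟩
    · have hcB : ⁅q2, q1⁆ ∈ B := h2e q1
      have hcx : Commute ⁅q2, q1⁆ q1 := (h1c _ hcB).symm
      have hcy : Commute ⁅q2, q1⁆ q2 := (h2c _ hcB).symm
      rw [mul_pow_class_two q1 q2 hcx hcy p]
      exact B.mul_mem (B.mul_mem h1p h2p) (B.pow_mem hcB _)
    · intro e
      rw [r2a_comm_mul_left]
      exact B.mul_mem (hBn q1 _ (h2e e)) (h1e e)
  · exact ⟨fun c _ => by simp, by simp, fun e => by simp⟩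
  · rintro q ⟨hc, hp, he⟩
    refine ⟨fun c hcB => ?_, ?_, ?_⟩
    · have h1 : Commute q c := hc c hcB
      exact h1.inv_left.eq
    · rw [inv_pow]; exact B.inv_mem hp
    · intro e
      rw [r2a_comm_inv_left]
      exact hBn q⁻¹ _ (B.inv_mem (he e))

/-- PIECE A2a of CALL S5289. -/
theorem r2ctx_preXS {p : ℕ} [Fact p.Prime] {G : Type*} [Group G] {A : Subgroup (MulAut G)} {t : MulAut G}
    (h : R2Ctx p G A t) (hp : 5 ≤ p) (hII : NoInvE2 p A) {B Z₀ : Subgroup G} (hB : MaxAb p G A B Z₀) :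
    ∃ W : Subgroup G, PreXS p G A B Z₀ W := by
  have hpp : p.Prime := Fact.out
  have hfin := h.fin
  have hp2 : p ≠ 2 := by omega
  have hnorm : ∀ X : Subgroup G, (∀ α ∈ A, ∀ x ∈ X, α x ∈ X) →
      ∀ g : G, ∀ x ∈ X, g * x * g⁻¹ ∈ X := by
    intro X hX g x hx
    have h1 := hX _ (h.inn g) x hx
    rwa [MulAut.conj_apply] at h1
  have hBn := hnorm B hB.inv
  obtain ⟨Q, hQ⟩ := r2a_exists_Q p B hBn
  -- Q is A-invariant
  have hQinv : ∀ α ∈ A, ∀ q ∈ Q, α q ∈ Q := by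
    intro α hα q hq
    obtain ⟨hc, hpw, he⟩ := (hQ q).1 hq
    rw [hQ]
    refine ⟨fun c hcB => ?_, ?_, fun e => ?_⟩
    · have hc' : α⁻¹ c ∈ B := hB.inv α⁻¹ (A.inv_mem hα) c hcB
      have h1 := hc _ hc'
      have h2 : α (q * α⁻¹ c) = α (α⁻¹ c * q) := by rw [h1]
      simpa [map_mul] using h2
    · rw [← map_pow]; exact hB.inv α hα _ hpw
    · have h1 : α ⁅q, α⁻¹ e⁆ = ⁅α q, e⁆ := by
        rw [map_commutatorElement]; simp
      rw [← h1]; exact hB.inv α hα _ (he _)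
  have hBQ : B ≤ Q := by
    intro b hb
    rw [hQ]
    refine ⟨fun c hc => hB.comm b hb c hc, B.pow_mem hb _, fun e => ?_⟩
    have h1 : ⁅b, e⁆ = b * (e * b⁻¹ * e⁻¹) := by
      rw [commutatorElement_def]; group
    rw [h1]; exact B.mul_mem hb (hBn e _ (B.inv_mem hb))
  -- commutators of Q lie in Z₀
  have hQcomm : ∀ q1 ∈ Q, ∀ q2 ∈ Q, ⁅q1, q2⁆ ∈ Z₀ := by
    intro q1 hq1 q2 hq2
    obtain ⟨h1c, h1p, h1e⟩ := (hQ q1).1 hq1
    obtain ⟨h2c, h2p, h2e⟩ := (hQ q2).1 hq2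
    have hcB : ⁅q1, q2⁆ ∈ B := h1e q2
    have hcx : Commute ⁅q1, q2⁆ q1 := (h1c _ hcB).symm
    have h3 := r2a_comm_pow_left q1 q2 hcx p
    have h4 : ⁅q1 ^ p, q2⁆ = 1 := by
      rw [commutatorElement_eq_one_iff_commute]
      exact (h2c _ h1p).symm
    rw [h4] at h3
    exact (hB.Z₀B _).2 ⟨hcB, h3.symm⟩
  -- Q ≠ B
  have hQneB : ∃ q ∈ Q, q ∉ B := by
    obtain ⟨g, hgB, hgc⟩ := hB.nsc
    have hnil : Group.IsNilpotent G := h.pG.isNilpotent
    obtain ⟨n, hn⟩ := Group.IsNilpotent.nilpotent (G := G)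
    have hex : ∃ i : ℕ, ∃ x : G, x ∈ Subgroup.upperCentralSeries G i ∧
        (∀ c ∈ B, x * c = c * x) ∧ x ∉ B :=
      ⟨n, g, by rw [hn]; exact Subgroup.mem_top g, hgc, hgB⟩
    classical
    obtain ⟨x, hxZ, hxc, hxB⟩ := Nat.find_spec hex
    have hmin := fun j (hj : j < Nat.find hex) => Nat.find_min hex hj
    have hi0 : Nat.find hex ≠ 0 := by
      intro h0
      rw [h0] at hxZ
      have hx1 : x = 1 := by simpa using hxZ
      exact hxB (hx1 ▸ B.one_mem)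
    obtain ⟨j, hj⟩ := Nat.exists_eq_succ_of_ne_zero hi0
    rw [hj, Subgroup.mem_upperCentralSeries_succ_iff] at hxZ
    have hxe : ∀ e : G, ⁅x, e⁆ ∈ B := by
      intro e
      by_contra hne
      refine hmin j (by omega) ⟨⁅x, e⁆, ?_, ?_, hne⟩
      · rw [commutatorElement_def]; exact hxZ e
      · intro c hc
        have hc' : e⁻¹ * c * e⁻¹⁻¹ ∈ B := hBn e⁻¹ c hc
        have h1 : Commute x c := hxc c hc
        have h2 : Commute x⁻¹ (e⁻¹ * c * e⁻¹⁻¹) := (show Commute x _ from hxc _ hc').inv_left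
        have h3 : Commute (e * x⁻¹ * e⁻¹) c := by
          have h4 : Commute (e * x⁻¹ * e⁻¹) (e * (e⁻¹ * c * e⁻¹⁻¹) * e⁻¹) :=
            (Commute.conj_iff e).2 h2
          have h5 : e * (e⁻¹ * c * e⁻¹⁻¹) * e⁻¹ = c := by group
          rwa [h5] at h4
        have h6 : ⁅x, e⁆ = x * (e * x⁻¹ * e⁻¹) := by
          rw [commutatorElement_def]; group
        rw [h6]
        exact (h1.mul_left h3).eq
    -- powers
    have hxpow : ∀ m : ℕ, (∀ c ∈ B, x ^ m * c = c * x ^ m) ∧ ∀ e : G, ⁅x ^ m, e⁆ ∈ B := by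
      intro m
      refine ⟨fun c hc => ((show Commute x c from hxc c hc).pow_left m).eq, ?_⟩
      induction m with
      | zero => intro e; simp
      | succ m ih =>
        intro e
        rw [pow_succ', r2a_comm_mul_left]
        exact B.mul_mem (hBn x _ (ih e)) (hxe e)
    have hex2 : ∃ k : ℕ, x ^ (p ^ k) ∈ B := by
      obtain ⟨k, hk⟩ := h.pG x
      exact ⟨k, hk ▸ B.one_mem⟩
    have hk0 : Nat.find hex2 ≠ 0 := by
      intro h0
      have h1 := Nat.find_spec hex2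
      rw [h0] at h1
      simp at h1
      exact hxB h1
    obtain ⟨k, hk⟩ := Nat.exists_eq_succ_of_ne_zero hk0
    have hk1 : x ^ (p ^ k) ∉ B := Nat.find_min hex2 (by omega)
    have hk2 : x ^ (p ^ (k + 1)) ∈ B := by
      have h1 := Nat.find_spec hex2
      rwa [hk] at h1
    refine ⟨x ^ (p ^ k), ?_, hk1⟩
    rw [hQ]
    refine ⟨(hxpow _).1, ?_, (hxpow _).2⟩
    rw [← pow_mul, ← pow_succ]; exact hk2
  -- W
  obtain ⟨W, hW⟩ : ∃ W : Subgroup G, ∀ w : G, w ∈ W ↔ (w ∈ Q ∧ w ^ p = 1) := by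
    refine ⟨{ carrier := {w | w ∈ Q ∧ w ^ p = 1}
              one_mem' := ⟨Q.one_mem, one_pow _⟩
              mul_mem' := ?_
              inv_mem' := ?_ }, fun w => Iff.rfl⟩
    · rintro w1 w2 ⟨h1Q, h1p⟩ ⟨h2Q, h2p⟩
      refine ⟨Q.mul_mem h1Q h2Q, ?_⟩
      have hcZ : ⁅w2, w1⁆ ∈ Z₀ := hQcomm w2 h2Q w1 h1Q
      obtain ⟨hcB, hcp⟩ := (hB.Z₀B _).1 hcZ
      have hcx : Commute ⁅w2, w1⁆ w1 := (((hQ w1).1 h1Q).1 _ hcB).symm
      have hcy : Commute ⁅w2, w1⁆ w2 := (((hQ w2).1 h2Q).1 _ hcB).symm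
      rw [mul_pow_class_two w1 w2 hcx hcy p, h1p, h2p, one_mul, one_mul]
      obtain ⟨m, hm⟩ := hpp.dvd_choose_self (k := 2) (by norm_num) (by omega)
      rw [hm, pow_mul, hcp, one_pow]
    · rintro w ⟨hwQ, hwp⟩
      exact ⟨Q.inv_mem hwQ, by rw [inv_pow, hwp, inv_one]⟩
  have hWinv : ∀ α ∈ A, ∀ w ∈ W, α w ∈ W := by
    intro α hα w hw
    obtain ⟨hwQ, hwp⟩ := (hW w).1 hw
    rw [hW]
    exact ⟨hQinv α hα w hwQ, by rw [← map_pow, hwp, map_one]⟩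
  have hWn := hnorm W hWinv
  have hZ₀W : Z₀ ≤ W := by
    intro z hz
    obtain ⟨hzB, hzp⟩ := (hB.Z₀B z).1 hz
    rw [hW]
    exact ⟨hBQ hzB, hzp⟩
  have hWcomm : ∀ w ∈ W, ∀ g : G, ⁅w, g⁆ ∈ Z₀ := by
    intro w hw g
    obtain ⟨hwQ, hwp⟩ := (hW w).1 hw
    have h1 : ⁅w, g⁆ ∈ B := ((hQ w).1 hwQ).2.2 g
    have h2 : ⁅w, g⁆ ∈ W := by
      have h3 : ⁅w, g⁆ = w * (g * w⁻¹ * g⁻¹) := by
        rw [commutatorElement_def]; group
      rw [h3]; exact W.mul_mem hw (hWn g _ (W.inv_mem hw))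
    exact (hB.Z₀B _).2 ⟨h1, ((hW _).1 h2).2⟩
  refine ⟨W, hWinv, fun w hw => ((hW w).1 hw).2, hZ₀W, hWcomm, ?_,
    fun w hw c hc => ((hQ w).1 ((hW w).1 hw).1).1 c hc⟩
  -- W is not abelian
  by_contra hab
  have hWab : ∀ a ∈ W, ∀ b ∈ W, a * b = b * a := by
    intro a ha b hb
    by_contra hne
    refine hab ⟨a, ha, b, hb, ?_⟩
    rw [Ne, commutatorElement_eq_one_iff_commute]
    exact hne
  have hWexp : ∀ w ∈ W, w ^ p = 1 := fun w hw => ((hW w).1 hw).2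
  have hWcard : Nat.card W ≤ p ^ 2 := h.rank W hWab hWexp
  obtain ⟨m, hm⟩ := IsPGroup.iff_card.mp (h.pG.to_subgroup W)
  have hm2 : m ≤ 2 := by
    rw [hm] at hWcard
    exact (Nat.pow_le_pow_iff_right hpp.one_lt).mp hWcard
  have hm2' : m ≠ 2 := by
    intro h2
    exact hII ⟨W, hWinv, hWab, hWexp, by rw [hm, h2]⟩
  have hWZ : Z₀ = W := by
    refine Subgroup.eq_of_le_of_card_ge hZ₀W ?_
    rw [hm, hB.Z₀card]
    calc p ^ m ≤ p ^ 1 := Nat.pow_le_pow_right hpp.pos (by omega)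
      _ = p := pow_one p
  -- every element of order dividing p of Q lies in Z₀, so Q is cyclic
  obtain ⟨k, hk⟩ := IsPGroup.iff_card.mp (h.pG.to_subgroup Q)
  have hcyc : IsCyclic Q := by
    refine Cfsg.Agent.Helper29.isCyclic_of_unique_subgroup_odd hp2 k hk ?_
    have key : ∀ H : Subgroup Q, Nat.card H = p → H.map Q.subtype = Z₀ := by
      intro H hH
      have hle : H.map Q.subtype ≤ Z₀ := by
        rintro _ ⟨x, hx, rfl⟩
        rw [hWZ, hW]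
        refine ⟨x.2, ?_⟩
        have h1 : (⟨x, hx⟩ : H) ^ Nat.card H = 1 := pow_card_eq_one'
        rw [hH] at h1
        have h2 : x ^ p = 1 := by
          have h3 := congrArg (Subtype.val) h1
          simpa using h3
        have h4 := congrArg (Subtype.val) h2
        simpa using h4
      refine Subgroup.eq_of_le_of_card_ge hle ?_
      rw [hB.Z₀card, Subgroup.card_map_of_injective Q.subtype_injective, hH]
    intro H K hH hK
    apply Subgroup.map_injective Q.subtype_injective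
    rw [key H hH, key K hK]
  have hQab : ∀ a ∈ Q, ∀ b ∈ Q, a * b = b * a := by
    intro a ha b hb
    obtain ⟨g, hg⟩ := IsCyclic.exists_generator (α := Q)
    obtain ⟨i, hi⟩ := Subgroup.mem_zpowers_iff.mp (hg ⟨a, ha⟩)
    obtain ⟨j, hj⟩ := Subgroup.mem_zpowers_iff.mp (hg ⟨b, hb⟩)
    have h1 : (⟨a, ha⟩ : Q) * ⟨b, hb⟩ = ⟨b, hb⟩ * ⟨a, ha⟩ := by
      rw [← hi, ← hj, ← zpow_add, ← zpow_add, add_comm]
    have h2 := congrArg (Subtype.val) h1
    simpa using h2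
  have hQB : Q = B := hB.max Q hQinv hQab hBQ
  obtain ⟨q, hqQ, hqB⟩ := hQneB
  exact hqB (hQB ▸ hqQ)

end Cfsg.Agent.Helper31
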