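import Mathlib
import Cfsg.Agent.Helper87.R2Defs
import Cfsg.Agent.Helper87.OddFix
import Cfsg.Agent.Helper29.UniqueOrderP
import Cfsg.Agent.Helper46.R2WC
import Cfsg.Agent.Helper31.R2A2a

/-!
# PIECE A2b of CALL S5289 (helper87): `G = W B` with `B` central
-/

set_option autoImplicit false

namespace Cfsg.Agent.Helper31

open scoped commutatorElement
open Cfsg.Agent.Helper87

theorem r2b_comm_mul_right_of_commute {G : Type*} [Group G] (x y c : G) (hc : Commute c x) :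
    ⁅x, y * c⁆ = ⁅x, y⁆ := by
  have h1 : c * x⁻¹ = x⁻¹ * c := hc.inv_right.eq
  calc ⁅x, y * c⁆ = x * y * (c * x⁻¹) * c⁻¹ * y⁻¹ := by
        rw [commutatorElement_def]; group
    _ = x * y * (x⁻¹ * c) * c⁻¹ * y⁻¹ := by rw [h1]
    _ = ⁅x, y⁆ := by rw [commutatorElement_def]; group

theorem r2b_comm_mul_left_of_commute {G : Type*} [Group G] (x y c : G) (hc : Commute c y) :
    ⁅x * c, y⁆ = ⁅x, y⁆ := by
  have h1 : c * y = y * c := hc.eq
  calc ⁅x * c, y⁆ = x * (c * y) * c⁻¹ * x⁻¹ * y⁻¹ := by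
        rw [commutatorElement_def]; group
    _ = x * (y * c) * c⁻¹ * x⁻¹ * y⁻¹ := by rw [h1]
    _ = ⁅x, y⁆ := by rw [commutatorElement_def]; group

theorem r2b_comm_pow_right {G : Type*} [Group G] (x y : G) (hc : Commute ⁅x, y⁆ y) (n : ℕ) :
    ⁅x, y ^ n⁆ = ⁅x, y⁆ ^ n := by
  have h1 : Commute ⁅y, x⁆ y := by
    rw [← commutatorElement_inv]; exact hc.inv_left
  have h2 := r2a_comm_pow_left y x h1 n
  rw [← commutatorElement_inv (y ^ n) x, h2, ← commutatorElement_inv x y, inv_pow, inv_inv]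

theorem r2b_commute_of_comm_eq {G : Type*} [Group G] (a g w : G) (h : ⁅a, g⁆ = ⁅a, w⁆) :
    Commute (w⁻¹ * g) a := by
  have h1 : g * a⁻¹ * g⁻¹ = w * a⁻¹ * w⁻¹ := by
    have h0 := congrArg (fun t => a⁻¹ * t) h
    simp only [commutatorElement_def] at h0
    simpa [mul_assoc] using h0
  have h2 : Commute (w⁻¹ * g) a⁻¹ := by
    show w⁻¹ * g * a⁻¹ = a⁻¹ * (w⁻¹ * g)
    calc w⁻¹ * g * a⁻¹ = w⁻¹ * (g * a⁻¹ * g⁻¹) * g := by group
      _ = w⁻¹ * (w * a⁻¹ * w⁻¹) * g := by rw [h1]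
      _ = a⁻¹ * (w⁻¹ * g) := by group
  exact Commute.inv_right_iff.mp h2

/-- A finite `p`-group (`p` odd) all of whose elements of order dividing `p` lie in a subgroup of order
`p` is abelian (in fact cyclic); stated for a subgroup `D`. -/
theorem r2b_abelian_of_order_p_le {p : ℕ} [Fact p.Prime] (hp2 : p ≠ 2) {G : Type*} [Group G] [Finite G]
    (hG : IsPGroup p G) (D Z₀ : Subgroup G) (hZ₀card : Nat.card Z₀ = p)
    (hD : ∀ u ∈ D, u ^ p = 1 → u ∈ Z₀) : ∀ a ∈ D, ∀ b ∈ D, a * b = b * a := by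
  obtain ⟨k, hk⟩ := IsPGroup.iff_card.mp (hG.to_subgroup D)
  have hcyc : IsCyclic D := by
    refine Cfsg.Agent.Helper29.isCyclic_of_unique_subgroup_odd hp2 k hk ?_
    have key : ∀ H : Subgroup D, Nat.card H = p → H.map D.subtype = Z₀ := by
      intro H hH
      have hle : H.map D.subtype ≤ Z₀ := by
        rintro _ ⟨x, hx, rfl⟩
        refine hD _ x.2 ?_
        have h1 : (⟨x, hx⟩ : H) ^ Nat.card H = 1 := pow_card_eq_one'
        rw [hH] at h1
        have h2 : x ^ p = 1 := by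
          have h3 := congrArg (Subtype.val) h1
          simpa using h3
        have h4 := congrArg (Subtype.val) h2
        simpa using h4
      refine Subgroup.eq_of_le_of_card_ge hle ?_
      rw [hZ₀card, Subgroup.card_map_of_injective D.subtype_injective, hH]
    intro H K hH hK
    apply Subgroup.map_injective D.subtype_injective
    rw [key H hH, key K hK]
  intro a ha b hb
  obtain ⟨g, hg⟩ := IsCyclic.exists_generator (α := D)
  obtain ⟨i, hi⟩ := Subgroup.mem_zpowers_iff.mp (hg ⟨a, ha⟩)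
  obtain ⟨j, hj⟩ := Subgroup.mem_zpowers_iff.mp (hg ⟨b, hb⟩)
  have h1 : (⟨a, ha⟩ : D) * ⟨b, hb⟩ = ⟨b, hb⟩ * ⟨a, ha⟩ := by
    rw [← hi, ← hj, ← zpow_add, ← zpow_add, add_comm]
  have h2 := congrArg (Subtype.val) h1
  simpa using h2

/-- The subgroup `W ⟨u⟩` for `u` of order dividing `p` centralizing `W`. -/
theorem r2b_exists_W2 {G : Type*} [Group G] (p : ℕ) (hp : 0 < p) (W : Subgroup G) (u : G)
    (hup : u ^ p = 1) (huW : ∀ w ∈ W, Commute w u) :
    ∃ W₂ : Subgroup G, ∀ x : G, x ∈ W₂ ↔ ∃ w ∈ W, ∃ k : ℕ, x = w * u ^ k := by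
  refine ⟨{ carrier := {x | ∃ w ∈ W, ∃ k : ℕ, x = w * u ^ k}
            one_mem' := ⟨1, W.one_mem, 0, by simp⟩
            mul_mem' := ?_
            inv_mem' := ?_ }, fun x => Iff.rfl⟩
  · rintro _ _ ⟨w, hw, k, rfl⟩ ⟨w', hw', k', rfl⟩
    refine ⟨w * w', W.mul_mem hw hw', k + k', ?_⟩
    have h1 : u ^ k * w' = w' * u ^ k := ((huW w' hw').pow_right k).eq.symm
    calc w * u ^ k * (w' * u ^ k') = w * (u ^ k * w') * u ^ k' := by simp only [mul_assoc]
      _ = w * (w' * u ^ k) * u ^ k' := by rw [h1]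
      _ = w * w' * u ^ (k + k') := by rw [pow_add]; simp only [mul_assoc]
  · rintro _ ⟨w, hw, k, rfl⟩
    refine ⟨w⁻¹, W.inv_mem hw, (p - 1) * k, ?_⟩
    have h1 : u ^ k * u ^ ((p - 1) * k) = 1 := by
      rw [← pow_add]
      have h2 : k + (p - 1) * k = p * k := by
        obtain ⟨m, rfl⟩ : ∃ m, p = m + 1 := ⟨p - 1, by omega⟩
        simp only [Nat.add_sub_cancel]; ring
      rw [h2, pow_mul, hup, one_pow]
    have h3 : (u ^ k)⁻¹ = u ^ ((p - 1) * k) := inv_eq_of_mul_eq_one_right h1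
    have h4 : (u ^ k)⁻¹ * w⁻¹ = w⁻¹ * (u ^ k)⁻¹ := (((huW w hw).pow_right k).inv_left.inv_right).eq.symm
    rw [mul_inv_rev, h4, h3]

/-- PIECE A2b of CALL S5289. -/
theorem r2ctx_xs {p : ℕ} [Fact p.Prime] {G : Type*} [Group G] {A : Subgroup (MulAut G)} {t : MulAut G}
    (h : R2Ctx p G A t) (hp : 5 ≤ p) (hII : NoInvE2 p A) {B Z₀ W : Subgroup G} (hB : MaxAb p G A B Z₀)
    (hW : PreXS p G A B Z₀ W) : XS p G A B Z₀ W := by
  have hpp : p.Prime := Fact.out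
  have hfin := h.fin
  have hp2 : p ≠ 2 := by omega
  obtain ⟨a, ha, b, hb, hab⟩ := hW.Wnc
  have hzZ : ⁅a, b⁆ ∈ Z₀ := hW.Wcomm a ha b
  have hZ₀B : ∀ c ∈ Z₀, c ∈ B := fun c hc => ((hB.Z₀B c).1 hc).1
  have hZ₀p : ∀ c ∈ Z₀, c ^ p = 1 := fun c hc => ((hB.Z₀B c).1 hc).2
  have hZ₀W : ∀ c ∈ Z₀, ∀ w ∈ W, Commute c w := fun c hc w hw => (hW.WB w hw c (hZ₀B c hc)).symm
  have hza : Commute ⁅a, b⁆ a := hZ₀W _ hzZ a ha
  have hzb : Commute ⁅a, b⁆ b := hZ₀W _ hzZ b hb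
  have hzord : orderOf ⁅a, b⁆ = p := orderOf_eq_prime (hZ₀p _ hzZ) hab
  have hZ₀gen : ∀ c ∈ Z₀, ∃ k : ℕ, c = ⁅a, b⁆ ^ k := by
    intro c hc
    have h1 : Subgroup.zpowers ⁅a, b⁆ = Z₀ := by
      refine Subgroup.eq_of_le_of_card_ge (Subgroup.zpowers_le.mpr hzZ) ?_
      rw [Nat.card_zpowers, hzord, hB.Z₀card]
    have h2 : c ∈ Subgroup.zpowers ⁅a, b⁆ := h1 ▸ hc
    have h3 : c ∈ Submonoid.powers ⁅a, b⁆ := mem_powers_iff_mem_zpowers.mpr h2
    obtain ⟨k, hk⟩ := (Submonoid.mem_powers_iff _ _).mp h3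
    exact ⟨k, hk.symm⟩
  have hpow_one : ∀ k : ℕ, ⁅a, b⁆ ^ k = 1 → p ∣ k := fun k hk =>
    hzord ▸ orderOf_dvd_of_pow_eq_one hk
  have hap : a ^ p = 1 := hW.Wexp a ha
  have hbp : b ^ p = 1 := hW.Wexp b hb
  have hba : ⁅b, a⁆ = ⁅a, b⁆⁻¹ := (commutatorElement_inv a b).symm
  -- coordinates in W
  have hcoord := Cfsg.Agent.Helper46.r2_w_coord h.rank Z₀ W hB.Z₀card hW.Z₀W hW.Wexp
    (fun w hw w' _ => hW.Wcomm w hw w') (fun c hc w hw => (hZ₀W c hc w hw).eq) a b ha hb hab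
  -- decomposition g = w * d with d centralizing W
  have hdec : ∀ g : G, ∃ w ∈ W, ∀ x ∈ W, Commute (w⁻¹ * g) x := by
    intro g
    obtain ⟨i, hi⟩ := hZ₀gen _ (hW.Wcomm a ha g)
    have h1 : ⁅a, g⁆ = ⁅a, b ^ i⁆ := by
      rw [hi, r2b_comm_pow_right a b hzb i]
    have hc1 : Commute ((b ^ i)⁻¹ * g) a := r2b_commute_of_comm_eq a g (b ^ i) h1
    obtain ⟨j, hj⟩ := hZ₀gen _ (hW.Wcomm b hb ((b ^ i)⁻¹ * g))
    have h2 : ⁅b, (b ^ i)⁻¹ * g⁆ = ⁅b, a ^ ((p - 1) * j)⁆ := by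
      rw [hj, r2b_comm_pow_right b a (by rw [hba]; exact hza.inv_left) ((p - 1) * j), hba, inv_pow,
        eq_inv_iff_mul_eq_one, ← pow_add]
      have h3 : j + (p - 1) * j = p * j := by
        obtain ⟨m, rfl⟩ : ∃ m, p = m + 1 := ⟨p - 1, by omega⟩
        simp only [Nat.add_sub_cancel]; ring
      rw [h3, pow_mul, hZ₀p _ hzZ, one_pow]
    have hc2 : Commute ((a ^ ((p - 1) * j))⁻¹ * ((b ^ i)⁻¹ * g)) b :=
      r2b_commute_of_comm_eq b _ _ h2
    have hc3 : Commute ((a ^ ((p - 1) * j))⁻¹ * ((b ^ i)⁻¹ * g)) a :=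
      (((Commute.refl a).pow_left _).inv_left).mul_left hc1
    refine ⟨b ^ i * a ^ ((p - 1) * j), W.mul_mem (W.pow_mem hb _) (W.pow_mem ha _), ?_⟩
    have hd : (b ^ i * a ^ ((p - 1) * j))⁻¹ * g = (a ^ ((p - 1) * j))⁻¹ * ((b ^ i)⁻¹ * g) := by
      group
    rw [hd]
    intro x hx
    obtain ⟨i', j', c, hc, rfl⟩ := hcoord x hx
    have hdz : Commute ((a ^ ((p - 1) * j))⁻¹ * ((b ^ i)⁻¹ * g)) ⁅a, b⁆ := by
      rw [commutatorElement_def]
      exact ((hc3.mul_right hc2).mul_right hc3.inv_right).mul_right hc2.inv_right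
    obtain ⟨k, rfl⟩ := hZ₀gen c hc
    exact ((hc3.pow_right i').mul_right (hc2.pow_right j')).mul_right (hdz.pow_right k)
  -- D = C_G(W)
  have hDinv : ∀ α ∈ A, ∀ d ∈ Subgroup.centralizer (W : Set G),
      α d ∈ Subgroup.centralizer (W : Set G) := by
    intro α hα d hd
    rw [Subgroup.mem_centralizer_iff] at hd ⊢
    intro w hw
    have hw' : α⁻¹ w ∈ W := hW.Winv α⁻¹ (A.inv_mem hα) w hw
    have h1 := hd _ hw'
    have h2 : α (α⁻¹ w * d) = α (d * α⁻¹ w) := by rw [h1]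
    simpa [map_mul] using h2
  have hBD : B ≤ Subgroup.centralizer (W : Set G) := by
    intro c hc
    rw [Subgroup.mem_centralizer_iff]
    intro w hw
    exact hW.WB w hw c hc
  have hDp : ∀ u ∈ Subgroup.centralizer (W : Set G), u ^ p = 1 → u ∈ Z₀ := by
    intro u hu hup
    rw [Subgroup.mem_centralizer_iff] at hu
    have huW : ∀ w ∈ W, Commute w u := fun w hw => hu w hw
    obtain ⟨W₂, hW₂⟩ := r2b_exists_W2 p hpp.pos W u hup huW
    have hWW₂ : W ≤ W₂ := fun w hw => (hW₂ w).2 ⟨w, hw, 0, by simp⟩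
    have hcoord2 := Cfsg.Agent.Helper46.r2_w_coord h.rank Z₀ W₂ hB.Z₀card
      (le_trans hW.Z₀W hWW₂)
      (by
        intro x hx
        obtain ⟨w, hw, k, rfl⟩ := (hW₂ x).1 hx
        rw [((huW w hw).pow_right k).mul_pow, hW.Wexp w hw, ← pow_mul, mul_comm, pow_mul, hup,
          one_pow, one_mul])
      (by
        intro x hx y hy
        obtain ⟨w, hw, k, rfl⟩ := (hW₂ x).1 hx
        obtain ⟨w', hw', k', rfl⟩ := (hW₂ y).1 hy
        have e1 : ⁅w * u ^ k, w' * u ^ k'⁆ = ⁅w, w' * u ^ k'⁆ :=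
          r2b_comm_mul_left_of_commute w (w' * u ^ k') (u ^ k)
            ((((huW w' hw').pow_right k).symm).mul_right
              (((Commute.refl u).pow_right k').pow_left k))
        have e2 : ⁅w, w' * u ^ k'⁆ = ⁅w, w'⁆ :=
          r2b_comm_mul_right_of_commute w w' (u ^ k') ((huW w hw).pow_right k').symm
        rw [e1, e2]
        exact hW.Wcomm w hw w')
      (by
        intro c hc x hx
        obtain ⟨w, hw, k, rfl⟩ := (hW₂ x).1 hx
        exact ((hZ₀W c hc w hw).mul_right ((huW c (hW.Z₀W hc)).pow_right k)).eq)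
      a b (hWW₂ ha) (hWW₂ hb) hab
    obtain ⟨i, j, c, hc, hu_eq⟩ := hcoord2 u ((hW₂ u).2 ⟨1, W.one_mem, 1, by simp⟩)
    have hcb : Commute c b := hZ₀W c hc b hb
    have hca : Commute c a := hZ₀W c hc a ha
    -- a ^ i commutes with b
    have h1 : Commute (a ^ i) b := by
      have h2 : Commute (u * (b ^ j * c)⁻¹) b :=
        (huW b hb).symm.mul_left ((((Commute.refl b).pow_left j).mul_left hcb).inv_left)
      have h3 : u * (b ^ j * c)⁻¹ = a ^ i := by rw [hu_eq]; group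
      rwa [h3] at h2
    have h4 : ⁅a, b⁆ ^ i = 1 := by
      rw [← r2a_comm_pow_left a b hza i, commutatorElement_eq_one_iff_commute]
      exact h1
    obtain ⟨m, hm⟩ := hpow_one i h4
    have hai : a ^ i = 1 := by rw [hm, pow_mul, hap, one_pow]
    rw [hai, one_mul] at hu_eq
    -- b ^ j commutes with a
    have h5 : Commute (b ^ j) a := by
      have h6 : Commute (u * c⁻¹) a := (huW a ha).symm.mul_left hca.inv_left
      have h7 : u * c⁻¹ = b ^ j := by rw [hu_eq]; group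
      rwa [h7] at h6
    have h8 : ⁅a, b⁆ ^ j = 1 := by
      have h9 : ⁅b, a⁆ ^ j = 1 := by
        rw [← r2a_comm_pow_left b a (by rw [hba]; exact hzb.inv_left) j,
          commutatorElement_eq_one_iff_commute]
        exact h5
      rw [hba, inv_pow, inv_eq_one] at h9
      exact h9
    obtain ⟨m', hm'⟩ := hpow_one j h8
    have hbj : b ^ j = 1 := by rw [hm', pow_mul, hbp, one_pow]
    rw [hbj, one_mul] at hu_eq
    rw [hu_eq]; exact hc
  have hDab := r2b_abelian_of_order_p_le hp2 h.pG (Subgroup.centralizer (W : Set G)) Z₀ hB.Z₀card hDp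
  have hDB : Subgroup.centralizer (W : Set G) = B := hB.max _ hDinv hDab hBD
  have hdec' : ∀ g : G, ∃ w ∈ W, ∃ c ∈ B, g = w * c := by
    intro g
    obtain ⟨w, hw, hd⟩ := hdec g
    refine ⟨w, hw, w⁻¹ * g, ?_, by group⟩
    rw [← hDB, Subgroup.mem_centralizer_iff]
    intro x hx
    exact (hd x hx).eq.symm
  refine ⟨hB.inv, ?_, hB.cyc, hB.Z₀B, hB.Z₀card, hW.Winv, hW.Wexp, hW.Z₀W, hW.Wcomm, hW.Wnc, hdec'⟩
  intro c hc g
  obtain ⟨w, hw, d, hd, rfl⟩ := hdec' g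
  have h1 : Commute c w := (hW.WB w hw c hc).symm
  have h2 : Commute c d := hB.comm c hc d hd
  exact (h1.mul_right h2).eq

end Cfsg.Agent.Helper31
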