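import Mathlib
import Cfsg.Agent.Helper87.R2Defs
import Cfsg.Agent.Helper87.OddFix
import Cfsg.Agent.Helper46.R2WC
import Cfsg.Agent.Helper53.R2Psec
import Cfsg.Agent.Helper84.TorusWord
import Cfsg.Agent.Helper31.R2A2a
import Cfsg.Agent.Helper31.R2A2b

/-!
# PIECE B of CALL S5289 (helper87): the torus in Case II

`G = W B` with `W` extraspecial of order `p^3` and exponent `p`, `B` central cyclic (`XS`), in the context
`R2Ctx p G A t`.  We produce the normalized transvection `t₁ = t * conj w₁`, the coordinates `l, l'` and a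
torus element `η` with `η t₁ η⁻¹ = t₁^4` modulo inner automorphisms.
-/

set_option autoImplicit false

namespace Cfsg.Agent.Helper31

open scoped commutatorElement
open Cfsg.Agent.Helper87

/-! ### Congruence modulo a central subgroup -/

/-- `u = v * c` with `c ∈ Z`. -/
def ZCong {G : Type*} [Group G] (Z : Subgroup G) (u v : G) : Prop := ∃ c ∈ Z, u = v * c

section zcong

variable {G : Type*} [Group G] {Z : Subgroup G}

theorem zc_refl (u : G) : ZCong Z u u := ⟨1, Z.one_mem, by simp⟩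

theorem zc_symm {u v : G} (h : ZCong Z u v) : ZCong Z v u := by
  obtain ⟨c, hc, rfl⟩ := h
  exact ⟨c⁻¹, Z.inv_mem hc, by simp⟩

theorem zc_trans {u v w : G} (h1 : ZCong Z u v) (h2 : ZCong Z v w) : ZCong Z u w := by
  obtain ⟨c, hc, rfl⟩ := h1
  obtain ⟨c', hc', rfl⟩ := h2
  exact ⟨c' * c, Z.mul_mem hc' hc, by simp [mul_assoc]⟩

theorem zc_mk (u : G) {c : G} (hc : c ∈ Z) : ZCong Z (u * c) u := ⟨c, hc, rfl⟩

theorem zc_of_mem {u v : G} (hu : u ∈ Z) (hv : v ∈ Z) : ZCong Z u v :=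
  ⟨v⁻¹ * u, Z.mul_mem (Z.inv_mem hv) hu, by simp⟩

theorem zc_iff {u v : G} : ZCong Z u v ↔ v⁻¹ * u ∈ Z := by
  constructor
  · rintro ⟨c, hc, rfl⟩
    simpa using hc
  · intro h
    exact ⟨v⁻¹ * u, h, by simp⟩

theorem zc_mem {u v : G} (h : ZCong Z u v) (hv : v ∈ Z) : u ∈ Z := by
  obtain ⟨c, hc, rfl⟩ := h
  exact Z.mul_mem hv hc

theorem zc_mul (hZ : ∀ c ∈ Z, ∀ g : G, c * g = g * c) {u v u' v' : G} (h1 : ZCong Z u v)
    (h2 : ZCong Z u' v') : ZCong Z (u * u') (v * v') := by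
  obtain ⟨c, hc, rfl⟩ := h1
  obtain ⟨c', hc', rfl⟩ := h2
  refine ⟨c * c', Z.mul_mem hc hc', ?_⟩
  calc v * c * (v' * c') = v * (c * v') * c' := by simp only [mul_assoc]
    _ = v * (v' * c) * c' := by rw [hZ c hc v']
    _ = v * v' * (c * c') := by simp only [mul_assoc]

theorem zc_pow (hZ : ∀ c ∈ Z, ∀ g : G, c * g = g * c) {u v : G} (h : ZCong Z u v) (n : ℕ) :
    ZCong Z (u ^ n) (v ^ n) := by
  obtain ⟨c, hc, rfl⟩ := h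
  exact ⟨c ^ n, Z.pow_mem hc n, (show Commute v c from (hZ c hc v).symm).mul_pow n⟩

theorem zc_map (α : MulAut G) (hα : ∀ c ∈ Z, α c ∈ Z) {u v : G} (h : ZCong Z u v) :
    ZCong Z (α u) (α v) := by
  obtain ⟨c, hc, rfl⟩ := h
  exact ⟨α c, hα c hc, map_mul α v c⟩

theorem zc_comm_left (hZ : ∀ c ∈ Z, ∀ g : G, c * g = g * c) {u v : G} (h : ZCong Z u v) (g : G) :
    ⁅u, g⁆ = ⁅v, g⁆ := by
  obtain ⟨c, hc, rfl⟩ := h
  exact r2b_comm_mul_left_of_commute v g c (hZ c hc g)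

theorem zc_comm_right (hZ : ∀ c ∈ Z, ∀ g : G, c * g = g * c) {u v : G} (h : ZCong Z u v) (g : G) :
    ⁅g, u⁆ = ⁅g, v⁆ := by
  obtain ⟨c, hc, rfl⟩ := h
  exact r2b_comm_mul_right_of_commute g v c (hZ c hc g)

theorem zc_swap (hZ : ∀ c ∈ Z, ∀ g : G, c * g = g * c) {u v : G} (hcomm : ⁅u, v⁆ ∈ Z) :
    ZCong Z (u * v) (v * u) := by
  refine ⟨⁅u, v⁆, hcomm, ?_⟩
  rw [← hZ _ hcomm (v * u), commutatorElement_def]; group

theorem zc_mul_pow (hZ : ∀ c ∈ Z, ∀ g : G, c * g = g * c) {u v : G} (hcomm : ⁅v, u⁆ ∈ Z) (n : ℕ) :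
    ZCong Z ((u * v) ^ n) (u ^ n * v ^ n) :=
  ⟨⁅v, u⁆ ^ (n.choose 2), Z.pow_mem hcomm _,
    mul_pow_class_two u v (hZ _ hcomm u) (hZ _ hcomm v) n⟩

theorem zc_cancel_left {u v v' : G} (h : ZCong Z (u * v) (u * v')) : ZCong Z v v' := by
  obtain ⟨c, hc, hh⟩ := h
  refine ⟨c, hc, ?_⟩
  rw [mul_assoc] at hh
  exact mul_left_cancel hh

end zcong

/-! ### The extraspecial context -/

/-- `Z₀` central of order `p`, `W ≥ Z₀` of exponent `p` with `[W, G] ≤ Z₀`, in a group of rank two. -/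
structure ESCtx (p : ℕ) (G : Type*) [Group G] (Z₀ W : Subgroup G) : Prop where
  Zc : ∀ c ∈ Z₀, ∀ g : G, c * g = g * c
  Zp : ∀ c ∈ Z₀, c ^ p = 1
  Zcard : Nat.card Z₀ = p
  ZW : Z₀ ≤ W
  Wexp : ∀ w ∈ W, w ^ p = 1
  Wcomm : ∀ w ∈ W, ∀ g : G, ⁅w, g⁆ ∈ Z₀
  rank : ∀ H : Subgroup G, (∀ a ∈ H, ∀ b ∈ H, a * b = b * a) → (∀ a ∈ H, a ^ p = 1) →
    Nat.card H ≤ p ^ 2

section es

variable {p : ℕ} [Fact p.Prime] {G : Type*} [Group G] {Z₀ W : Subgroup G}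

theorem es_comm_right_mem (E : ESCtx p G Z₀ W) {w : G} (hw : w ∈ W) (g : G) : ⁅g, w⁆ ∈ Z₀ := by
  rw [← commutatorElement_inv]; exact Z₀.inv_mem (E.Wcomm w hw g)

theorem es_comm_mul_left (E : ESCtx p G Z₀ W) (u : G) {v g : G} (hv : ⁅v, g⁆ ∈ Z₀) :
    ⁅u * v, g⁆ = ⁅u, g⁆ * ⁅v, g⁆ := by
  rw [r2a_comm_mul_left, ← E.Zc _ hv u, mul_inv_cancel_right, E.Zc _ hv]

theorem es_comm_mul_right (E : ESCtx p G Z₀ W) (u g : G) {g' : G} (hu : ⁅u, g'⁆ ∈ Z₀) :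
    ⁅u, g * g'⁆ = ⁅u, g⁆ * ⁅u, g'⁆ := by
  have h1 : ⁅u, g * g'⁆ = ⁅u, g⁆ * (g * ⁅u, g'⁆ * g⁻¹) := by
    simp only [commutatorElement_def]; group
  rw [h1, ← E.Zc _ hu g, mul_inv_cancel_right]

theorem es_comm_pow_left (E : ESCtx p G Z₀ W) {x : G} (hx : x ∈ W) (g : G) (n : ℕ) :
    ⁅x ^ n, g⁆ = ⁅x, g⁆ ^ n :=
  r2a_comm_pow_left x g (E.Zc _ (E.Wcomm x hx g) x) n

theorem es_comm_pow_right (E : ESCtx p G Z₀ W) {x : G} (hx : x ∈ W) (g : G) (n : ℕ) :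
    ⁅g, x ^ n⁆ = ⁅g, x⁆ ^ n :=
  r2b_comm_pow_right g x (E.Zc _ (es_comm_right_mem E hx g) x) n

theorem es_comm_inv_left (E : ESCtx p G Z₀ W) {w : G} (hw : w ∈ W) (g : G) :
    ⁅w⁻¹, g⁆ = ⁅w, g⁆⁻¹ := by
  have h1 := es_comm_mul_left E w⁻¹ (E.Wcomm w hw g)
  rw [inv_mul_cancel, commutatorElement_one_left] at h1
  exact eq_inv_of_mul_eq_one_left h1.symm

theorem es_ord (E : ESCtx p G Z₀ W) {x y : G} (hx : x ∈ W) (hxy : ⁅x, y⁆ ≠ 1) :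
    orderOf ⁅x, y⁆ = p :=
  orderOf_eq_prime (E.Zp _ (E.Wcomm x hx y)) hxy

theorem es_dvd (E : ESCtx p G Z₀ W) {x y : G} (hx : x ∈ W) (hxy : ⁅x, y⁆ ≠ 1) {k : ℕ}
    (hk : ⁅x, y⁆ ^ k = 1) : p ∣ k :=
  es_ord E hx hxy ▸ orderOf_dvd_of_pow_eq_one hk

theorem es_gen (E : ESCtx p G Z₀ W) {x y : G} (hx : x ∈ W) (hxy : ⁅x, y⁆ ≠ 1) :
    ∀ c ∈ Z₀, ∃ k : ℕ, c = ⁅x, y⁆ ^ k := by
  intro c hc
  have h1 : Subgroup.zpowers ⁅x, y⁆ = Z₀ := by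
    have hfin : Finite Z₀ := Nat.finite_of_card_ne_zero (by
      rw [E.Zcard]; exact (Fact.out : p.Prime).ne_zero)
    refine Subgroup.eq_of_le_of_card_ge (Subgroup.zpowers_le.mpr (E.Wcomm x hx y)) ?_
    rw [Nat.card_zpowers, es_ord E hx hxy, E.Zcard]
  have h2 : c ∈ Subgroup.zpowers ⁅x, y⁆ := h1 ▸ hc
  have hfo : IsOfFinOrder ⁅x, y⁆ := by
    rw [← orderOf_pos_iff, es_ord E hx hxy]; exact (Fact.out : p.Prime).pos
  have h3 : c ∈ Submonoid.powers ⁅x, y⁆ := hfo.mem_powers_iff_mem_zpowers.mpr h2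
  obtain ⟨k, hk⟩ := (Submonoid.mem_powers_iff _ _).mp h3
  exact ⟨k, hk.symm⟩

theorem es_not_mem (E : ESCtx p G Z₀ W) {x y : G} (hxy : ⁅x, y⁆ ≠ 1) : x ∉ Z₀ := by
  intro hx
  apply hxy
  rw [commutatorElement_eq_one_iff_commute]
  exact E.Zc x hx y

theorem es_pow_eq_one (E : ESCtx p G Z₀ W) {x : G} (hx : x ∈ W) {k : ℕ} (hk : p ∣ k) : x ^ k = 1 := by
  obtain ⟨m, rfl⟩ := hk
  rw [pow_mul, E.Wexp x hx, one_pow]

theorem es_coord [Finite G] (E : ESCtx p G Z₀ W) {x y : G} (hx : x ∈ W) (hy : y ∈ W)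
    (hxy : ⁅x, y⁆ ≠ 1) : ∀ w ∈ W, ∃ i j : ℕ, ∃ c ∈ Z₀, w = x ^ i * y ^ j * c :=
  Cfsg.Agent.Helper46.r2_w_coord E.rank Z₀ W E.Zcard E.ZW E.Wexp (fun w hw w' _ => E.Wcomm w hw w')
    (fun c hc w _ => E.Zc c hc w) x y hx hy hxy

/-- The centralizer of `x` in `W` is `⟨x⟩ Z₀`. -/
theorem es_cent [Finite G] (E : ESCtx p G Z₀ W) {x y : G} (hx : x ∈ W) (hy : y ∈ W)
    (hxy : ⁅x, y⁆ ≠ 1) {w : G} (hw : w ∈ W) (hwx : Commute w x) :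
    ∃ i : ℕ, ∃ c ∈ Z₀, w = x ^ i * c := by
  obtain ⟨i, j, c, hc, rfl⟩ := es_coord E hx hy hxy w hw
  have h1 : ⁅x ^ i * y ^ j * c, x⁆ = 1 := (commutatorElement_eq_one_iff_commute).2 hwx
  rw [zc_comm_left E.Zc (zc_mk (x ^ i * y ^ j) hc) x,
    es_comm_mul_left E (x ^ i) (E.Wcomm _ (W.pow_mem hy j) x),
    (commutatorElement_eq_one_iff_commute).2 ((Commute.refl x).pow_left i), one_mul,
    es_comm_pow_left E hy x j, ← commutatorElement_inv x y, inv_pow, inv_eq_one] at h1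
  have h2 : y ^ j = 1 := es_pow_eq_one E hy (es_dvd E hx hxy h1)
  exact ⟨i, c, hc, by rw [h2, mul_one]⟩

/-- The centre of `W` is `Z₀`. -/
theorem es_center [Finite G] (E : ESCtx p G Z₀ W) {x y : G} (hx : x ∈ W) (hy : y ∈ W)
    (hxy : ⁅x, y⁆ ≠ 1) {w : G} (hw : w ∈ W) (hwc : ∀ v ∈ W, Commute w v) : w ∈ Z₀ := by
  obtain ⟨i, c, hc, rfl⟩ := es_cent E hx hy hxy hw (hwc x hx)
  have h1 : ⁅x ^ i * c, y⁆ = 1 := (commutatorElement_eq_one_iff_commute).2 (hwc y hy)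
  rw [zc_comm_left E.Zc (zc_mk (x ^ i) hc) y, es_comm_pow_left E hx y i] at h1
  rw [es_pow_eq_one E hx (es_dvd E hx hxy h1), one_mul]
  exact hc

end es

/-! ### Automorphisms -/

section aut

variable {G : Type*} [Group G]

theorem r2c_aut_pow_fix (β : MulAut G) (c : G) (h : β c = c) (k : ℕ) : (β ^ k) c = c := by
  induction k with
  | zero => simp
  | succ k ih => rw [pow_succ, MulAut.mul_apply, h, ih]

theorem r2c_aut_pow_apply (β : MulAut G) (x c : G) (hx : β x = x * c) (hc : β c = c) (k : ℕ) :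
    (β ^ k) x = x * c ^ k := by
  induction k with
  | zero => simp
  | succ k ih =>
    rw [pow_succ, MulAut.mul_apply, hx, map_mul, ih, r2c_aut_pow_fix β c hc, mul_assoc, ← pow_succ]

theorem r2c_aut_fix_of_coprime {p : ℕ} (β : MulAut G) {m : ℕ} (hm : m.Coprime p) (hβ : β ^ m = 1)
    {u c : G} (hu : β u = u * c) (hc : β c = c) (hcp : c ^ p = 1) : β u = u := by
  have h1 := r2c_aut_pow_apply β u c hu hc m
  rw [hβ, MulAut.one_apply] at h1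
  have h2 : c ^ m = 1 := by simpa using h1.symm
  have h3 : orderOf c ∣ Nat.gcd m p :=
    Nat.dvd_gcd (orderOf_dvd_of_pow_eq_one h2) (orderOf_dvd_of_pow_eq_one hcp)
  rw [hm.gcd_eq_one] at h3
  have h4 : c = 1 := orderOf_eq_one_iff.mp (Nat.dvd_one.mp h3)
  rw [hu, h4, mul_one]

theorem r2c_isPGroup_of_coprime_trivial [Finite G] (p : ℕ) [Fact p.Prime] (U : Subgroup (MulAut G))
    (hU : ∀ β ∈ U, ∀ m : ℕ, m.Coprime p → β ^ m = 1 → β = 1) : IsPGroup p U := by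
  have hpp : p.Prime := Fact.out
  rintro ⟨α, hα⟩
  have hfo : IsOfFinOrder α := isOfFinOrder_of_finite α
  have hN : orderOf α ≠ 0 := (orderOf_pos_iff.mpr hfo).ne'
  obtain ⟨a, m, hm, hNeq⟩ := Nat.exists_eq_pow_mul_and_not_dvd hN p hpp.ne_one
  refine ⟨a, ?_⟩
  have h1 : (α ^ (p ^ a)) ^ m = 1 := by rw [← pow_mul, ← hNeq, pow_orderOf_eq_one]
  have h2 := hU _ (U.pow_mem hα _) m ((Nat.Prime.coprime_iff_not_dvd hpp).2 hm).symm h1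
  exact Subtype.ext h2

theorem r2c_conj_conj (α : MulAut G) (g : G) : α * MulAut.conj g * α⁻¹ = MulAut.conj (α g) := by
  ext x
  simp [MulAut.conj_apply]

theorem r2c_eq_one_of_fix_W {p : ℕ} [Fact p.Prime] (hp2 : p ≠ 2) [Finite G] (hpG : IsPGroup p G)
    {B Z₀ W : Subgroup G} (hBc : ∀ c ∈ B, ∀ g : G, c * g = g * c)
    (hZ₀B : ∀ c : G, c ∈ Z₀ ↔ c ∈ B ∧ c ^ p = 1) (hZ₀W : Z₀ ≤ W) (hWexp : ∀ w ∈ W, w ^ p = 1)
    (hdec : ∀ g : G, ∃ w ∈ W, ∃ c ∈ B, g = w * c)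
    (β : MulAut G) {m : ℕ} (hm : m.Coprime p) (hβ : β ^ m = 1) (hfix : ∀ w ∈ W, β w = w) : β = 1 := by
  refine mulAut_eq_one_of_fix_order_p p hp2 hpG m hm β hβ ?_
  intro x hx
  obtain ⟨w, hw, c, hc, rfl⟩ := hdec x
  have h1 : (w * c) ^ p = w ^ p * c ^ p := (show Commute w c from (hBc c hc w).symm).mul_pow p
  rw [h1, hWexp w hw, one_mul] at hx
  exact hfix _ (W.mul_mem hw (hZ₀W ((hZ₀B c).2 ⟨hc, hx⟩)))

end aut

/-- Automorphisms in `A` acting trivially on `W / Z₀` are inner. -/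
theorem r2c_K_inner {p : ℕ} [Fact p.Prime] {G : Type*} [Group G] {A : Subgroup (MulAut G)} {t : MulAut G}
    (h : R2Ctx p G A t) (hp2 : p ≠ 2) {B Z₀ W : Subgroup G} (hX : XS p G A B Z₀ W)
    (E : ESCtx p G Z₀ W) (hAZ : ∀ α ∈ A, ∀ c ∈ Z₀, α c ∈ Z₀) :
    ∀ α ∈ A, (∀ w ∈ W, ZCong Z₀ (α w) w) → α ∈ (MulAut.conj : G →* MulAut G).range := by
  have hfin := h.fin
  obtain ⟨a, ha, b, hb, hab⟩ := hX.Wnc
  have hKZ : ∀ α : MulAut G, (∀ w ∈ W, ZCong Z₀ (α w) w) → ∀ c ∈ Z₀, α c = c := by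
    intro α hα c hc
    obtain ⟨k, rfl⟩ := es_gen E ha hab c hc
    rw [map_pow, map_commutatorElement, zc_comm_left E.Zc (hα a ha) (α b),
      zc_comm_right E.Zc (hα b hb) a]
  let K : Subgroup (MulAut G) :=
    { carrier := {α | α ∈ A ∧ ∀ w ∈ W, ZCong Z₀ (α w) w}
      one_mem' := ⟨A.one_mem, fun w _ => zc_refl w⟩
      mul_mem' := by
        rintro α β ⟨hαA, hα⟩ ⟨hβA, hβ⟩
        refine ⟨A.mul_mem hαA hβA, fun w hw => ?_⟩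
        rw [MulAut.mul_apply]
        exact zc_trans (zc_map α (hAZ α hαA) (hβ w hw)) (hα w hw)
      inv_mem' := by
        rintro α ⟨hαA, hα⟩
        refine ⟨A.inv_mem hαA, fun w hw => ?_⟩
        have h1 := zc_map α⁻¹ (hAZ α⁻¹ (A.inv_mem hαA)) (hα w hw)
        rw [MulAut.inv_apply_self] at h1
        exact zc_symm h1 }
  have hKA : K ≤ A := fun α hα => hα.1
  have hKp : IsPGroup p K := by
    apply r2c_isPGroup_of_coprime_trivial p K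
    rintro β ⟨hβA, hβ⟩ m hm hβm
    refine r2c_eq_one_of_fix_W hp2 h.pG hX.Bcent hX.Z₀B hX.Z₀W hX.Wexp hX.dec β hm hβm ?_
    intro w hw
    obtain ⟨c, hc, hwc⟩ := hβ w hw
    exact r2c_aut_fix_of_coprime β hm hβm hwc (hKZ β hβ c hc) (E.Zp c hc)
  have hKn : ∀ g ∈ A, ∀ k ∈ K, g * k * g⁻¹ ∈ K := by
    rintro g hg k ⟨hkA, hk⟩
    refine ⟨A.mul_mem (A.mul_mem hg hkA) (A.inv_mem hg), fun w hw => ?_⟩
    have hw' : g⁻¹ w ∈ W := hX.Winv g⁻¹ (A.inv_mem hg) w hw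
    have h1 := zc_map g (hAZ g hg) (hk _ hw')
    rw [MulAut.apply_inv_self] at h1
    exact h1
  have hKInn := h.rad K hKA hKp hKn
  intro α hαA hα
  exact hKInn ⟨hαA, hα⟩

/-! ### The transvection `t` -/

theorem r2c_t_pow {p : ℕ} [Fact p.Prime] {G : Type*} [Group G] {A : Subgroup (MulAut G)} {t : MulAut G}
    (h : R2Ctx p G A t) : ∃ n : ℕ, t ^ (p ^ n) = 1 := by
  obtain ⟨e₀, he₀⟩ := h.tpow
  obtain ⟨k, hk⟩ := h.pG e₀
  refine ⟨k + 1, ?_⟩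
  rw [pow_succ', pow_mul, he₀, ← map_pow, hk, map_one]

theorem r2c_fix_Z₀ {p : ℕ} [Fact p.Prime] {G : Type*} [Group G] {Z₀ W : Subgroup G}
    (E : ESCtx p G Z₀ W) (t : MulAut G) (n : ℕ) (ht : t ^ (p ^ n) = 1) (htZ : ∀ c ∈ Z₀, t c ∈ Z₀) :
    ∀ c ∈ Z₀, t c = c := by
  have hfin : Finite Z₀ := Nat.finite_of_card_ne_zero (by
    rw [E.Zcard]; exact (Fact.out : p.Prime).ne_zero)
  have h1 := Cfsg.Agent.Helper53.psec p Z₀ ⊥ bot_le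
    (fun x _ y hy => by
      rw [Subgroup.mem_bot] at hy ⊢
      rw [hy]; simp)
    (by rw [Subgroup.card_bot, mul_one]; exact E.Zcard) t n ht htZ
    (fun y hy => by
      rw [Subgroup.mem_bot] at hy ⊢
      rw [hy, map_one])
  intro c hc
  have h2 := h1 c hc
  rw [Subgroup.mem_bot] at h2
  exact mul_inv_eq_one.mp h2

theorem r2c_moves_in_cent {p : ℕ} [Fact p.Prime] {G : Type*} [Group G] {Z₀ W : Subgroup G}
    (E : ESCtx p G Z₀ W) (α : MulAut G) (hαW : ∀ w ∈ W, α w ∈ W) (hαZ : ∀ c ∈ Z₀, α c = c) {l₀ : G}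
    (hαl : ZCong Z₀ (α l₀) l₀) :
    ∀ w ∈ W, Commute (α w * w⁻¹) l₀ ∧ Commute (w⁻¹ * α w) l₀ := by
  intro w hw
  have key : ⁅α w, l₀⁆ = ⁅w, l₀⁆ := by
    rw [← zc_comm_right E.Zc hαl (α w), ← map_commutatorElement, hαZ _ (E.Wcomm w hw l₀)]
  constructor
  · rw [← commutatorElement_eq_one_iff_commute,
      es_comm_mul_left E (α w) (E.Wcomm _ (W.inv_mem hw) l₀), key, es_comm_inv_left E hw,
      mul_inv_cancel]
  · rw [← commutatorElement_eq_one_iff_commute,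
      es_comm_mul_left E w⁻¹ (E.Wcomm _ (hαW w hw) l₀), key, es_comm_inv_left E hw,
      inv_mul_cancel]

theorem r2c_exists_l₀ {p : ℕ} [Fact p.Prime] {G : Type*} [Group G] {A : Subgroup (MulAut G)}
    {t : MulAut G} (h : R2Ctx p G A t) {B Z₀ W : Subgroup G} (hX : XS p G A B Z₀ W)
    (E : ESCtx p G Z₀ W) : ∃ l₀ ∈ W, l₀ ∉ Z₀ ∧ ZCong Z₀ (t l₀) l₀ := by
  obtain ⟨a, ha, b, hb, hab⟩ := hX.Wnc
  have haZ : a ∉ Z₀ := es_not_mem E hab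
  have hfW : ∀ n : ℕ, (fun u => t u * u⁻¹)^[n] a ∈ W := by
    intro n
    induction n with
    | zero => exact ha
    | succ n ih =>
      rw [Function.iterate_succ_apply']
      exact W.mul_mem (hX.Winv t h.tA _ ih) (W.inv_mem ih)
  have hex : ∃ n : ℕ, (fun u => t u * u⁻¹)^[n] a ∈ Z₀ := by
    obtain ⟨n, hn⟩ := h.tnil a
    exact ⟨n, hn ▸ Z₀.one_mem⟩
  classical
  have hn0 : Nat.find hex ≠ 0 := by
    intro h0
    have h1 := Nat.find_spec hex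
    rw [h0] at h1
    exact haZ h1
  obtain ⟨m, hm⟩ := Nat.exists_eq_succ_of_ne_zero hn0
  have h1 : (fun u => t u * u⁻¹)^[m] a ∉ Z₀ := Nat.find_min hex (by omega)
  have h2 : (fun u => t u * u⁻¹)^[m + 1] a ∈ Z₀ := by
    have h3 := Nat.find_spec hex
    rwa [hm] at h3
  rw [Function.iterate_succ_apply'] at h2
  refine ⟨_, hfW m, h1, ⟨_, h2, ?_⟩⟩
  rw [← E.Zc _ h2]; group

theorem r2c_exists_g {p : ℕ} [Fact p.Prime] {G : Type*} [Group G] {A : Subgroup (MulAut G)}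
    {t : MulAut G} (h : R2Ctx p G A t) (hp2 : p ≠ 2) {B Z₀ W : Subgroup G} (hX : XS p G A B Z₀ W)
    (E : ESCtx p G Z₀ W) (hAZ : ∀ α ∈ A, ∀ c ∈ Z₀, α c ∈ Z₀) (htZ : ∀ c ∈ Z₀, t c = c) {l₀ : G}
    (hl₀ : l₀ ∈ W) (hl₀Z : l₀ ∉ Z₀) (hl₀t : ZCong Z₀ (t l₀) l₀) : ∃ g ∈ A, ⁅l₀, g l₀⁆ ≠ 1 := by
  have hfin := h.fin
  by_contra hcon
  have hall : ∀ g ∈ A, Commute (g l₀) l₀ := by
    intro g hg
    by_contra hne
    refine hcon ⟨g, hg, ?_⟩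
    rw [Ne, commutatorElement_eq_one_iff_commute]
    exact fun hc => hne hc.symm
  obtain ⟨a, ha, b, hb, hab⟩ := hX.Wnc
  obtain ⟨w', hw', hlw'⟩ : ∃ w' ∈ W, ⁅l₀, w'⁆ ≠ 1 := by
    by_contra hno
    apply hl₀Z
    refine es_center E ha hb hab hl₀ (fun v hv => ?_)
    by_contra hne
    refine hno ⟨v, hv, ?_⟩
    rw [Ne, commutatorElement_eq_one_iff_commute]
    exact hne
  let U : Subgroup (MulAut G) :=
    { carrier := {α | α ∈ A ∧ (∀ c ∈ Z₀, α c = c) ∧ ZCong Z₀ (α l₀) l₀}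
      one_mem' := ⟨A.one_mem, fun c _ => rfl, zc_refl l₀⟩
      mul_mem' := by
        rintro α β ⟨hαA, hαZ, hαl⟩ ⟨hβA, hβZ, hβl⟩
        refine ⟨A.mul_mem hαA hβA, fun c hc => ?_, ?_⟩
        · rw [MulAut.mul_apply, hβZ c hc, hαZ c hc]
        · rw [MulAut.mul_apply]
          exact zc_trans (zc_map α (hAZ α hαA) hβl) hαl
      inv_mem' := by
        rintro α ⟨hαA, hαZ, hαl⟩
        refine ⟨A.inv_mem hαA, fun c hc => ?_, ?_⟩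
        · calc α⁻¹ c = α⁻¹ (α c) := by rw [hαZ c hc]
            _ = c := MulAut.inv_apply_self _ _ _
        · have h1 := zc_map α⁻¹ (hAZ α⁻¹ (A.inv_mem hαA)) hαl
          rw [MulAut.inv_apply_self] at h1
          exact zc_symm h1 }
  have hUA : U ≤ A := fun α hα => hα.1
  have hUp : IsPGroup p U := by
    apply r2c_isPGroup_of_coprime_trivial p U
    rintro β ⟨hβA, hβZ, hβl⟩ m hm hβm
    have hβl₀ : β l₀ = l₀ := by
      obtain ⟨c, hc, hlc⟩ := hβl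
      exact r2c_aut_fix_of_coprime β hm hβm hlc (hβZ c hc) (E.Zp c hc)
    refine r2c_eq_one_of_fix_W hp2 h.pG hX.Bcent hX.Z₀B hX.Z₀W hX.Wexp hX.dec β hm hβm ?_
    intro w hw
    have hβw : β w ∈ W := hX.Winv β hβA w hw
    have hxW : w⁻¹ * β w ∈ W := W.mul_mem (W.inv_mem hw) hβw
    have hxc := (r2c_moves_in_cent E β (hX.Winv β hβA) hβZ ⟨1, Z₀.one_mem, by rw [hβl₀, mul_one]⟩
      w hw).2
    obtain ⟨i, c, hc, hx⟩ := es_cent E hl₀ hw' hlw' hxW hxc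
    have hβx : β (w⁻¹ * β w) = w⁻¹ * β w := by
      rw [hx, map_mul, map_pow, hβl₀, hβZ c hc]
    exact r2c_aut_fix_of_coprime β hm hβm (by group) hβx (hX.Wexp _ hxW)
  have hUn : ∀ g ∈ A, ∀ k ∈ U, g * k * g⁻¹ ∈ U := by
    rintro g hg α ⟨hαA, hαZ, hαl⟩
    refine ⟨A.mul_mem (A.mul_mem hg hαA) (A.inv_mem hg), fun c hc => ?_, ?_⟩
    · show g (α (g⁻¹ c)) = c
      rw [hαZ _ (hAZ g⁻¹ (A.inv_mem hg) c hc), MulAut.apply_inv_self]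
    · show ZCong Z₀ (g (α (g⁻¹ l₀))) l₀
      have hy : g⁻¹ l₀ ∈ W := hX.Winv g⁻¹ (A.inv_mem hg) l₀ hl₀
      obtain ⟨i, c, hc, hy_eq⟩ := es_cent E hl₀ hw' hlw' hy (hall g⁻¹ (A.inv_mem hg))
      have h1 : ZCong Z₀ (α (g⁻¹ l₀)) (g⁻¹ l₀) := by
        rw [hy_eq, map_mul, map_pow, hαZ c hc]
        exact zc_mul E.Zc (zc_pow E.Zc hαl i) (zc_refl c)
      have h2 := zc_map g (hAZ g hg) h1
      rwa [MulAut.apply_inv_self] at h2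
  exact h.tInn (h.rad U hUA hUp hUn ⟨h.tA, htZ, hl₀t⟩)

/-- PIECE B of CALL S5289. -/
theorem r2ctx_caseII_torus {p : ℕ} [Fact p.Prime] {G : Type*} [Group G] {A : Subgroup (MulAut G)}
    {t : MulAut G} (h : R2Ctx p G A t) (hp : 5 ≤ p) {B Z₀ W : Subgroup G} (hX : XS p G A B Z₀ W) :
    ∃ (w₁ l l' : G) (η : MulAut G) (e : G) (mu : ℕ),
      w₁ ∈ W ∧ l ∈ W ∧ l' ∈ W ∧ ⁅l, l'⁆ ≠ 1 ∧ η ∈ A ∧ (2 * mu) % p = 1 ∧
      (t * MulAut.conj w₁) l = l ∧ (t * MulAut.conj w₁) l' = l * l' ∧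
      (∀ c ∈ B, t c = c) ∧
      (η l)⁻¹ * l ^ 2 ∈ Z₀ ∧ (η l')⁻¹ * l' ^ mu ∈ Z₀ ∧
      (∀ c ∈ B, ∃ d ∈ B, η c = c * d ^ p) ∧
      η * (t * MulAut.conj w₁) * η⁻¹ = (t * MulAut.conj w₁) ^ 4 * MulAut.conj e := by
  have hpp : p.Prime := Fact.out
  have hfin := h.fin
  have hp2 : p ≠ 2 := by omega
  have hZ₀B : ∀ c ∈ Z₀, c ∈ B := fun c hc => ((hX.Z₀B c).1 hc).1
  have E : ESCtx p G Z₀ W := ⟨fun c hc g => hX.Bcent c (hZ₀B c hc) g, fun c hc => ((hX.Z₀B c).1 hc).2,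
    hX.Z₀card, hX.Z₀W, hX.Wexp, hX.Wcomm, h.rank⟩
  have hAZ : ∀ α ∈ A, ∀ c ∈ Z₀, α c ∈ Z₀ := by
    intro α hα c hc
    obtain ⟨hcB, hcp⟩ := (hX.Z₀B c).1 hc
    exact (hX.Z₀B _).2 ⟨hX.Binv α hα c hcB, by rw [← map_pow, hcp, map_one]⟩
  have hKinn := r2c_K_inner h hp2 hX E hAZ
  obtain ⟨n, htn⟩ := r2c_t_pow h
  have htZ : ∀ c ∈ Z₀, t c = c := r2c_fix_Z₀ E t n htn (hAZ t h.tA)
  obtain ⟨l₀, hl₀, hl₀Z, hl₀t⟩ := r2c_exists_l₀ h hX E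
  obtain ⟨g, hg, hgl⟩ := r2c_exists_g h hp2 hX E hAZ htZ hl₀ hl₀Z hl₀t
  -- l' and l
  obtain ⟨l', hl'def⟩ : ∃ l' : G, l' = g l₀ := ⟨_, rfl⟩
  rw [← hl'def] at hgl
  have hl' : l' ∈ W := by rw [hl'def]; exact hX.Winv g hg l₀ hl₀
  obtain ⟨l, hldef⟩ : ∃ l : G, l = t l' * l'⁻¹ := ⟨_, rfl⟩
  have hl : l ∈ W := by rw [hldef]; exact W.mul_mem (hX.Winv t h.tA l' hl') (W.inv_mem hl')
  have htl' : t l' = l * l' := by rw [hldef]; group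
  have hll₀ : Commute l l₀ := by
    rw [hldef]
    exact (r2c_moves_in_cent E t (hX.Winv t h.tA) htZ hl₀t l' hl').1
  have hlZ : l ∉ Z₀ := by
    intro hlZ
    apply h.tInn
    apply hKinn t h.tA
    intro w hw
    obtain ⟨i, j, c, hc, rfl⟩ := es_coord E hl₀ hl' hgl w hw
    rw [map_mul, map_mul, map_pow, map_pow, htZ c hc]
    have h1 : ZCong Z₀ (t l') l' := by
      rw [htl', E.Zc l hlZ l']; exact zc_mk l' hlZ
    exact zc_mul E.Zc (zc_mul E.Zc (zc_pow E.Zc hl₀t i) (zc_pow E.Zc h1 j)) (zc_refl c)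
  obtain ⟨i₀, c₀, hc₀, hl_eq⟩ := es_cent E hl₀ hl' hgl hl hll₀
  have hi₀ : ¬ p ∣ i₀ := by
    intro hdvd
    apply hlZ
    rw [hl_eq, es_pow_eq_one E hl₀ hdvd, one_mul]; exact hc₀
  have hz_eq : ⁅l, l'⁆ = ⁅l₀, l'⁆ ^ i₀ := by
    rw [hl_eq, zc_comm_left E.Zc (zc_mk (l₀ ^ i₀) hc₀) l', es_comm_pow_left E hl₀ l' i₀]
  have hz : ⁅l, l'⁆ ≠ 1 := by
    intro h1
    rw [hz_eq] at h1
    exact hi₀ (es_dvd E hl₀ hgl h1)
  have htl : ZCong Z₀ (t l) l := by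
    have h2 : ZCong Z₀ ((t l₀) ^ i₀ * c₀) (l₀ ^ i₀ * c₀) :=
      zc_mul E.Zc (zc_pow E.Zc hl₀t i₀) (zc_refl c₀)
    have h1 : t l = (t l₀) ^ i₀ * c₀ := by rw [hl_eq, map_mul, map_pow, htZ c₀ hc₀]
    rw [h1, hl_eq]; exact h2
  obtain ⟨c₁, hc₁, htl_eq⟩ := htl
  obtain ⟨j₁, hj₁⟩ := es_gen E hl hz c₁ hc₁
  -- w₁ and t₁
  have hw₁ : l' ^ j₁ ∈ W := W.pow_mem hl' _
  have hconj_l : MulAut.conj (l' ^ j₁) l = l * c₁⁻¹ := by
    rw [MulAut.conj_apply]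
    have h1 : l' ^ j₁ * l * (l' ^ j₁)⁻¹ = ⁅l' ^ j₁, l⁆ * l := by
      rw [commutatorElement_def]; group
    have h2 : ⁅l' ^ j₁, l⁆ = c₁⁻¹ := by
      rw [es_comm_pow_left E hl' l j₁, ← commutatorElement_inv l l', inv_pow, hj₁]
    rw [h1, h2, E.Zc _ (Z₀.inv_mem hc₁) l]
  have hconj_l' : MulAut.conj (l' ^ j₁) l' = l' := by
    rw [MulAut.conj_apply]
    have h1 : Commute (l' ^ j₁) l' := (Commute.refl l').pow_left j₁
    rw [h1.eq, mul_inv_cancel_right]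
  obtain ⟨t₁, ht₁def⟩ : ∃ t₁ : MulAut G, t₁ = t * MulAut.conj (l' ^ j₁) := ⟨_, rfl⟩
  have ht₁A : t₁ ∈ A := by rw [ht₁def]; exact A.mul_mem h.tA (h.inn _)
  have ht₁l : t₁ l = l := by
    rw [ht₁def, MulAut.mul_apply, hconj_l, map_mul, htl_eq, htZ _ (Z₀.inv_mem hc₁), mul_assoc,
      mul_inv_cancel, mul_one]
  have ht₁l' : t₁ l' = l * l' := by
    rw [ht₁def, MulAut.mul_apply, hconj_l', htl']
  have ht₁Z : ∀ c ∈ Z₀, t₁ c = c := by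
    intro c hc
    rw [ht₁def, MulAut.mul_apply, MulAut.conj_apply, ← E.Zc c hc (l' ^ j₁), mul_inv_cancel_right,
      htZ c hc]
  have ht₁l₀ : ZCong Z₀ (t₁ l₀) l₀ := by
    rw [ht₁def, MulAut.mul_apply, MulAut.conj_apply]
    have h1 : ZCong Z₀ (l' ^ j₁ * l₀ * (l' ^ j₁)⁻¹) l₀ := by
      refine ⟨⁅l' ^ j₁, l₀⁆, E.Wcomm _ hw₁ l₀, ?_⟩
      rw [← E.Zc _ (E.Wcomm _ hw₁ l₀) l₀, commutatorElement_def]; group
    exact zc_trans (zc_map t (hAZ t h.tA) h1) hl₀t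
  -- τ'
  obtain ⟨τ', hτ'def⟩ : ∃ τ' : MulAut G, τ' = g * t₁ * g⁻¹ := ⟨_, rfl⟩
  have hτ'A : τ' ∈ A := by rw [hτ'def]; exact A.mul_mem (A.mul_mem hg ht₁A) (A.inv_mem hg)
  have hτ'app : ∀ x : G, τ' x = g (t₁ (g⁻¹ x)) := fun x => by rw [hτ'def]; rfl
  have hτ'l' : ZCong Z₀ (τ' l') l' := by
    have h1 := zc_map g (hAZ g hg) ht₁l₀
    rw [hτ'app, hl'def, MulAut.inv_apply_self]
    exact h1
  have hy : g⁻¹ l ∈ W := hX.Winv g⁻¹ (A.inv_mem hg) l hl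
  obtain ⟨hxc, -⟩ := r2c_moves_in_cent E t₁ (hX.Winv t₁ ht₁A) ht₁Z ht₁l₀ (g⁻¹ l) hy
  have hxW : t₁ (g⁻¹ l) * (g⁻¹ l)⁻¹ ∈ W := W.mul_mem (hX.Winv t₁ ht₁A _ hy) (W.inv_mem hy)
  obtain ⟨b, c₂, hc₂, hx_eq⟩ := es_cent E hl₀ hl' hgl hxW hxc
  have ht₁y : t₁ (g⁻¹ l) = l₀ ^ b * c₂ * g⁻¹ l := by rw [← hx_eq]; group
  have hgc₂ : g c₂ ∈ Z₀ := hAZ g hg c₂ hc₂
  have hτ'l_eq : τ' l = l' ^ b * l * g c₂ := by
    rw [hτ'app, ht₁y, map_mul, map_mul, map_pow, MulAut.apply_inv_self, ← hl'def, mul_assoc,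
      E.Zc _ hgc₂ l, ← mul_assoc]
  have hτ'l : ZCong Z₀ (l * l' ^ b) (τ' l) := by
    have h2 : ZCong Z₀ (l * l' ^ b) (l' ^ b * l) := zc_swap E.Zc (E.Wcomm l hl _)
    have h3 : ZCong Z₀ (l' ^ b * l) (τ' l) := by rw [hτ'l_eq]; exact zc_symm (zc_mk _ hgc₂)
    exact zc_trans h2 h3
  have hb : ¬ p ∣ b := by
    intro hdvd
    have h1 : ZCong Z₀ (t₁ (g⁻¹ l)) (g⁻¹ l) := by
      refine ⟨c₂, hc₂, ?_⟩
      rw [ht₁y, es_pow_eq_one E hl₀ hdvd, one_mul, E.Zc c₂ hc₂]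
    have h4 : ⁅t₁ (g⁻¹ l), t₁ l'⁆ = ⁅g⁻¹ l, l'⁆ := by
      rw [← map_commutatorElement, ht₁Z _ (E.Wcomm _ hy l')]
    rw [zc_comm_left E.Zc h1 (t₁ l'), ht₁l', es_comm_mul_right E (g⁻¹ l) l (E.Wcomm _ hy l')] at h4
    have h5 : ⁅g⁻¹ l, l⁆ = 1 := by simpa using h4
    have h6 : ⁅g⁻¹ l, l₀⁆ ^ i₀ = 1 := by
      rw [← es_comm_pow_right E hl₀ (g⁻¹ l) i₀,
        ← zc_comm_right E.Zc (zc_mk (l₀ ^ i₀) hc₀) (g⁻¹ l), ← hl_eq]
      exact h5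
    have h7 : ⁅g⁻¹ l, l₀⁆ = 1 := by
      by_contra hne
      exact hi₀ (es_dvd E hy hne h6)
    have h8 : Commute (g⁻¹ l) l₀ := (commutatorElement_eq_one_iff_commute).1 h7
    obtain ⟨k, c₃, hc₃, hy_eq⟩ := es_cent E hl₀ hl' hgl hy h8
    have h9 : l = l' ^ k * g c₃ := by
      have h10 := congrArg g hy_eq
      rwa [MulAut.apply_inv_self, map_mul, map_pow, ← hl'def] at h10
    apply hz
    rw [commutatorElement_eq_one_iff_commute, h9]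
    exact ((Commute.refl l').pow_left k).mul_left (E.Zc _ (hAZ g hg c₃ hc₃) l')
  -- the torus word
  have hZn : Z₀.Normal := ⟨fun c hc x => by rw [← E.Zc c hc x, mul_inv_cancel_right]; exact hc⟩
  obtain ⟨η, hηcl, mu, hmu, hηl, hηl'⟩ := Cfsg.Agent.Helper84.torus_word p Z₀ t₁ τ'
    (hAZ t₁ ht₁A) (hAZ τ' hτ'A) l l' (E.Wcomm l hl l') (by rw [E.Wexp l hl]; exact Z₀.one_mem)
    (by rw [E.Wexp l' hl']; exact Z₀.one_mem)
    (by rw [ht₁l, inv_mul_cancel]; exact Z₀.one_mem)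
    (by rw [ht₁l']; exact zc_iff.1 (zc_swap E.Zc (E.Wcomm l' hl' l)))
    (zc_iff.1 (zc_symm hτ'l')) b hb (zc_iff.1 hτ'l) 2
    (by intro h2; have := Nat.le_of_dvd (by norm_num) h2; omega)
  have hηA : η ∈ A := by
    have hcl : Subgroup.closure ({t₁, τ'} : Set (MulAut G)) ≤ A := by
      rw [Subgroup.closure_le]
      intro x hx
      rcases hx with rfl | rfl
      · exact ht₁A
      · exact hτ'A
    exact hcl hηcl
  have hηl2 : ZCong Z₀ (η l) (l ^ 2) := zc_symm (zc_iff.2 hηl)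
  have hηl'mu : ZCong Z₀ (η l') (l' ^ mu) := zc_symm (zc_iff.2 hηl')
  have ht₁pow_l : ∀ k : ℕ, (t₁ ^ k) l = l := fun k => r2c_aut_pow_fix t₁ l ht₁l k
  have ht₁pow_Z : ∀ k : ℕ, ∀ c ∈ Z₀, (t₁ ^ k) c = c := fun k c hc =>
    r2c_aut_pow_fix t₁ c (ht₁Z c hc) k
  have ht₁pow_l' : ∀ k : ℕ, (t₁ ^ k) l' = l ^ k * l' := by
    intro k
    induction k with
    | zero => simp
    | succ k ih =>
      rw [pow_succ', MulAut.mul_apply, ih, map_mul, map_pow, ht₁l, ht₁l', ← mul_assoc, ← pow_succ]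
  have hl2mu : l ^ (2 * mu) = l := by
    rw [pow_eq_pow_mod (2 * mu) (E.Wexp l hl), hmu, pow_one]
  have hl4mu : l ^ (4 * mu) = l ^ 2 := by
    have h1 : 4 * mu = (2 * mu) * 2 := by ring
    rw [h1, pow_mul, hl2mu]
  have hφψ : ∀ w ∈ W, ZCong Z₀ ((η * t₁) w) ((t₁ ^ 4 * η) w) := by
    have h_l : (η * t₁) l = (t₁ ^ 4 * η) l := by
      rw [MulAut.mul_apply, MulAut.mul_apply, ht₁l]
      obtain ⟨c, hc, hηc⟩ := hηl2
      rw [hηc, map_mul, map_pow, ht₁pow_l, ht₁pow_Z 4 c hc]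
    have h_l' : ZCong Z₀ ((η * t₁) l') ((t₁ ^ 4 * η) l') := by
      rw [MulAut.mul_apply, MulAut.mul_apply, ht₁l', map_mul]
      have h1 : ZCong Z₀ (η l * η l') (l ^ 2 * l' ^ mu) := zc_mul E.Zc hηl2 hηl'mu
      have h2 : ZCong Z₀ ((t₁ ^ 4) (η l')) (l ^ 2 * l' ^ mu) := by
        obtain ⟨c, hc, hηc⟩ := hηl'mu
        rw [hηc, map_mul, map_pow, ht₁pow_l', ht₁pow_Z 4 c hc]
        have h3 : ZCong Z₀ ((l ^ 4 * l') ^ mu) ((l ^ 4) ^ mu * l' ^ mu) :=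
          zc_mul_pow E.Zc (E.Wcomm l' hl' _) mu
        rw [← pow_mul, hl4mu] at h3
        exact zc_trans (zc_mk _ hc) h3
      exact zc_trans h1 (zc_symm h2)
    intro w hw
    obtain ⟨i, j, c, hc, rfl⟩ := es_coord E hl hl' hz w hw
    rw [map_mul, map_mul, map_pow, map_pow, map_mul, map_mul, map_pow, map_pow, h_l]
    refine zc_mul E.Zc (zc_mul E.Zc (zc_refl _) (zc_pow E.Zc h_l' j)) (zc_of_mem ?_ ?_)
    · exact hAZ _ (A.mul_mem hηA ht₁A) c hc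
    · exact hAZ _ (A.mul_mem (A.pow_mem ht₁A 4) hηA) c hc
  have hψA : t₁ ^ 4 * η ∈ A := A.mul_mem (A.pow_mem ht₁A 4) hηA
  have hκA : (t₁ ^ 4 * η)⁻¹ * (η * t₁) ∈ A := A.mul_mem (A.inv_mem hψA) (A.mul_mem hηA ht₁A)
  have hκ : ∀ w ∈ W, ZCong Z₀ (((t₁ ^ 4 * η)⁻¹ * (η * t₁)) w) w := by
    intro w hw
    have h1 := zc_map (t₁ ^ 4 * η)⁻¹ (hAZ _ (A.inv_mem hψA)) (hφψ w hw)
    rw [MulAut.inv_apply_self] at h1
    exact h1
  obtain ⟨e₀, he₀⟩ := hKinn _ hκA hκ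
  have hg_eq : η * t₁ * η⁻¹ = t₁ ^ 4 * MulAut.conj (η e₀) := by
    rw [← r2c_conj_conj η e₀, he₀]
    group
  -- t fixes B pointwise
  have hBcomm : ∀ α ∈ A, ∀ β ∈ A, ∀ c ∈ B, α (β c) = β (α c) := by
    obtain ⟨c₀', hc₀', hgen⟩ := hX.Bcyc
    intro α hα β hβ c hc
    obtain ⟨k, rfl⟩ := hgen c hc
    obtain ⟨i, hi⟩ := hgen _ (hX.Binv α hα c₀' hc₀')
    obtain ⟨j, hj⟩ := hgen _ (hX.Binv β hβ c₀' hc₀')
    simp only [map_pow, hi, hj, ← pow_mul]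
    congr 1; ring
  have htB : ∀ c ∈ B, t c = c := by
    intro c hc
    have hpowB : ∀ k : ℕ, (t ^ k) c ∈ B := fun k => hX.Binv _ (A.pow_mem h.tA k) c hc
    have ht₁c : ∀ c' ∈ B, t₁ c' = t c' := by
      intro c' hc'
      rw [ht₁def, MulAut.mul_apply, MulAut.conj_apply, ← hX.Bcent c' hc' (l' ^ j₁),
        mul_inv_cancel_right]
    have ht₁k : ∀ k : ℕ, (t₁ ^ k) c = (t ^ k) c := by
      intro k
      induction k with
      | zero => rfl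
      | succ k ih =>
        rw [pow_succ', MulAut.mul_apply, ih, ht₁c _ (hpowB k), pow_succ', MulAut.mul_apply]
    have h1 : (η * t₁ * η⁻¹) c = (t₁ ^ 4 * MulAut.conj (η e₀)) c := by rw [hg_eq]
    have h2 : (η * t₁ * η⁻¹) c = t₁ c := by
      show η (t₁ (η⁻¹ c)) = t₁ c
      rw [hBcomm η hηA t₁ ht₁A _ (hX.Binv η⁻¹ (A.inv_mem hηA) c hc), MulAut.apply_inv_self]
    have h3 : (t₁ ^ 4 * MulAut.conj (η e₀)) c = (t₁ ^ 4) c := by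
      rw [MulAut.mul_apply, MulAut.conj_apply, ← hX.Bcent c hc (η e₀), mul_inv_cancel_right]
    rw [h2, h3, ht₁c c hc, ht₁k 4] at h1
    have h4 : (t ^ 3) c = c := by
      have h5 : (t ^ 4) c = t ((t ^ 3) c) := by rw [← MulAut.mul_apply, ← pow_succ']
      rw [h5] at h1
      exact (t.injective h1).symm
    have h6 : (t ^ (p ^ n)) c = c := by rw [htn]; rfl
    rw [mulAut_pow_apply_eq_iterate] at h4 h6
    have hcop : Nat.Coprime 3 (p ^ n) :=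
      Nat.Coprime.pow_right n ((Nat.coprime_primes Nat.prime_three hpp).2 (by omega))
    exact fix_of_iterate_coprime _ c hcop h4 h6
  -- η on B
  have hηz : η ⁅l, l'⁆ = ⁅l, l'⁆ := by
    rw [map_commutatorElement, zc_comm_left E.Zc hηl2 (η l'), zc_comm_right E.Zc hηl'mu (l ^ 2),
      es_comm_pow_left E hl _ 2, es_comm_pow_right E hl' l mu, ← pow_mul,
      pow_eq_pow_mod (mu * 2) (E.Zp _ (E.Wcomm l hl l')), mul_comm mu 2, hmu, pow_one]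
  have hηB : ∀ c ∈ B, ∃ d ∈ B, η c = c * d ^ p := by
    obtain ⟨c₀', hc₀', hgen⟩ := hX.Bcyc
    obtain ⟨j, hj⟩ := hgen _ (hX.Binv η hηA c₀' hc₀')
    obtain ⟨k, hk⟩ := hgen _ (hZ₀B _ (E.Wcomm l hl l'))
    have h1 : ⁅l, l'⁆ ^ j = ⁅l, l'⁆ ^ 1 := by
      rw [pow_one]
      conv_rhs => rw [← hηz]
      rw [hk, map_pow, hj, ← pow_mul, ← pow_mul, mul_comm]
    have h2 : j ≡ 1 [MOD p] := by
      have h3 := (pow_eq_pow_iff_modEq).1 h1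
      rwa [es_ord E hl hz] at h3
    have h3 : j % p = 1 := by
      have h4 := h2
      unfold Nat.ModEq at h4
      rwa [Nat.mod_eq_of_lt hpp.one_lt] at h4
    intro c hc
    obtain ⟨i, rfl⟩ := hgen c hc
    refine ⟨c₀' ^ (j / p * i), B.pow_mem hc₀' _, ?_⟩
    rw [map_pow, hj, ← pow_mul, ← pow_mul, ← pow_add]
    congr 1
    have h4 : j = p * (j / p) + 1 := by
      have h5 := Nat.div_add_mod j p
      omega
    generalize j / p = q at h4 ⊢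
    subst h4
    ring
  rw [ht₁def] at ht₁l ht₁l' hg_eq
  exact ⟨l' ^ j₁, l, l', η, η e₀, mu, hw₁, hl, hl', hz, hηA, hmu, ht₁l, ht₁l', htB, hηl, hηl', hηB,
    hg_eq⟩

end Cfsg.Agent.Helper31
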