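import Mathlib

set_option autoImplicit false

namespace Cfsg.Agent.Helper31

/-- CLS: size of a conjugacy class times the order of the centralizer is the group order. -/
theorem card_conj_class_mul {G : Type*} [Group G] [Finite G] (a : G) (P : G → Prop)
    (hP : ∀ g : G, P g ↔ ∃ y : G, y * a * y⁻¹ = g) :
    Nat.card {g : G // P g} * Nat.card (Subgroup.centralizer ({a} : Set G)) = Nat.card G := by
  classical
  have hbij : Nat.card (G ⧸ Subgroup.centralizer ({a} : Set G)) = Nat.card {g : G // P g} := by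
    apply Nat.card_congr
    refine Equiv.ofBijective
      (fun q => Quotient.liftOn' q
        (fun y => (⟨y * a * y⁻¹, (hP _).2 ⟨y, rfl⟩⟩ : {g : G // P g})) ?_) ⟨?_, ?_⟩
    · intro x y hxy
      rw [QuotientGroup.leftRel_apply] at hxy
      have h := (Subgroup.mem_centralizer_iff.1 hxy) a (Set.mem_singleton a)
      apply Subtype.ext
      show x * a * x⁻¹ = y * a * y⁻¹
      calc x * a * x⁻¹ = x * (a * (x⁻¹ * y)) * y⁻¹ := by group
        _ = x * ((x⁻¹ * y) * a) * y⁻¹ := by rw [h]
        _ = y * a * y⁻¹ := by group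
    · intro q₁ q₂
      refine Quotient.inductionOn₂' q₁ q₂ ?_
      intro x y hxy
      have h : x * a * x⁻¹ = y * a * y⁻¹ := congrArg Subtype.val hxy
      apply Quotient.sound'
      rw [QuotientGroup.leftRel_apply]
      rw [Subgroup.mem_centralizer_iff]
      intro m hm
      rw [Set.mem_singleton_iff] at hm
      subst hm
      calc m * (x⁻¹ * y) = x⁻¹ * (x * m * x⁻¹) * y := by group
        _ = x⁻¹ * (y * m * y⁻¹) * y := by rw [h]
        _ = x⁻¹ * y * m := by group
    · rintro ⟨g, hg⟩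
      obtain ⟨y, hy⟩ := (hP g).1 hg
      exact ⟨QuotientGroup.mk y, Subtype.ext hy⟩
  rw [← hbij]
  exact (Subgroup.card_eq_card_quotient_mul_card_subgroup _).symm

/-- NC: normalizers of a characteristic-like odd subgroup `A₀` of a self-centralizing abelian
subgroup `D` coincide. -/
theorem normalizer_eq_of_selfcent {G : Type*} [Group G] [Finite G] (D : Subgroup G)
    (hDcomm : ∀ x ∈ D, ∀ y ∈ D, x * y = y * x)
    (hD : ∀ h ∈ D, h * h ≠ 1 → ∀ c : G, c * h = h * c → c ∈ D)
    (A₀ : Subgroup G) (hA : A₀ ≤ D) (hA0 : A₀ ≠ ⊥) (hodd : Odd (Nat.card A₀))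
    (hcnt : Nat.card {x : G // x ∈ D ∧ x ^ Nat.card A₀ = 1} ≤ Nat.card A₀) :
    Subgroup.normalizer (A₀ : Set G) = Subgroup.normalizer (D : Set G) := by
  classical
  -- a nontrivial element of A₀ with h * h ≠ 1
  obtain ⟨h, hhA, hh1⟩ : ∃ h ∈ A₀, h ≠ 1 := by
    by_contra hcon
    apply hA0
    rw [Subgroup.eq_bot_iff_forall]
    intro x hx
    by_contra hx1
    exact hcon ⟨x, hx, hx1⟩
  have hhh : h * h ≠ 1 := by
    intro h2
    have hord : orderOf h ∣ 2 := by
      apply orderOf_dvd_of_pow_eq_one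
      rw [pow_two]; exact h2
    have hord' : orderOf h ∣ Nat.card A₀ := by
      have := orderOf_dvd_natCard (⟨h, hhA⟩ : A₀)
      rwa [Subgroup.orderOf_mk] at this
    have hg : orderOf h ∣ Nat.gcd 2 (Nat.card A₀) := Nat.dvd_gcd hord hord'
    have hcop : Nat.gcd 2 (Nat.card A₀) = 1 := by
      rw [← Nat.coprime_iff_gcd_eq_one]
      exact (Nat.coprime_two_left).2 hodd
    rw [hcop, Nat.dvd_one, orderOf_eq_one_iff] at hg
    exact hh1 hg
  -- key closure lemma for the first inclusion
  have key1 : ∀ n : G, n ∈ Subgroup.normalizer (A₀ : Set G) → ∀ d ∈ D, n * d * n⁻¹ ∈ D := by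
    intro n hn d hd
    have hnh : n * h * n⁻¹ ∈ A₀ := (Subgroup.mem_normalizer_iff.1 hn h).1 hhA
    have hsq : (n * h * n⁻¹) * (n * h * n⁻¹) ≠ 1 := by
      intro hcon
      apply hhh
      have : n * (h * h) * n⁻¹ = 1 := by
        rw [← hcon]; group
      have h3 : h * h = n⁻¹ * (n * (h * h) * n⁻¹) * n := by group
      rw [h3, this]; group
    apply hD (n * h * n⁻¹) (hA hnh) hsq
    have hc := hDcomm d hd h (hA hhA)
    calc n * d * n⁻¹ * (n * h * n⁻¹) = n * (d * h) * n⁻¹ := by group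
      _ = n * (h * d) * n⁻¹ := by rw [hc]
      _ = n * h * n⁻¹ * (n * d * n⁻¹) := by group
  -- the set S' of elements of D killed by |A₀| equals A₀
  have hfin : (Set.univ : Set G).Finite := Set.finite_univ
  have hSeq : ∀ x : G, x ∈ D → x ^ Nat.card A₀ = 1 → x ∈ A₀ := by
    have hsub : (A₀ : Set G) ⊆ {x : G | x ∈ D ∧ x ^ Nat.card A₀ = 1} := by
      intro x hx
      refine ⟨hA hx, ?_⟩
      have := pow_card_eq_one' (G := A₀) (x := ⟨x, hx⟩)
      exact congrArg Subtype.val this
    have hle : ({x : G | x ∈ D ∧ x ^ Nat.card A₀ = 1} : Set G).ncard ≤ (A₀ : Set G).ncard := by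
      have h1 : ({x : G | x ∈ D ∧ x ^ Nat.card A₀ = 1} : Set G).ncard
          = Nat.card {x : G // x ∈ D ∧ x ^ Nat.card A₀ = 1} := rfl
      have h2 : (A₀ : Set G).ncard = Nat.card A₀ := rfl
      rw [h1, h2]; exact hcnt
    have heq := Set.eq_of_subset_of_ncard_le hsub hle (Set.toFinite _)
    intro x hx hx1
    have : x ∈ ({x : G | x ∈ D ∧ x ^ Nat.card A₀ = 1} : Set G) := ⟨hx, hx1⟩
    rw [← heq] at this
    exact this
  have key2 : ∀ n : G, n ∈ Subgroup.normalizer (D : Set G) → ∀ x ∈ A₀, n * x * n⁻¹ ∈ A₀ := by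
    intro n hn x hx
    apply hSeq
    · exact (Subgroup.mem_normalizer_iff.1 hn x).1 (hA hx)
    · have hx1 : x ^ Nat.card A₀ = 1 := by
        have := pow_card_eq_one' (G := A₀) (x := ⟨x, hx⟩)
        exact congrArg Subtype.val this
      rw [conj_pow, hx1]; group
  apply le_antisymm
  · intro n hn
    rw [Subgroup.mem_normalizer_iff]
    intro d
    constructor
    · exact key1 n hn d
    · intro hd
      have hn' : n⁻¹ ∈ Subgroup.normalizer (A₀ : Set G) := inv_mem hn
      have := key1 n⁻¹ hn' _ hd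
      have h3 : n⁻¹ * (n * d * n⁻¹) * n⁻¹⁻¹ = d := by group
      rwa [h3] at this
  · intro n hn
    rw [Subgroup.mem_normalizer_iff]
    intro x
    constructor
    · exact key2 n hn x
    · intro hx
      have hn' : n⁻¹ ∈ Subgroup.normalizer (D : Set G) := inv_mem hn
      have := key2 n⁻¹ hn' _ hx
      have h3 : n⁻¹ * (n * x * n⁻¹) * n⁻¹⁻¹ = x := by group
      rwa [h3] at this

/-- HO: an abelian group of order `4n` (`n` odd) in which `x^d = 1` has at most `d` solutions for
every odd `d` contains a cyclic subgroup of order `n`. -/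
theorem exists_cyclic_odd_part {G : Type*} [Group G] [Finite G] (M : Subgroup G)
    (hMcomm : ∀ x ∈ M, ∀ y ∈ M, x * y = y * x) {n : ℕ} (hn : Odd n)
    (hM : Nat.card M = 4 * n)
    (hcnt : ∀ d : ℕ, Odd d → Nat.card {x : G // x ∈ M ∧ x ^ d = 1} ≤ d) :
    ∃ O : Subgroup G, O ≤ M ∧ IsCyclic O ∧ Nat.card O = n := by
  classical
  have hnpos : 0 < n := hn.pos
  let φ : M →* M :=
    { toFun := fun x => x ^ n
      map_one' := one_pow n
      map_mul' := fun x y =>
        (Commute.mul_pow (show Commute x y from Subtype.ext (hMcomm x x.2 y y.2)) n) }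
  have hφ : ∀ x : M, φ x = x ^ n := fun x => rfl
  -- the range of φ is a 2-group
  have : Fact (Nat.Prime 2) := ⟨Nat.prime_two⟩
  have hrange2 : IsPGroup 2 φ.range := by
    rintro ⟨y, hy⟩
    obtain ⟨x, rfl⟩ := hy
    refine ⟨2, ?_⟩
    apply Subtype.ext
    show (φ x) ^ 2 ^ 2 = 1
    rw [hφ, ← pow_mul]
    have : n * 2 ^ 2 = Nat.card M := by rw [hM]; ring
    rw [this]
    exact pow_card_eq_one'
  obtain ⟨j, hj⟩ := (IsPGroup.iff_card).1 hrange2
  have hker_mul : Nat.card φ.ker * Nat.card φ.range = 4 * n := by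
    rw [← Subgroup.index_ker, Subgroup.card_mul_index, hM]
  have hjdvd : 2 ^ j ∣ 4 := by
    have h1 : 2 ^ j ∣ 4 * n := by
      rw [← hker_mul, hj]; exact dvd_mul_left _ _
    have hcop : Nat.Coprime (2 ^ j) n := by
      apply Nat.Coprime.pow_left
      exact (Nat.coprime_two_left).2 hn
    exact hcop.dvd_of_dvd_mul_right h1
  have hjle : 2 ^ j ≤ 4 := Nat.le_of_dvd (by norm_num) hjdvd
  have hker_ge : n ≤ Nat.card φ.ker := by
    rw [hj] at hker_mul
    by_contra hlt
    have hlt' : Nat.card φ.ker < n := not_le.1 hlt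
    have : Nat.card φ.ker * 2 ^ j < 4 * n := by
      calc Nat.card φ.ker * 2 ^ j ≤ Nat.card φ.ker * 4 := Nat.mul_le_mul_left _ hjle
        _ < n * 4 := Nat.mul_lt_mul_of_pos_right hlt' (by norm_num)
        _ = 4 * n := by ring
    omega
  -- the subgroup O
  let O : Subgroup G := (φ.ker).map M.subtype
  have hOle : O ≤ M := Subgroup.map_subtype_le _
  have hOcard : Nat.card O = Nat.card φ.ker :=
    Subgroup.card_map_of_injective (Subgroup.subtype_injective M)
  have hOpow : ∀ x ∈ O, x ^ n = 1 := by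
    intro x hx
    obtain ⟨y, hy, rfl⟩ := Subgroup.mem_map.1 hx
    have h1 : φ y = 1 := MonoidHom.mem_ker.1 hy
    rw [hφ] at h1
    have := congrArg Subtype.val h1
    simpa using this
  have hO_le : Nat.card O ≤ n := by
    refine le_trans ?_ (hcnt n hn)
    apply Nat.card_le_card_of_injective
      (fun x : O => (⟨x.1, hOle x.2, hOpow x.1 x.2⟩ : {x : G // x ∈ M ∧ x ^ n = 1}))
    intro x y hxy
    apply Subtype.ext
    have h := congrArg Subtype.val hxy
    exact h
  have hOn : Nat.card O = n := le_antisymm hO_le (hOcard ▸ hker_ge)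
  refine ⟨O, hOle, ?_, hOn⟩
  let _ : Fintype O := Fintype.ofFinite O
  apply isCyclic_of_card_pow_eq_one_le
  intro k hk
  have hgodd : Odd (Nat.gcd k n) := by
    rcases Nat.even_or_odd (Nat.gcd k n) with he | ho
    · exfalso
      have h2 : 2 ∣ n := dvd_trans he.two_dvd (Nat.gcd_dvd_right k n)
      exact (Nat.not_even_iff_odd.2 hn) (even_iff_two_dvd.2 h2)
    · exact ho
  have hgle : Nat.gcd k n ≤ k := Nat.gcd_le_left n hk
  refine le_trans ?_ hgle
  refine le_trans ?_ (hcnt (Nat.gcd k n) hgodd)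
  rw [← Nat.card_eq_finsetCard]
  apply Nat.card_le_card_of_injective
    (fun x : {a ∈ (Finset.univ : Finset O) | a ^ k = 1} =>
      (⟨x.1.1, hOle x.1.2, by
        have hxk : x.1 ^ k = 1 := (Finset.mem_filter.1 x.2).2
        have hxk' : (x.1.1 : G) ^ k = 1 := by
          have := congrArg Subtype.val hxk
          simpa using this
        exact pow_gcd_eq_one.2 ⟨hxk', hOpow x.1.1 x.1.2⟩⟩ :
        {x : G // x ∈ M ∧ x ^ (Nat.gcd k n) = 1}))
  intro x y hxy
  apply Subtype.ext
  apply Subtype.ext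
  have h := congrArg Subtype.val hxy
  exact h

end Cfsg.Agent.Helper31
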