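import Mathlib
import Cfsg.Agent.Helper31.Ree1158

set_option autoImplicit false

namespace Cfsg.Agent.Helper31

/-- PIECE HO2 -/
theorem exists_orderOf_two_mul {G : Type*} [Group G] [Finite G] (M : Subgroup G)
    (hMcomm : ∀ x ∈ M, ∀ y ∈ M, x * y = y * x) {n : ℕ} (hn : Odd n)
    (hM : Nat.card M = 4 * n)
    (hcnt : ∀ d : ℕ, Odd d → Nat.card {x : G // x ∈ M ∧ x ^ d = 1} ≤ d) :
    ∃ g ∈ M, orderOf g = 2 * n := by
  classical
  obtain ⟨O, hOM, hOcyc, hOcard⟩ := exists_cyclic_odd_part M hMcomm hn hM hcnt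
  obtain ⟨o, ho⟩ := hOcyc.exists_generator
  have hord : orderOf o = n := by
    rw [orderOf_eq_card_of_forall_mem_zpowers ho, hOcard]
  have hord' : orderOf (o : G) = n := by
    rw [Subgroup.orderOf_coe]; exact hord
  have hp2 : Fact (Nat.Prime 2) := ⟨Nat.prime_two⟩
  obtain ⟨a, ha⟩ := exists_prime_orderOf_dvd_card' (G := M) 2
    (by rw [hM]; exact Dvd.intro (2 * n) (by ring))
  have ha' : orderOf (a : G) = 2 := by
    rw [Subgroup.orderOf_coe]; exact ha
  refine ⟨(a : G) * (o : G), M.mul_mem a.2 (hOM o.2), ?_⟩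
  have hcomm : Commute (a : G) (o : G) := hMcomm _ a.2 _ (hOM o.2)
  rw [hcomm.orderOf_mul_eq_mul_orderOf_of_coprime
    (by rw [ha', hord']; exact (Nat.coprime_two_left).2 hn), ha', hord']

end Cfsg.Agent.Helper31
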