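import Mathlib

set_option autoImplicit false

namespace Cfsg.Agent.Helper31

/-- PIECE NM -/
theorem normalizer_eq_of_torus {G : Type*} [Group G] [Finite G] (M E : Subgroup G)
    (hMcomm : ∀ x ∈ M, ∀ y ∈ M, x * y = y * x) {n : ℕ} (hn : Odd n) (hn3 : 3 ≤ n)
    (hM : Nat.card M = 4 * n)
    (h2 : ∀ (g : G) (k : ℕ), g ^ 2 ^ k = 1 → g * g = 1)
    (hMsc : ∀ h ∈ M, h * h ≠ 1 → ∀ c : G, c * h = h * c → c ∈ M)
    (hE : ∀ g : G, g ∈ E ↔ g ∈ M ∧ g * g = 1)
    (hC : Nat.card (Subgroup.centralizer (E : Set G)) = 8 * n)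
    (hTor : ∀ g ∈ Subgroup.centralizer (E : Set G), g * g ≠ 1 →
      ∃ M' : Subgroup G, (∀ x ∈ M', ∀ y ∈ M', x * y = y * x) ∧ Nat.card M' = 4 * n ∧
        g ∈ M' ∧ E ≤ M') :
    Subgroup.normalizer (E : Set G) = Subgroup.normalizer (M : Set G) ∧
      ∀ g ∈ M, g * g ≠ 1 → ∀ y : G, y * g * y⁻¹ ∈ M → y ∈ Subgroup.normalizer (M : Set G) := by
  classical
  have hEM : E ≤ M := fun g hg => ((hE g).1 hg).1
  have hsq : ∀ (g y : G), g * g ≠ 1 → (y * g * y⁻¹) * (y * g * y⁻¹) ≠ 1 := by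
    intro g y hg2 hcon
    apply hg2
    have h1 : y * (g * g) * y⁻¹ = 1 := by rw [← hcon]; group
    have h3 : g * g = y⁻¹ * (y * (g * g) * y⁻¹) * y := by group
    rw [h3, h1]; group
  have conjIn : ∀ g ∈ M, g * g ≠ 1 → ∀ y : G, y * g * y⁻¹ ∈ M →
      ∀ m ∈ M, y * m * y⁻¹ ∈ M := by
    intro g hg hg2 y hy m hm
    apply hMsc (y * g * y⁻¹) hy (hsq g y hg2)
    have hc := hMcomm m hm g hg
    calc y * m * y⁻¹ * (y * g * y⁻¹) = y * (m * g) * y⁻¹ := by group
      _ = y * (g * m) * y⁻¹ := by rw [hc]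
      _ = y * g * y⁻¹ * (y * m * y⁻¹) := by group
  have part2 : ∀ g ∈ M, g * g ≠ 1 → ∀ y : G, y * g * y⁻¹ ∈ M →
      y ∈ Subgroup.normalizer (M : Set G) := by
    intro g hg hg2 y hy
    rw [Subgroup.mem_normalizer_iff]
    intro m
    constructor
    · exact conjIn g hg hg2 y hy m
    · intro hm
      have hy' : y⁻¹ * (y * g * y⁻¹) * y⁻¹⁻¹ ∈ M := by
        have h3 : y⁻¹ * (y * g * y⁻¹) * y⁻¹⁻¹ = g := by group
        rw [h3]; exact hg
      have h4 := conjIn _ hy (hsq g y hg2) y⁻¹ hy' _ hm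
      have h3 : y⁻¹ * (y * m * y⁻¹) * y⁻¹⁻¹ = m := by group
      rwa [h3] at h4
  refine ⟨?_, part2⟩
  -- the subgroup E has at most four elements
  have hE4 : Nat.card E ≤ 4 := by
    have hp2 : Fact (Nat.Prime 2) := ⟨Nat.prime_two⟩
    have hp : IsPGroup 2 E := by
      rintro ⟨x, hx⟩
      refine ⟨1, ?_⟩
      apply Subtype.ext
      show x ^ 2 ^ 1 = 1
      rw [pow_one, pow_two]; exact ((hE x).1 hx).2
    obtain ⟨j, hj⟩ := (IsPGroup.iff_card).1 hp
    have hdvd : Nat.card E ∣ 4 * n := hM ▸ Subgroup.card_dvd_of_le hEM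
    rw [hj] at hdvd ⊢
    have hcop : Nat.Coprime (2 ^ j) n := Nat.Coprime.pow_left _ ((Nat.coprime_two_left).2 hn)
    exact Nat.le_of_dvd (by norm_num) (hcop.dvd_of_dvd_mul_right hdvd)
  apply le_antisymm
  · -- N(E) ≤ N(M)
    intro y hy
    obtain ⟨g₀, hg₀M, hg₀2⟩ : ∃ g₀ ∈ M, g₀ * g₀ ≠ 1 := by
      by_contra hcon
      have hME : M ≤ E := by
        intro g hg
        rw [hE]
        refine ⟨hg, ?_⟩
        by_contra h
        exact hcon ⟨g, hg, h⟩
      have h5 := Subgroup.card_le_of_le hME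
      omega
    have hg2 : (y * g₀ * y⁻¹) * (y * g₀ * y⁻¹) ≠ 1 := hsq g₀ y hg₀2
    have hgC : y * g₀ * y⁻¹ ∈ Subgroup.centralizer (E : Set G) := by
      rw [Subgroup.mem_centralizer_iff]
      intro e he
      have he' : y⁻¹ * e * y ∈ E := (Subgroup.mem_normalizer_iff''.1 hy e).1 he
      have hc := hMcomm _ (hEM he') g₀ hg₀M
      calc e * (y * g₀ * y⁻¹) = y * ((y⁻¹ * e * y) * g₀) * y⁻¹ := by group
        _ = y * (g₀ * (y⁻¹ * e * y)) * y⁻¹ := by rw [hc]
        _ = y * g₀ * y⁻¹ * e := by group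
    obtain ⟨M', hM'comm, hM'card, hgM', hEM'⟩ := hTor _ hgC hg2
    have hMC : M ≤ Subgroup.centralizer (E : Set G) := by
      intro m hm
      rw [Subgroup.mem_centralizer_iff]
      intro e he
      exact hMcomm e (hEM he) m hm
    have hM'C : M' ≤ Subgroup.centralizer (E : Set G) := by
      intro m hm
      rw [Subgroup.mem_centralizer_iff]
      intro e he
      exact hM'comm e (hEM' he) m hm
    have hidx : ∀ K : Subgroup G, K ≤ Subgroup.centralizer (E : Set G) →
        Nat.card K * K.relIndex (Subgroup.centralizer (E : Set G)) = 8 * n := by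
      intro K hK
      have h5 := Subgroup.relIndex_mul_relIndex (⊥ : Subgroup G) K _ bot_le hK
      rw [Subgroup.relIndex_bot_left, Subgroup.relIndex_bot_left, hC] at h5
      exact h5
    have hn0 : 0 < n := by omega
    have i1 : M.relIndex (Subgroup.centralizer (E : Set G)) = 2 := by
      have h5 := hidx M hMC
      rw [hM] at h5
      have h6 : 4 * n * M.relIndex (Subgroup.centralizer (E : Set G)) = 4 * n * 2 := by
        rw [h5]; ring
      exact Nat.eq_of_mul_eq_mul_left (by omega) h6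
    have i2 : M'.relIndex (Subgroup.centralizer (E : Set G)) = 2 := by
      have h5 := hidx M' hM'C
      rw [hM'card] at h5
      have h6 : 4 * n * M'.relIndex (Subgroup.centralizer (E : Set G)) = 4 * n * 2 := by
        rw [h5]; ring
      exact Nat.eq_of_mul_eq_mul_left (by omega) h6
    have i3 : (M ⊓ M').relIndex (Subgroup.centralizer (E : Set G)) ≤ 4 := by
      have h5 := Subgroup.relIndex_inf_le (H := M) (K := M')
        (L := Subgroup.centralizer (E : Set G))
      rw [i1, i2] at h5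
      exact h5
    have hinf : 2 * n ≤ Nat.card (M ⊓ M' : Subgroup G) := by
      have h5 := hidx (M ⊓ M') (inf_le_left.trans hMC)
      by_contra hlt
      have hlt' : Nat.card (M ⊓ M' : Subgroup G) < 2 * n := not_le.1 hlt
      have h6 : Nat.card (M ⊓ M' : Subgroup G) *
          (M ⊓ M').relIndex (Subgroup.centralizer (E : Set G)) < 2 * n * 4 := by
        calc Nat.card (M ⊓ M' : Subgroup G) *
            (M ⊓ M').relIndex (Subgroup.centralizer (E : Set G))
            ≤ Nat.card (M ⊓ M' : Subgroup G) * 4 := Nat.mul_le_mul_left _ i3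
          _ < 2 * n * 4 := Nat.mul_lt_mul_of_pos_right hlt' (by norm_num)
      omega
    obtain ⟨z, hzM, hzM', hz2⟩ : ∃ z, z ∈ M ∧ z ∈ M' ∧ z * z ≠ 1 := by
      by_contra hcon
      have hle : M ⊓ M' ≤ E := by
        intro z hz
        rw [hE]
        refine ⟨hz.1, ?_⟩
        by_contra h
        exact hcon ⟨z, hz.1, hz.2, h⟩
      have h5 := Subgroup.card_le_of_le hle
      omega
    have hgM : y * g₀ * y⁻¹ ∈ M := hMsc z hzM hz2 _ (hM'comm _ hgM' z hzM')
    exact part2 g₀ hg₀M hg₀2 y hgM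
  · -- N(M) ≤ N(E)
    have key : ∀ y ∈ Subgroup.normalizer (M : Set G), ∀ e ∈ E, y * e * y⁻¹ ∈ E := by
      intro y hy e he
      rw [hE] at he ⊢
      refine ⟨(Subgroup.mem_normalizer_iff.1 hy e).1 he.1, ?_⟩
      calc y * e * y⁻¹ * (y * e * y⁻¹) = y * (e * e) * y⁻¹ := by group
        _ = 1 := by rw [he.2]; group
    intro y hy
    rw [Subgroup.mem_normalizer_iff]
    intro e
    constructor
    · exact key y hy e
    · intro he
      have h4 := key y⁻¹ (inv_mem hy) _ he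
      have h3 : y⁻¹ * (y * e * y⁻¹) * y⁻¹⁻¹ = e := by group
      rwa [h3] at h4

end Cfsg.Agent.Helper31
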