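import Mathlib
import Cfsg.Prelude.Def_Transfer
import Cfsg.Agent.Helper16.S3Core

/-!
# PIECE SU3 of CALL S3805 (helper16): the model homomorphism is an `S3Cfg` with range `N_G(T)`
-/

set_option autoImplicit false

namespace Cfsg.Agent.Helper31

open Cfsg Cfsg.Agent.Helper16 DihedralGroup

set_option maxRecDepth 1000000 in
theorem s3su3_nm_rep : ∀ m : NM, ∃ i j : ZMod 3, ∃ k l : ZMod 2,
    m = (r i * sr 0 ^ k.val, r j * sr 0 ^ l.val) := by
  decide

set_option maxRecDepth 1000000 in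
theorem s3su3_nm_pow4 : ∀ m : NM, m ^ 2 ≠ 1 →
    ∃ i j : ZMod 3, m ^ 4 = (r i, r j) ∧ ((r i, r j) : NM) ≠ 1 := by
  decide

/-- PIECE SU3 of CALL S3805. -/
theorem s3_cfg_of_gens {G : Type*} [Group G] [Finite G] (T : Sylow 3 G)
    (hT : Cfsg.IsElementaryAbelian 3 (T : Subgroup G)) (hcard : Nat.card T = 9)
    [hn : ((T : Subgroup G).subgroupOf (Subgroup.normalizer ((T : Subgroup G) : Set G))).Normal]
    (hK : IsKleinFour (↥(Subgroup.normalizer ((T : Subgroup G) : Set G)) ⧸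
      (T : Subgroup G).subgroupOf (Subgroup.normalizer ((T : Subgroup G) : Set G))))
    (hloc : ∀ t ∈ (T : Subgroup G), t ≠ 1 →
      Subgroup.centralizer ({t} : Set G) ≤ Subgroup.normalizer ((T : Subgroup G) : Set G))
    (t₁ t₂ a b : G)
    (hg : S3Gens (T : Subgroup G) (Subgroup.normalizer ((T : Subgroup G) : Set G)) t₁ t₂ a b)
    (φ : NM →* G)
    (hφ : ∀ (i j : ZMod 3) (k l : ZMod 2), φ (r i * sr 0 ^ k.val, r j * sr 0 ^ l.val) =
      t₁ ^ i.val * a ^ k.val * (t₂ ^ j.val * b ^ l.val)) :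
    S3Cfg φ ∧ φ.range = Subgroup.normalizer ((T : Subgroup G) : Set G) := by
  have hTN : (T : Subgroup G) ≤ Subgroup.normalizer ((T : Subgroup G) : Set G) :=
    Subgroup.le_normalizer
  have hφ0 : ∀ i j : ZMod 3, φ (r i, r j) = t₁ ^ i.val * t₂ ^ j.val := by
    intro i j
    have h1 := hφ i j 0 0
    simpa using h1
  have hφN : ∀ m : NM, φ m ∈ Subgroup.normalizer ((T : Subgroup G) : Set G) := by
    intro m
    obtain ⟨i, j, k, l, rfl⟩ := s3su3_nm_rep m
    rw [hφ, hg.memN]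
    refine ⟨i.val, j.val, k.val, l.val, ?_⟩
    have hc : a ^ k.val * t₂ ^ j.val = t₂ ^ j.val * a ^ k.val :=
      ((show Commute a t₂ from hg.at₂).pow_pow _ _).eq
    calc t₁ ^ i.val * a ^ k.val * (t₂ ^ j.val * b ^ l.val)
        = t₁ ^ i.val * (a ^ k.val * t₂ ^ j.val) * b ^ l.val := by simp only [mul_assoc]
      _ = t₁ ^ i.val * t₂ ^ j.val * a ^ k.val * b ^ l.val := by rw [hc]; simp only [mul_assoc]
  have hrange : φ.range = Subgroup.normalizer ((T : Subgroup G) : Set G) := by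
    apply le_antisymm
    · rintro _ ⟨m, rfl⟩; exact hφN m
    · intro x hx
      obtain ⟨i, j, k, l, rfl⟩ := (hg.memN x).1 hx
      refine ⟨(r (i : ZMod 3) * sr 0 ^ ((k : ZMod 2)).val,
        r (j : ZMod 3) * sr 0 ^ ((l : ZMod 2)).val), ?_⟩
      rw [hφ, ZMod.val_natCast, ZMod.val_natCast, ZMod.val_natCast, ZMod.val_natCast,
        ← pow_eq_pow_mod i hg.t₁3, ← pow_eq_pow_mod j hg.t₂3, ← pow_eq_pow_mod k hg.a2,
        ← pow_eq_pow_mod l hg.b2]
      have hc : a ^ k * t₂ ^ j = t₂ ^ j * a ^ k := ((show Commute a t₂ from hg.at₂).pow_pow _ _).eq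
      calc t₁ ^ i * a ^ k * (t₂ ^ j * b ^ l) = t₁ ^ i * (a ^ k * t₂ ^ j) * b ^ l := by
            simp only [mul_assoc]
        _ = t₁ ^ i * t₂ ^ j * a ^ k * b ^ l := by rw [hc]; simp only [mul_assoc]
  have hcardN : Nat.card (Subgroup.normalizer ((T : Subgroup G) : Set G)) = 36 := by
    have h1 := Subgroup.card_eq_card_quotient_mul_card_subgroup
      ((T : Subgroup G).subgroupOf (Subgroup.normalizer ((T : Subgroup G) : Set G)))
    have h2 : Nat.card ((T : Subgroup G).subgroupOf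
        (Subgroup.normalizer ((T : Subgroup G) : Set G))) = 9 := by
      rw [Nat.card_congr (Subgroup.subgroupOfEquivOfLe hTN).toEquiv]; exact hcard
    rw [h2, hK.card_four] at h1
    omega
  have hinj : Function.Injective φ := by
    have hsurj : Function.Surjective φ.rangeRestrict := φ.rangeRestrict_surjective
    have hc : Nat.card NM ≤ Nat.card φ.range := by
      rw [hrange, hcardN, Nat.card_prod, DihedralGroup.nat_card]
    have hbij := hsurj.bijective_of_nat_card_le hc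
    intro x y hxy
    apply hbij.1
    exact Subtype.ext hxy
  refine ⟨⟨hinj, ?_⟩, hrange⟩
  have hsq : ∀ (m m' : NM) (g : G), m ^ 2 ≠ 1 → g * φ m * g⁻¹ = φ m' → m' ^ 2 ≠ 1 := by
    intro m m' g hm hgm h1
    apply hm
    apply hinj
    have h2 : (g * φ m * g⁻¹) ^ 2 = 1 := by rw [hgm, ← map_pow, h1, map_one]
    rw [conj_pow] at h2
    have h3 : φ m ^ 2 = 1 := by
      have h4 := congrArg (fun y => g⁻¹ * y * g) h2
      simpa [mul_assoc] using h4
    rw [map_pow, h3, map_one]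
  have key : ∀ (m m' : NM) (g : G), m ^ 2 ≠ 1 → g * φ m * g⁻¹ = φ m' →
      ∀ t ∈ (T : Subgroup G), g * t * g⁻¹ ∈ (T : Subgroup G) := by
    intro m m' g hm hgm t ht
    obtain ⟨i, j, hm4, hne⟩ := s3su3_nm_pow4 m hm
    have hxT : φ (m ^ 4) ∈ (T : Subgroup G) := by
      rw [hm4, hφ0, hg.memT]; exact ⟨_, _, rfl⟩
    have hm' : m' ^ 2 ≠ 1 := hsq m m' g hm hgm
    obtain ⟨i', j', hm'4, hne'⟩ := s3su3_nm_pow4 m' hm'
    have hx' : g * φ (m ^ 4) * g⁻¹ = φ (m' ^ 4) := by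
      rw [map_pow, map_pow, ← hgm, conj_pow]
    have hx'T : g * φ (m ^ 4) * g⁻¹ ∈ (T : Subgroup G) := by
      rw [hx', hm'4, hφ0, hg.memT]; exact ⟨_, _, rfl⟩
    have hx'1 : g * φ (m ^ 4) * g⁻¹ ≠ 1 := by
      rw [hx', hm'4]; intro h1; exact hne' (hinj (by rw [h1, map_one]))
    have hcomm : t * φ (m ^ 4) = φ (m ^ 4) * t := by
      have h1 := hT.1.is_comm.comm (⟨t, ht⟩ : (T : Subgroup G)) ⟨φ (m ^ 4), hxT⟩
      exact congrArg Subtype.val h1
    have hyN : g * t * g⁻¹ ∈ Subgroup.normalizer ((T : Subgroup G) : Set G) := by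
      apply hloc _ hx'T hx'1
      rw [Subgroup.mem_centralizer_iff]
      intro z hz
      rw [Set.mem_singleton_iff] at hz
      rw [hz]
      calc g * φ (m ^ 4) * g⁻¹ * (g * t * g⁻¹) = g * (φ (m ^ 4) * t) * g⁻¹ := by group
        _ = g * (t * φ (m ^ 4)) * g⁻¹ := by rw [hcomm]
        _ = g * t * g⁻¹ * (g * φ (m ^ 4) * g⁻¹) := by group
    have hy3 : (g * t * g⁻¹) ^ 3 = 1 := by
      rw [conj_pow, hT.2 t ht]; group
    have h3 : ∀ q : ↥(Subgroup.normalizer ((T : Subgroup G) : Set G)) ⧸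
        (T : Subgroup G).subgroupOf (Subgroup.normalizer ((T : Subgroup G) : Set G)),
        q ^ 3 = 1 → q = 1 := by
      intro q h3
      have h2 : q ^ 2 = 1 := by
        have h4 := Monoid.pow_exponent_eq_one q
        rwa [hK.exponent_two] at h4
      calc q = q ^ 3 * (q ^ 2)⁻¹ := by group
        _ = 1 := by rw [h3, h2]; simp
    have hq1 := h3 (QuotientGroup.mk (⟨g * t * g⁻¹, hyN⟩ :
        ↥(Subgroup.normalizer ((T : Subgroup G) : Set G)))) (by
      rw [← QuotientGroup.mk_pow]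
      have h5 : (⟨g * t * g⁻¹, hyN⟩ : ↥(Subgroup.normalizer ((T : Subgroup G) : Set G))) ^ 3 = 1 :=
        Subtype.ext hy3
      rw [h5]; rfl)
    rw [QuotientGroup.eq_one_iff, Subgroup.mem_subgroupOf] at hq1
    exact hq1
  intro m hm g hgm
  obtain ⟨m', hm'⟩ := hgm
  rw [hrange, Subgroup.mem_normalizer_iff]
  intro x
  constructor
  · exact key m m' g hm hm'.symm x
  · intro hx
    have h1 := key m' m g⁻¹ (hsq m m' g hm hm'.symm) (by rw [hm']; group) _ hx
    have h2 : g⁻¹ * (g * x * g⁻¹) * g⁻¹⁻¹ = x := by group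
    rwa [h2] at h1

end Cfsg.Agent.Helper31
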