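import Mathlib
import Cfsg.Agent.Helper94.S43Defs

/-!
# helper31: CALL S43 piece EXT (Vandermonde extraction of the top coefficient).
-/

set_option autoImplicit false

namespace Cfsg.Agent.Helper31.S43EXT

open Matrix Cfsg.Agent.Helper71.T4 Cfsg.Agent.Helper94.S43
open scoped Kronecker

variable {F : Type*} [Field F]

theorem ext5 {V : Type*} [AddCommGroup V] [Module F V] [Fintype F] (hq : 5 ≤ Fintype.card F)
    (P : Submodule F V) (c₀ c₁ c₂ c₃ c₄ : V)
    (h : ∀ t : F, c₀ + t • c₁ + t ^ 2 • c₂ + t ^ 3 • c₃ + t ^ 4 • c₄ ∈ P) : c₄ ∈ P := by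
  classical
  obtain ⟨e⟩ : Nonempty (Fin 5 ↪ F) :=
    Function.Embedding.nonempty_of_card_le (by simpa using hq)
  have hdet : (Matrix.vandermonde e).det ≠ 0 := by
    rw [Matrix.det_vandermonde_ne_zero_iff]
    exact e.injective
  have hunit : IsUnit (Matrix.vandermonde e).det := isUnit_iff_ne_zero.mpr hdet
  have hrow : ∀ i, ∑ j, (Matrix.vandermonde e) i j • (![c₀, c₁, c₂, c₃, c₄] : Fin 5 → V) j ∈ P := by
    intro i
    have h1 := h (e i)
    have h2 : ∑ j, (Matrix.vandermonde e) i j • (![c₀, c₁, c₂, c₃, c₄] : Fin 5 → V) j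
        = c₀ + e i • c₁ + e i ^ 2 • c₂ + e i ^ 3 • c₃ + e i ^ 4 • c₄ := by
      simp [Fin.sum_univ_five, Matrix.vandermonde_apply]
    rw [h2]
    exact h1
  have key : ∀ k, (![c₀, c₁, c₂, c₃, c₄] : Fin 5 → V) k
      = ∑ i, (Matrix.vandermonde e)⁻¹ k i •
          ∑ j, (Matrix.vandermonde e) i j • (![c₀, c₁, c₂, c₃, c₄] : Fin 5 → V) j := by
    intro k
    simp only [Finset.smul_sum, smul_smul]
    rw [Finset.sum_comm]
    simp only [← Finset.sum_smul, ← Matrix.mul_apply]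
    rw [Matrix.nonsing_inv_mul _ hunit]
    simp [Matrix.one_apply]
  have h4 := key 4
  have h5 : (![c₀, c₁, c₂, c₃, c₄] : Fin 5 → V) 4 = c₄ := rfl
  rw [h5] at h4
  rw [h4]
  exact P.sum_mem fun i _ => P.smul_mem _ (hrow i)

end Cfsg.Agent.Helper31.S43EXT
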