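import Mathlib
import Cfsg.Agent.Helper94.S43Defs

/-!
# helper31: CALL S43 piece SB4 (symplectic basis of `F^4`).
-/

set_option autoImplicit false
set_option linter.unusedSectionVars false
set_option linter.unusedVariables false

namespace Cfsg.Agent.Helper31.S43SB4

open Matrix Cfsg.Agent.Helper71.T4 Cfsg.Agent.Helper94.S43
open scoped Kronecker

variable {F : Type*} [Field F]

/-- The bilinear form of the Gram matrix `G`. -/
def Bf (G : Matrix (Fin 4) (Fin 4) F) (x y : Fin 4 → F) : F := x ⬝ᵥ (G *ᵥ y)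

theorem Bf_add_left (G : Matrix (Fin 4) (Fin 4) F) (x x' y : Fin 4 → F) :
    Bf G (x + x') y = Bf G x y + Bf G x' y := by
  unfold Bf
  rw [add_dotProduct]

theorem Bf_sub_left (G : Matrix (Fin 4) (Fin 4) F) (x x' y : Fin 4 → F) :
    Bf G (x - x') y = Bf G x y - Bf G x' y := by
  unfold Bf
  rw [sub_dotProduct]

theorem Bf_smul_left (G : Matrix (Fin 4) (Fin 4) F) (c : F) (x y : Fin 4 → F) :
    Bf G (c • x) y = c * Bf G x y := by
  unfold Bf
  rw [smul_dotProduct, smul_eq_mul]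

theorem Bf_add_right (G : Matrix (Fin 4) (Fin 4) F) (x y y' : Fin 4 → F) :
    Bf G x (y + y') = Bf G x y + Bf G x y' := by
  unfold Bf
  rw [Matrix.mulVec_add, dotProduct_add]

theorem Bf_sub_right (G : Matrix (Fin 4) (Fin 4) F) (x y y' : Fin 4 → F) :
    Bf G x (y - y') = Bf G x y - Bf G x y' := by
  unfold Bf
  rw [Matrix.mulVec_sub, dotProduct_sub]

theorem Bf_smul_right (G : Matrix (Fin 4) (Fin 4) F) (c : F) (x y : Fin 4 → F) :
    Bf G x (c • y) = c * Bf G x y := by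
  unfold Bf
  rw [Matrix.mulVec_smul, dotProduct_smul, smul_eq_mul]

theorem Bf_skew {G : Matrix (Fin 4) (Fin 4) F} (hG : Gᵀ = -G) (x y : Fin 4 → F) :
    Bf G y x = - Bf G x y := by
  unfold Bf
  rw [Matrix.dotProduct_mulVec, ← Matrix.mulVec_transpose, hG, Matrix.neg_mulVec, neg_dotProduct,
    dotProduct_comm]

theorem Bf_self {G : Matrix (Fin 4) (Fin 4) F} (hG : Gᵀ = -G) (hdiag : ∀ i, G i i = 0)
    (x : Fin 4 → F) : Bf G x x = 0 := by
  have h : ∀ i j, G j i = - G i j := fun i j => by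
    have := congrFun (congrFun hG i) j
    simpa using this
  unfold Bf
  simp only [dotProduct, Matrix.mulVec, Fin.sum_univ_four]
  rw [hdiag 0, hdiag 1, hdiag 2, hdiag 3, h 0 1, h 0 2, h 0 3, h 1 2, h 1 3, h 2 3]
  ring

theorem Bf_single_right (G : Matrix (Fin 4) (Fin 4) F) (x : Fin 4 → F) (l : Fin 4) :
    Bf G x (Pi.single l 1) = (x ᵥ* G) l := by
  classical
  unfold Bf
  rw [Matrix.dotProduct_mulVec]
  simp [dotProduct, Pi.single_apply]

theorem Bf_single (G : Matrix (Fin 4) (Fin 4) F) (i j : Fin 4) :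
    Bf G (Pi.single i 1) (Pi.single j 1) = G i j := by
  classical
  rw [Bf_single_right]
  simp [Matrix.vecMul, dotProduct, Pi.single_apply]

theorem sb4_of_vectors (G : Matrix (Fin 4) (Fin 4) F) (hG : Gᵀ = -G) (hdiag : ∀ i, G i i = 0)
    (v0 v1 v2 v3 : Fin 4 → F)
    (h01 : Bf G v0 v1 = 0) (h02 : Bf G v0 v2 = 0) (h03 : Bf G v0 v3 = 1)
    (h12 : Bf G v1 v2 = 1) (h13 : Bf G v1 v3 = 0) (h23 : Bf G v2 v3 = 0) :
    ∃ A : Matrix (Fin 4) (Fin 4) F, A.det ≠ 0 ∧ Aᵀ * G * A = J4 F := by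
  have skew := Bf_skew hG
  have self := Bf_self hG hdiag
  have h10 : Bf G v1 v0 = 0 := by rw [skew, h01, neg_zero]
  have h20 : Bf G v2 v0 = 0 := by rw [skew, h02, neg_zero]
  have h30 : Bf G v3 v0 = -1 := by rw [skew, h03]
  have h21 : Bf G v2 v1 = -1 := by rw [skew, h12]
  have h31 : Bf G v3 v1 = 0 := by rw [skew, h13, neg_zero]
  have h32 : Bf G v3 v2 = 0 := by rw [skew, h23, neg_zero]
  have key : ∀ s t, ((Matrix.of fun r s => (![v0, v1, v2, v3] s) r : Matrix (Fin 4) (Fin 4) F)ᵀ * G *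
        (Matrix.of fun r s => (![v0, v1, v2, v3] s) r : Matrix (Fin 4) (Fin 4) F)) s t
      = Bf G (![v0, v1, v2, v3] s) (![v0, v1, v2, v3] t) := by
    intro s t
    unfold Bf
    rw [Matrix.dotProduct_mulVec, Matrix.mul_apply]
    rfl
  have hAGA : (Matrix.of fun r s => (![v0, v1, v2, v3] s) r : Matrix (Fin 4) (Fin 4) F)ᵀ * G *
        (Matrix.of fun r s => (![v0, v1, v2, v3] s) r : Matrix (Fin 4) (Fin 4) F) = J4 F := by
    ext s t
    rw [key]
    fin_cases s <;> fin_cases t <;>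
      simp [J4, self, h01, h02, h03, h12, h13, h23, h10, h20, h30, h21, h31, h32]
  refine ⟨_, ?_, hAGA⟩
  intro hdetA
  have hJ : (J4 F).det = 0 := by
    rw [← hAGA, Matrix.det_mul, hdetA, mul_zero]
  have hJJ : J4 F * J4 F = -1 := by
    ext i j
    fin_cases i <;> fin_cases j <;> simp [J4, Matrix.mul_apply, Fin.sum_univ_four]
  have h0 : (J4 F * J4 F).det = 0 := by rw [Matrix.det_mul, hJ, mul_zero]
  rw [hJJ, Matrix.det_neg, Matrix.det_one] at h0
  norm_num at h0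

theorem sb4_of_pair (G : Matrix (Fin 4) (Fin 4) F) (hG : Gᵀ = -G) (hdiag : ∀ i, G i i = 0)
    (hdet : G.det ≠ 0) (v0 v3 w : Fin 4 → F) (h03 : Bf G v0 v3 = 1) (hw : w ≠ 0)
    (hw0 : Bf G w v0 = 0) (hw3 : Bf G w v3 = 0) :
    ∃ A : Matrix (Fin 4) (Fin 4) F, A.det ≠ 0 ∧ Aᵀ * G * A = J4 F := by
  classical
  have skew := Bf_skew hG
  have self := Bf_self hG hdiag
  have h30 : Bf G v3 v0 = -1 := by rw [skew v0 v3, h03]
  obtain ⟨l, hl⟩ : ∃ l, Bf G w (Pi.single l 1) ≠ 0 := by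
    by_contra hne
    apply hw
    apply Matrix.eq_zero_of_vecMul_eq_zero hdet
    ext l
    by_contra h
    apply hne
    refine ⟨l, ?_⟩
    rw [Bf_single_right]
    exact h
  obtain ⟨y, hy⟩ : ∃ y : Fin 4 → F, y = Pi.single l 1 := ⟨_, rfl⟩
  rw [← hy] at hl
  have e0 : Bf G (y - Bf G y v3 • v0 + Bf G y v0 • v3) v0 = 0 := by
    rw [Bf_add_left, Bf_sub_left, Bf_smul_left, Bf_smul_left, self, h30]
    ring
  have e3 : Bf G (y - Bf G y v3 • v0 + Bf G y v0 • v3) v3 = 0 := by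
    rw [Bf_add_left, Bf_sub_left, Bf_smul_left, Bf_smul_left, self, h03]
    ring
  have ew : Bf G w (y - Bf G y v3 • v0 + Bf G y v0 • v3) = Bf G w y := by
    rw [Bf_add_right, Bf_sub_right, Bf_smul_right, Bf_smul_right, hw0, hw3]
    ring
  obtain ⟨z, hz⟩ : ∃ z : Fin 4 → F, z = y - Bf G y v3 • v0 + Bf G y v0 • v3 := ⟨_, rfl⟩
  rw [← hz] at e0 e3 ew
  refine sb4_of_vectors G hG hdiag v0 w ((Bf G w y)⁻¹ • z) v3 ?_ ?_ h03 ?_ hw3 ?_
  · rw [skew w v0, hw0, neg_zero]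
  · rw [Bf_smul_right, skew z v0, e0, neg_zero, mul_zero]
  · rw [Bf_smul_right, ew]
    exact inv_mul_cancel₀ hl
  · rw [Bf_smul_left, e3, mul_zero]

theorem symp_basis4 (G : Matrix (Fin 4) (Fin 4) F) (hG : Gᵀ = -G) (hdiag : ∀ i, G i i = 0)
    (hdet : G.det ≠ 0) : ∃ A : Matrix (Fin 4) (Fin 4) F, A.det ≠ 0 ∧ Aᵀ * G * A = J4 F := by
  classical
  have skew := Bf_skew hG
  have self := Bf_self hG hdiag
  obtain ⟨i, j, hij⟩ : ∃ i j, G i j ≠ 0 := by
    by_contra hne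
    apply hdet
    have h0 : G = 0 := by
      ext i j
      by_contra h
      exact hne ⟨i, j, h⟩
    rw [h0, Matrix.det_zero]
  have hk : ∀ i j : Fin 4, ∃ k, k ≠ i ∧ k ≠ j := by decide
  obtain ⟨k, hki, hkj⟩ := hk i j
  have h03 : Bf G (Pi.single i 1) ((G i j)⁻¹ • Pi.single j 1) = 1 := by
    rw [Bf_smul_right, Bf_single]
    exact inv_mul_cancel₀ hij
  have h30 : Bf G ((G i j)⁻¹ • Pi.single j 1) (Pi.single i 1) = -1 := by
    rw [skew (Pi.single i 1) ((G i j)⁻¹ • Pi.single j 1), h03]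
  obtain ⟨v0, hv0⟩ : ∃ v0 : Fin 4 → F, v0 = Pi.single i 1 := ⟨_, rfl⟩
  obtain ⟨v3, hv3⟩ : ∃ v3 : Fin 4 → F, v3 = (G i j)⁻¹ • Pi.single j 1 := ⟨_, rfl⟩
  rw [← hv0, ← hv3] at h03 h30
  have e0 : Bf G ((Pi.single k 1 : Fin 4 → F) - Bf G (Pi.single k 1) v3 • v0
      + Bf G (Pi.single k 1) v0 • v3) v0 = 0 := by
    rw [Bf_add_left, Bf_sub_left, Bf_smul_left, Bf_smul_left, self, h30]
    ring
  have e3 : Bf G ((Pi.single k 1 : Fin 4 → F) - Bf G (Pi.single k 1) v3 • v0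
      + Bf G (Pi.single k 1) v0 • v3) v3 = 0 := by
    rw [Bf_add_left, Bf_sub_left, Bf_smul_left, Bf_smul_left, self, h03]
    ring
  refine sb4_of_pair G hG hdiag hdet v0 v3 _ h03 ?_ e0 e3
  intro h
  have h1 := congrFun h k
  simp [hv0, hv3, hki, hkj] at h1

end Cfsg.Agent.Helper31.S43SB4
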