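import Mathlib
import Cfsg.Agent.Helper94.S43Defs

/-!
# helper31: CALL S43 piece TRS4 (transvections of `Sp_4`, transitivity on nonzero vectors).
-/

set_option autoImplicit false
set_option linter.unusedSectionVars false
set_option linter.unusedVariables false

namespace Cfsg.Agent.Helper31.S43TRS4

open Matrix Cfsg.Agent.Helper71.T4 Cfsg.Agent.Helper94.S43
open scoped Kronecker

variable {F : Type*} [Field F]

theorem tv4_sp (u : Fin 4 → F) (c : F) : (tv4 u c)ᵀ * J4 F * tv4 u c = J4 F := by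
  ext i j
  fin_cases i <;> fin_cases j <;>
    simp [tv4, J4, Matrix.mul_apply, Fin.sum_univ_four,
      dotProduct, Matrix.one_apply, Matrix.transpose_apply] <;> ring

theorem tv4_mul (u : Fin 4 → F) (c d : F) : tv4 u c * tv4 u d = tv4 u (c + d) := by
  ext i j
  fin_cases i <;> fin_cases j <;>
    simp [tv4, J4, Matrix.mul_apply, Fin.sum_univ_four,
      dotProduct, Matrix.one_apply] <;> ring

theorem tv4_zero (u : Fin 4 → F) : tv4 u (0 : F) = 1 := by
  unfold tv4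
  rw [zero_smul, add_zero]

theorem tv4_pow (u : Fin 4 → F) (c : F) (n : ℕ) : tv4 u c ^ n = tv4 u (n * c) := by
  induction n with
  | zero => rw [pow_zero, Nat.cast_zero, zero_mul, tv4_zero]
  | succ k ih =>
    rw [pow_succ, ih, tv4_mul]
    congr 1
    push_cast
    ring

theorem tv4_pow_char (p : ℕ) [CharP F p] (u : Fin 4 → F) (c : F) : tv4 u c ^ p = 1 := by
  rw [tv4_pow, CharP.cast_eq_zero, zero_mul, tv4_zero]

/-- The alternating form `x ⬝ J4 y`. -/
def Bj (x y : Fin 4 → F) : F := x ⬝ᵥ (J4 F *ᵥ y)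

theorem Bj_apply (x y : Fin 4 → F) :
    Bj x y = x 0 * y 3 + x 1 * y 2 - x 2 * y 1 - x 3 * y 0 := by
  simp [Bj, J4, Matrix.mulVec, dotProduct, Fin.sum_univ_four]
  ring

theorem tv4_mulVec (v : Fin 4 → F) (c : F) (x : Fin 4 → F) :
    tv4 v c *ᵥ x = x - (c * Bj v x) • v := by
  have h := Bj_apply v x
  ext i
  fin_cases i <;>
    simp [tv4, J4, Matrix.mulVec, dotProduct, Fin.sum_univ_four,
      Matrix.one_apply, h] <;> ring

theorem exists_Bj_ne (u : Fin 4 → F) (hu : u ≠ 0) : ∃ x : Fin 4 → F, Bj u x ≠ 0 := by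
  by_contra hne
  apply hu
  have h : ∀ x : Fin 4 → F, Bj u x = 0 := fun x => by
    by_contra hx
    exact hne ⟨x, hx⟩
  have h0 := h ![0, 0, 0, 1]
  have h1 := h ![0, 0, 1, 0]
  have h2 := h ![0, 1, 0, 0]
  have h3 := h ![1, 0, 0, 0]
  rw [Bj_apply] at h0 h1 h2 h3
  simp at h0 h1 h2 h3
  ext i
  fin_cases i
  · exact h0
  · exact h1
  · exact h2
  · exact h3

/-- One transvection step: if `Bj u u' ≠ 0` then a transvection maps `u` to `u'`. -/
theorem step (u u' : Fin 4 → F) (h : Bj u u' ≠ 0) :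
    ∃ A A' : Matrix (Fin 4) (Fin 4) F, Aᵀ * J4 F * A = J4 F ∧ A * A' = 1 ∧ A' * A = 1 ∧
      A *ᵥ u = u' := by
  have hB : Bj (u' - u) u = - Bj u u' := by
    rw [Bj_apply, Bj_apply]
    simp only [Pi.sub_apply]
    ring
  refine ⟨tv4 (u' - u) ((Bj u u')⁻¹), tv4 (u' - u) (-(Bj u u')⁻¹), tv4_sp _ _, ?_, ?_, ?_⟩
  · rw [tv4_mul, add_neg_cancel, tv4_zero]
  · rw [tv4_mul, neg_add_cancel, tv4_zero]
  · rw [tv4_mulVec, hB]
    have h1 : (Bj u u')⁻¹ * -Bj u u' = -1 := by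
      field_simp
    rw [h1, neg_one_smul]
    abel

theorem sp4_trans (u u' : Fin 4 → F) (hu : u ≠ 0) (hu' : u' ≠ 0) :
    ∃ A A' : Matrix (Fin 4) (Fin 4) F, Aᵀ * J4 F * A = J4 F ∧ A * A' = 1 ∧ A' * A = 1 ∧
      A *ᵥ u = u' := by
  -- find `z` with `Bj u z ≠ 0` and `Bj z u' ≠ 0`
  have hz : ∃ z : Fin 4 → F, Bj u z ≠ 0 ∧ Bj z u' ≠ 0 := by
    obtain ⟨x, hx⟩ := exists_Bj_ne u hu
    obtain ⟨y, hy⟩ := exists_Bj_ne u' hu'
    have hskew : ∀ a b : Fin 4 → F, Bj a b = - Bj b a := by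
      intro a b
      rw [Bj_apply, Bj_apply]
      ring
    have hadd : ∀ a b b' : Fin 4 → F, Bj a (b + b') = Bj a b + Bj a b' := by
      intro a b b'
      rw [Bj_apply, Bj_apply, Bj_apply]
      simp only [Pi.add_apply]
      ring
    by_cases h1 : Bj u' x = 0
    · by_cases h2 : Bj u y = 0
      · refine ⟨x + y, ?_, ?_⟩
        · rw [hadd, h2, add_zero]
          exact hx
        · rw [hskew, hadd, h1, zero_add]
          exact neg_ne_zero.mpr hy
      · refine ⟨y, h2, ?_⟩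
        rw [hskew]
        exact neg_ne_zero.mpr hy
    · refine ⟨x, hx, ?_⟩
      rw [hskew]
      exact neg_ne_zero.mpr h1
  obtain ⟨z, hz1, hz2⟩ := hz
  obtain ⟨A, A', hA, hAA', hA'A, hAu⟩ := step u z hz1
  obtain ⟨B, B', hB, hBB', hB'B, hBz⟩ := step z u' hz2
  refine ⟨B * A, A' * B', ?_, ?_, ?_, ?_⟩
  · rw [Matrix.transpose_mul]
    calc Aᵀ * Bᵀ * J4 F * (B * A) = Aᵀ * (Bᵀ * J4 F * B) * A := by
          simp only [Matrix.mul_assoc]
      _ = J4 F := by rw [hB, hA]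
  · calc B * A * (A' * B') = B * (A * A') * B' := by simp only [Matrix.mul_assoc]
      _ = 1 := by rw [hAA', Matrix.mul_one, hBB']
  · calc A' * B' * (B * A) = A' * (B' * B) * A := by simp only [Matrix.mul_assoc]
      _ = 1 := by rw [hB'B, Matrix.mul_one, hA'A]
  · rw [← Matrix.mulVec_mulVec, hAu, hBz]

end Cfsg.Agent.Helper31.S43TRS4
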