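import Mathlib
import Cfsg.Prelude.Def_GeometricClasses
import Cfsg.Prelude.Def_Classical

set_option autoImplicit false
set_option linter.unusedVariables false

/-!
# helper31: sub-CALL S88R2 (helper90, row S5988), piece EIGBASIS (`r2e_eig_basis`, verbatim).
-/

namespace Cfsg.Agent.Helper31.S88R2

open Module Cfsg Cfsg.Geo
open scoped MatrixGroups

section pieces

variable {ι : Type} [Fintype ι] [DecidableEq ι] {F : Type*} [Field F] [Fintype F]

/-- EIGBASIS [L] (`s² = -1`): a hyperbolic basis adapted to the eigenspaces `E₊ = ker (M - s)`,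
`E₋ = ker (M + s)` (both totally singular, `V = E₊ ⊕ E₋`, the polar form pairs them perfectly).
Induction as in `Helper6.TSR2.r2_skew_basis`: in an invariant nondegenerate `D ≠ 0` pick an
eigenvector `e ∈ D ⊓ E₊`, then `f' ∈ D` with `B(e, f') ≠ 0`, project `f'` to `E₋`
(`f = (s f' - M f') / (2 s) ∈ D ⊓ E₋`, `B(e, f) = B(e, f')` because `e ⊥ E₊`), rescale, pass to the
perp of `⟨e, f⟩` in `D`.  (`Q (e j) = Q (f j) = 0` and `B(e j, e l) = B(f j, f l) = 0` follow from
the eigen-equations.) -/
theorem r2e_eig_basis (Q : (ι → F) → F) (hQ : IsNondegenerateQuadraticForm Q) (h2 : (2 : F) ≠ 0)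
    (d : ℕ) (hcard : Fintype.card ι = 2 * d) (M : Matrix ι ι F) (hM : ∀ v, Q (M.mulVec v) = Q v)
    (hM2 : M * M = -1) (s : F) (hs : s * s = -1) :
    ∃ e f : Fin d → (ι → F), (∀ j, M.mulVec (e j) = s • e j) ∧
      (∀ j, M.mulVec (f j) = (-s) • f j) ∧ (∀ j, QuadraticMap.polar Q (e j) (f j) = 1) ∧
      ∀ j l, j ≠ l → QuadraticMap.polar Q (e j) (f l) = 0 := by
  classical
  have hbil := hQ.polar_bilinear
  have hsymm : ∀ x y, QuadraticMap.polar Q x y = QuadraticMap.polar Q y x :=
    fun x y => QuadraticMap.polar_comm Q x y
  have hiso : ∀ x y, QuadraticMap.polar Q (M.mulVec x) (M.mulVec y) = QuadraticMap.polar Q x y := by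
    intro x y
    show Q (M.mulVec x + M.mulVec y) - Q (M.mulVec x) - Q (M.mulVec y) = Q (x + y) - Q x - Q y
    rw [← Matrix.mulVec_add, hM, hM, hM]
  have hMM : ∀ x, M.mulVec (M.mulVec x) = -x := by
    intro x
    rw [Matrix.mulVec_mulVec, hM2, Matrix.neg_mulVec, Matrix.one_mulVec]
  have hzeroR : ∀ z, QuadraticMap.polar Q z 0 = 0 := by
    intro z
    have h3 := hbil.smul_right 0 z 0
    simpa using h3
  have hsumR : ∀ (k : ℕ) (S : Finset (Fin k)) (c : Fin k → F) (u : Fin k → (ι → F)) (z : ι → F),
      QuadraticMap.polar Q z (∑ j ∈ S, c j • u j) = ∑ j ∈ S, c j * QuadraticMap.polar Q z (u j) := by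
    intro k S c u z
    induction S using Finset.induction_on with
    | empty => simp [hzeroR]
    | insert a S ha ih =>
      rw [Finset.sum_insert ha, Finset.sum_insert ha, hbil.add_right, hbil.smul_right, ih]
  have hm1 : (-1 : F) ≠ 1 := by
    intro h
    apply h2
    have h3 : (2 : F) = 1 - (-1) := by ring
    rw [h3, h, sub_self]
  -- eigenvectors with eigenvalue product `≠ 1` are perpendicular
  have hEE : ∀ (a b : F) (x y : ι → F), M.mulVec x = a • x → M.mulVec y = b • y → a * b ≠ 1 →
      QuadraticMap.polar Q x y = 0 := by
    intro a b x y hx hy hab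
    have h3 := hiso x y
    rw [hx, hy, hbil.smul_left, hbil.smul_right] at h3
    have h4 : (a * b - 1) * QuadraticMap.polar Q x y = 0 := by linear_combination h3
    exact (mul_eq_zero.1 h4).resolve_left (sub_ne_zero.2 hab)
  -- the projections onto the eigenspaces
  have hproj : ∀ t : F, t * t = -1 → ∀ v : ι → F,
      M.mulVec ((2 * t)⁻¹ • (t • v + M.mulVec v)) = t • ((2 * t)⁻¹ • (t • v + M.mulVec v)) := by
    intro t ht v
    rw [Matrix.mulVec_smul, Matrix.mulVec_add, Matrix.mulVec_smul, hMM]
    have h3 : t • t • v = -v := by rw [smul_smul, ht, neg_one_smul]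
    rw [smul_comm t ((2 * t)⁻¹), smul_add t, h3, add_comm]
  have hsplit : ∀ t : F, t * t = -1 → ∀ v : ι → F,
      v = (2 * t)⁻¹ • (t • v + M.mulVec v) + (2 * (-t))⁻¹ • ((-t) • v + M.mulVec v) := by
    intro t ht v
    have ht0 : t ≠ 0 := by
      rintro rfl
      rw [mul_zero] at ht
      exact one_ne_zero (neg_eq_zero.mp ht.symm)
    have h3 : (2 * (-t))⁻¹ = -(2 * t)⁻¹ := by
      rw [mul_neg, inv_neg]
    rw [h3, neg_smul, ← smul_neg, ← smul_add]
    have h4 : t • v + M.mulVec v + -((-t) • v + M.mulVec v) = (2 * t) • v := by
      rw [neg_smul, two_mul, add_smul]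
      abel
    rw [h4, smul_smul, inv_mul_cancel₀ (mul_ne_zero h2 ht0), one_smul]
  -- the step
  have step : ∀ t : F, t * t = -1 → ∀ (k : ℕ) (e f : Fin k → (ι → F)),
      (∀ j, M.mulVec (e j) = t • e j) → (∀ j, M.mulVec (f j) = (-t) • f j) →
      (∀ j, QuadraticMap.polar Q (e j) (f j) = 1) →
      (∀ j l, j ≠ l → QuadraticMap.polar Q (e j) (f l) = 0) →
      ∀ x : ι → F, x ≠ 0 → M.mulVec x = t • x → (∀ j, QuadraticMap.polar Q x (f j) = 0) →
      ∃ y : ι → F, M.mulVec y = (-t) • y ∧ QuadraticMap.polar Q x y = 1 ∧
        ∀ j, QuadraticMap.polar Q (e j) y = 0 := by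
    intro t ht k e f he hf hef hefne x hx0 hx hxf
    have htt : t * t ≠ 1 := by rw [ht]; exact hm1
    have hnt : (-t) * (-t) = -1 := by rw [neg_mul_neg, ht]
    obtain ⟨w, hw⟩ := (hQ.nondegenerate x hx0).2
    obtain ⟨wm, hwm⟩ : ∃ wm : ι → F, wm = (2 * (-t))⁻¹ • ((-t) • w + M.mulVec w) := ⟨_, rfl⟩
    have hwmM : M.mulVec wm = (-t) • wm := by rw [hwm]; exact hproj (-t) hnt w
    have hxwm : QuadraticMap.polar Q x wm = QuadraticMap.polar Q x w := by
      have h3 := hsplit t ht w
      rw [← hwm] at h3
      have h4 : QuadraticMap.polar Q x w = QuadraticMap.polar Q x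
          ((2 * t)⁻¹ • (t • w + M.mulVec w)) + QuadraticMap.polar Q x wm := by
        rw [← hbil.add_right, ← h3]
      rw [h4, hEE t t x _ hx (hproj t ht w) htt, zero_add]
    obtain ⟨f', hf'⟩ : ∃ f' : ι → F,
        f' = wm + ∑ j, (-(QuadraticMap.polar Q (e j) wm)) • f j := ⟨_, rfl⟩
    have hf'M : M.mulVec f' = (-t) • f' := by
      rw [hf', Matrix.mulVec_add, Matrix.mulVec_sum, hwmM, smul_add, Finset.smul_sum]
      congr 1
      apply Finset.sum_congr rfl
      intro j _
      rw [Matrix.mulVec_smul, hf j, smul_comm]
    have hef' : ∀ l, QuadraticMap.polar Q (e l) f' = 0 := by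
      intro l
      rw [hf', hbil.add_right, hsumR]
      rw [Finset.sum_eq_single l (fun j _ hjl => by rw [hefne l j (Ne.symm hjl), mul_zero])
        (fun h => absurd (Finset.mem_univ l) h), hef l]
      ring
    have hxf' : QuadraticMap.polar Q x f' = QuadraticMap.polar Q x w := by
      rw [hf', hbil.add_right, hsumR, Finset.sum_eq_zero (fun j _ => by rw [hxf j, mul_zero]),
        add_zero, hxwm]
    refine ⟨(QuadraticMap.polar Q x w)⁻¹ • f', ?_, ?_, ?_⟩
    · rw [Matrix.mulVec_smul, hf'M, smul_comm]
    · rw [hbil.smul_right, hxf', inv_mul_cancel₀ hw]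
    · intro j
      rw [hbil.smul_right, hef' j, mul_zero]
  have hnn : (-s) * (-s) = -1 := by rw [neg_mul_neg, hs]
  have hss : s * s ≠ 1 := by rw [hs]; exact hm1
  have hnss : (-s) * (-s) ≠ 1 := by rw [hnn]; exact hm1
  have key : ∀ k : ℕ, k ≤ d → ∃ e f : Fin k → (ι → F), (∀ j, M.mulVec (e j) = s • e j) ∧
      (∀ j, M.mulVec (f j) = (-s) • f j) ∧ (∀ j, QuadraticMap.polar Q (e j) (f j) = 1) ∧
      ∀ j l, j ≠ l → QuadraticMap.polar Q (e j) (f l) = 0 := by
    intro k
    induction k with
    | zero =>
      intro _
      exact ⟨fun j => j.elim0, fun j => j.elim0, fun j => j.elim0, fun j => j.elim0,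
        fun j => j.elim0, fun j => j.elim0⟩
    | succ k ih =>
      intro hk
      obtain ⟨e, f, he, hf, hef, hefne⟩ := ih (by omega)
      let φ : (ι → F) →ₗ[F] (Fin k ⊕ Fin k → F) :=
        { toFun := fun x => Sum.elim (fun j => QuadraticMap.polar Q x (e j))
            (fun j => QuadraticMap.polar Q x (f j))
          map_add' := by
            intro x y
            funext i
            rcases i with j | j
            · simp only [Sum.elim_inl, Pi.add_apply]
              exact hbil.add_left x y _
            · simp only [Sum.elim_inr, Pi.add_apply]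
              exact hbil.add_left x y _
          map_smul' := by
            intro c x
            funext i
            rcases i with j | j
            · simp only [Sum.elim_inl, Pi.smul_apply, smul_eq_mul, RingHom.id_apply]
              exact hbil.smul_left c x _
            · simp only [Sum.elim_inr, Pi.smul_apply, smul_eq_mul, RingHom.id_apply]
              exact hbil.smul_left c x _ }
      have hdim : finrank F (Fin k ⊕ Fin k → F) < finrank F (ι → F) := by
        rw [Module.finrank_fintype_fun_eq_card, Module.finrank_fintype_fun_eq_card, hcard,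
          Fintype.card_sum, Fintype.card_fin]
        omega
      have hker := LinearMap.ker_ne_bot_of_finrank_lt (f := φ) hdim
      obtain ⟨x, hxk, hx0⟩ := (Submodule.ne_bot_iff _).1 hker
      have hxe : ∀ j, QuadraticMap.polar Q x (e j) = 0 := fun j =>
        congrFun (LinearMap.mem_ker.1 hxk) (Sum.inl j)
      have hxf : ∀ j, QuadraticMap.polar Q x (f j) = 0 := fun j =>
        congrFun (LinearMap.mem_ker.1 hxk) (Sum.inr j)
      obtain ⟨xp, hxp⟩ : ∃ xp : ι → F, xp = (2 * s)⁻¹ • (s • x + M.mulVec x) := ⟨_, rfl⟩
      obtain ⟨xm, hxm⟩ : ∃ xm : ι → F, xm = (2 * (-s))⁻¹ • ((-s) • x + M.mulVec x) := ⟨_, rfl⟩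
      have hxpM : M.mulVec xp = s • xp := by rw [hxp]; exact hproj s hs x
      have hxmM : M.mulVec xm = (-s) • xm := by rw [hxm]; exact hproj (-s) hnn x
      have hxsum : x = xp + xm := by rw [hxp, hxm]; exact hsplit s hs x
      have hxpf : ∀ j, QuadraticMap.polar Q xp (f j) = 0 := by
        intro j
        have h3 := hxf j
        rw [hxsum, hbil.add_left, hEE (-s) (-s) xm (f j) hxmM (hf j) hnss, add_zero] at h3
        exact h3
      have hxme : ∀ j, QuadraticMap.polar Q xm (e j) = 0 := by
        intro j
        have h3 := hxe j
        rw [hxsum, hbil.add_left, hEE s s xp (e j) hxpM (he j) hss, zero_add] at h3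
        exact h3
      by_cases hxp0 : xp = 0
      · have hxm0 : xm ≠ 0 := by
          intro h
          apply hx0
          rw [hxsum, hxp0, h, add_zero]
        obtain ⟨y, hyM, hxy, hfy⟩ := step (-s) hnn k f e hf
          (fun j => by rw [neg_neg]; exact he j)
          (fun j => by rw [hsymm]; exact hef j)
          (fun j l hjl => by rw [hsymm]; exact hefne l j (Ne.symm hjl)) xm hxm0 hxmM hxme
        rw [neg_neg] at hyM
        refine ⟨Fin.cons y e, Fin.cons xm f, ?_, ?_, ?_, ?_⟩
        · intro j
          induction j using Fin.cases with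
          | zero => simpa using hyM
          | succ j => simpa using he j
        · intro j
          induction j using Fin.cases with
          | zero => simpa using hxmM
          | succ j => simpa using hf j
        · intro j
          induction j using Fin.cases with
          | zero =>
            simp only [Fin.cons_zero]
            rw [hsymm]; exact hxy
          | succ j =>
            simp only [Fin.cons_succ]
            exact hef j
        · intro j l hjl
          induction j using Fin.cases with
          | zero =>
            induction l using Fin.cases with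
            | zero => exact absurd rfl hjl
            | succ l =>
              simp only [Fin.cons_zero, Fin.cons_succ]
              rw [hsymm]; exact hfy l
          | succ j =>
            induction l using Fin.cases with
            | zero =>
              simp only [Fin.cons_zero, Fin.cons_succ]
              rw [hsymm]; exact hxme j
            | succ l =>
              simp only [Fin.cons_succ]
              exact hefne j l (fun h => hjl (by rw [h]))
      · obtain ⟨y, hyM, hxy, hey⟩ := step s hs k e f he hf hef hefne xp hxp0 hxpM hxpf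
        refine ⟨Fin.cons xp e, Fin.cons y f, ?_, ?_, ?_, ?_⟩
        · intro j
          induction j using Fin.cases with
          | zero => simpa using hxpM
          | succ j => simpa using he j
        · intro j
          induction j using Fin.cases with
          | zero => simpa using hyM
          | succ j => simpa using hf j
        · intro j
          induction j using Fin.cases with
          | zero =>
            simp only [Fin.cons_zero]
            exact hxy
          | succ j =>
            simp only [Fin.cons_succ]
            exact hef j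
        · intro j l hjl
          induction j using Fin.cases with
          | zero =>
            induction l using Fin.cases with
            | zero => exact absurd rfl hjl
            | succ l =>
              simp only [Fin.cons_zero, Fin.cons_succ]
              exact hxpf l
          | succ j =>
            induction l using Fin.cases with
            | zero =>
              simp only [Fin.cons_zero, Fin.cons_succ]
              exact hey j
            | succ l =>
              simp only [Fin.cons_succ]
              exact hefne j l (fun h => hjl (by rw [h]))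
  exact key d le_rfl

end pieces

end Cfsg.Agent.Helper31.S88R2
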