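import Mathlib
import Cfsg.Agent.Helper13.SuBlk

set_option autoImplicit false

namespace Cfsg.Agent.Helper31

open Matrix
open Cfsg.Agent.Helper5 (frobQ frobQ_apply frobQ_frobQ)
open Cfsg.Agent.Helper99 (suH suG suAct suEl)
open Cfsg.Agent.Helper13 (bVec suBlk suLv BlkU)

variable {K : Type*} [Field K] [Fintype K] {q : ℕ}

/-- PIECE M2A -/
theorem su5_core_a (hK : Fintype.card K = q ^ 2) (p : ℕ) [Fact p.Prime] [CharP K p]
    (τ σ : K) (hστ : σ * τ = 1)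
    (a₀ a₁ c : K) (ha₀ : a₀ ≠ 0) (ha₁ : a₁ ≠ 0)
    (hc₀ : c + frobQ hK c + a₀ * frobQ hK a₀ = 0) (hc₁ : c + frobQ hK c + a₁ * frobQ hK a₁ = 0)
    (X X' Y A C : Matrix.SpecialLinearGroup (Fin 2) K) (hX : X.1 = !![1, 1; 0, 1])
    (hX' : X'.1 = !![1, τ + 1; 0, 1]) (hY : Y.1 = !![1, 0; -σ, 1]) (hA : A.1 = !![1, τ; 0, 1])
    (hC : C.1 = !![1 - σ, σ; -σ, 1 + σ])
    (H : Subgroup ↥(suG hK (2 * 2 + 1)))
    (h1 : suLv hK 2 X * suEl hK (bVec (Pi.single 1 1) 0 0) (bVec 0 0 a₀) c ∈ H)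
    (h2 : suLv hK 2 X' * suEl hK (bVec (Pi.single 1 1) 0 0) (bVec 0 0 a₀) c ∈ H)
    (h3 : suLv hK 2 Y * suEl hK (bVec 0 (Pi.single 1 1) 0) (bVec 0 0 a₁) c ∈ H) :
    suLv hK 2 A ∈ H ∧ suLv hK 2 Y ∈ H ∧ suLv hK 2 C ∈ H ∧
      suEl hK (bVec 0 (Pi.single 1 1) 0) (bVec 0 0 a₁) c ∈ H ∧
      ∃ g ∈ H, (∀ a' : Fin 2 → K, suAct g (bVec a' 0 0) = bVec a' 0 0) ∧
        suAct g (bVec 0 0 1) = bVec (Pi.single 0 (frobQ hK a₀ * τ)) 0 1 := by
  classical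
  -- the Eichler hypotheses
  have hEe : Cfsg.Agent.Helper99.SuHE hK (bVec (Pi.single 1 1 : Fin 2 → K) 0 0)
      (bVec (0 : Fin 2 → K) 0 a₀) c := by
    refine ⟨?_, ?_, ?_⟩
    · rw [Cfsg.Agent.Helper13.suH_bVec]; simp
    · rw [Cfsg.Agent.Helper13.suH_bVec]; simp
    · rw [Cfsg.Agent.Helper13.suH_bVec]; simp; exact hc₀
  have hEf : Cfsg.Agent.Helper99.SuHE hK (bVec (0 : Fin 2 → K) (Pi.single 1 1) 0)
      (bVec (0 : Fin 2 → K) 0 a₁) c := by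
    refine ⟨?_, ?_, ?_⟩
    · rw [Cfsg.Agent.Helper13.suH_bVec]; simp
    · rw [Cfsg.Agent.Helper13.suH_bVec]; simp
    · rw [Cfsg.Agent.Helper13.suH_bVec]; simp; exact hc₁
  -- matrix identities in SL₂
  have eq1 : X' = A * X := by
    apply Subtype.ext
    rw [Matrix.SpecialLinearGroup.coe_mul, hX', hA, hX]
    ext i j; fin_cases i <;> fin_cases j <;> simp [Matrix.mul_apply, Fin.sum_univ_two]
    ring
  have hmk : ∀ a b c d a' b' c' d' : K, a = a' → b = b' → c = c' → d = d' →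
      (!![a, b; c, d] : Matrix (Fin 2) (Fin 2) K) = !![a', b'; c', d'] := by
    intro a b c d a' b' c' d' h1 h2 h3 h4
    rw [h1, h2, h3, h4]
  have eq2 : A * Y * A = Y * A * Y := by
    apply Subtype.ext
    rw [Matrix.SpecialLinearGroup.coe_mul, Matrix.SpecialLinearGroup.coe_mul,
      Matrix.SpecialLinearGroup.coe_mul, Matrix.SpecialLinearGroup.coe_mul, hA, hY,
      Matrix.mul_fin_two, Matrix.mul_fin_two, Matrix.mul_fin_two, Matrix.mul_fin_two]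
    apply hmk
    · ring
    · linear_combination (-τ) * hστ
    · linear_combination (-σ) * hστ
    · ring
  have eq3 : C * X = X * Y := by
    apply Subtype.ext
    rw [Matrix.SpecialLinearGroup.coe_mul, Matrix.SpecialLinearGroup.coe_mul, hC, hX, hY]
    ext i j; fin_cases i <;> fin_cases j <;> simp [Matrix.mul_apply, Fin.sum_univ_two]
    all_goals ring
  have hXinv : (X⁻¹ : Matrix.SpecialLinearGroup (Fin 2) K).1 = !![1, -1; 0, 1] := by
    rw [Matrix.SpecialLinearGroup.coe_inv, hX, Matrix.adjugate_fin_two_of]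
    ext i j; fin_cases i <;> fin_cases j <;> simp
  have hAinv : (A⁻¹ : Matrix.SpecialLinearGroup (Fin 2) K).1 = !![1, -τ; 0, 1] := by
    rw [Matrix.SpecialLinearGroup.coe_inv, hA, Matrix.adjugate_fin_two_of]
    ext i j; fin_cases i <;> fin_cases j <;> simp
  have hA'' : ((A⁻¹ : Matrix.SpecialLinearGroup (Fin 2) K).1.map (frobQ hK))ᵀ *ᵥ
      (Pi.single 1 1 : Fin 2 → K) = Pi.single 1 1 := by
    rw [hAinv]
    ext i; fin_cases i <;> simp [Matrix.mulVec, dotProduct, Fin.sum_univ_two]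
  have hYs : Y.1 *ᵥ (Pi.single 1 1 : Fin 2 → K) = Pi.single 1 1 := by
    rw [hY]
    ext i; fin_cases i <;> simp [Matrix.mulVec, dotProduct, Fin.sum_univ_two]
  -- abbreviations
  obtain ⟨te, hte⟩ : ∃ te : ↥(suG hK (2 * 2 + 1)),
      te = suEl hK (bVec (Pi.single 1 1) 0 0) (bVec 0 0 a₀) c := ⟨_, rfl⟩
  obtain ⟨tf, htf⟩ : ∃ tf : ↥(suG hK (2 * 2 + 1)),
      tf = suEl hK (bVec 0 (Pi.single 1 1) 0) (bVec 0 0 a₁) c := ⟨_, rfl⟩
  rw [← hte] at h1 h2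
  rw [← htf] at h3 ⊢
  obtain ⟨LX, hLX⟩ : ∃ LX : ↥(suG hK (2 * 2 + 1)), LX = suLv hK 2 X := ⟨_, rfl⟩
  obtain ⟨LA, hLA⟩ : ∃ LA : ↥(suG hK (2 * 2 + 1)), LA = suLv hK 2 A := ⟨_, rfl⟩
  obtain ⟨LY, hLY⟩ : ∃ LY : ↥(suG hK (2 * 2 + 1)), LY = suLv hK 2 Y := ⟨_, rfl⟩
  obtain ⟨LC, hLC⟩ : ∃ LC : ↥(suG hK (2 * 2 + 1)), LC = suLv hK 2 C := ⟨_, rfl⟩
  have hLX' : suLv hK 2 X' = LA * LX := by rw [eq1, map_mul, hLA, hLX]
  have hbraid : LA * LY * LA = LY * LA * LY := by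
    rw [hLA, hLY, ← map_mul, ← map_mul, eq2, map_mul, map_mul]
  have hCX : LC * LX = LX * LY := by
    rw [hLC, hLX, hLY, ← map_mul, ← map_mul, eq3]
  rw [hLX'] at h2
  rw [← hLX] at h1
  rw [← hLY] at h3
  rw [← hLA, ← hLY, ← hLC]
  -- commutation relations
  have comm_tf_A : LA * tf = tf * LA := by
    have h4 := Cfsg.Agent.Helper99.suEl_conj hK p LA hEf
    have e1 : suAct LA (bVec (0 : Fin 2 → K) (Pi.single 1 1) 0) =
        bVec (0 : Fin 2 → K) (Pi.single 1 1) 0 := by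
      rw [hLA, Cfsg.Agent.Helper13.suAct_suLv, Matrix.mulVec_zero, hA'']
    have e2 : suAct LA (bVec (0 : Fin 2 → K) 0 a₁) = bVec (0 : Fin 2 → K) 0 a₁ := by
      rw [hLA, Cfsg.Agent.Helper13.suAct_suLv_E, Matrix.mulVec_zero]
    rw [e1, e2, ← htf] at h4
    calc LA * tf = (LA * tf * LA⁻¹) * LA := by group
      _ = tf * LA := by rw [h4]
  have comm_te_Y : LY * te = te * LY := by
    have h4 := Cfsg.Agent.Helper99.suEl_conj hK p LY hEe
    have e1 : suAct LY (bVec (Pi.single 1 1 : Fin 2 → K) 0 0) =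
        bVec (Pi.single 1 1 : Fin 2 → K) 0 0 := by
      rw [hLY, Cfsg.Agent.Helper13.suAct_suLv_E, hYs]
    have e2 : suAct LY (bVec (0 : Fin 2 → K) 0 a₀) = bVec (0 : Fin 2 → K) 0 a₀ := by
      rw [hLY, Cfsg.Agent.Helper13.suAct_suLv_E, Matrix.mulVec_zero]
    rw [e1, e2, ← hte] at h4
    calc LY * te = (LY * te * LY⁻¹) * LY := by group
      _ = te * LY := by rw [h4]
  -- (a)
  have hAH : LA ∈ H := by
    have e : LA = (LA * LX * te) * (LX * te)⁻¹ := by group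
    rw [e]
    exact H.mul_mem h2 (H.inv_mem h1)
  -- (b)
  have hNH : LY * LA * LY⁻¹ ∈ H := by
    have e : LY * LA * LY⁻¹ = (LY * tf) * LA * (LY * tf)⁻¹ := by
      have e' : (LY * tf) * LA * (LY * tf)⁻¹ = LY * (tf * LA) * tf⁻¹ * LY⁻¹ := by group
      rw [e', ← comm_tf_A]
      group
    rw [e]
    exact H.mul_mem (H.mul_mem h3 hAH) (H.inv_mem h3)
  have hYH : LY ∈ H := by
    have e : LY = LA * (LY * LA * LY⁻¹) * LA⁻¹ := by
      have e' : LA * (LY * LA * LY⁻¹) * LA⁻¹ = (LA * LY * LA) * LY⁻¹ * LA⁻¹ := by group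
      rw [e', hbraid]
      group
    rw [e]
    exact H.mul_mem (H.mul_mem hAH hNH) (H.inv_mem hAH)
  -- (d)
  have htfH : tf ∈ H := by
    have e : tf = LY⁻¹ * (LY * tf) := by group
    rw [e]
    exact H.mul_mem (H.inv_mem hYH) h3
  -- (c)
  have hCH : LC ∈ H := by
    have e : LC = (LX * te) * LY * (LX * te)⁻¹ := by
      have e' : (LX * te) * LY * (LX * te)⁻¹ = LX * (te * LY) * te⁻¹ * LX⁻¹ := by group
      rw [e', ← comm_te_Y]
      have e'' : LX * (LY * te) * te⁻¹ * LX⁻¹ = (LX * LY) * LX⁻¹ := by group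
      rw [e'', ← hCX]
      group
    rw [e]
    exact H.mul_mem (H.mul_mem h1 hYH) (H.inv_mem h1)
  refine ⟨hAH, hYH, hCH, htfH, ?_⟩
  -- (e)
  have F1 : ∀ (a : Fin 2 → K) (l : K), suAct (LX * te) (bVec a 0 l) =
      bVec (X.1 *ᵥ (a - (l * frobQ hK a₀) • Pi.single 1 1)) 0 l := by
    intro a l
    have e1 : suH hK (2 * 2 + 1) (bVec a 0 l) (bVec (Pi.single 1 1 : Fin 2 → K) 0 0) = 0 := by
      rw [Cfsg.Agent.Helper13.suH_bVec]; simp
    have e2 : suH hK (2 * 2 + 1) (bVec a 0 l) (bVec (0 : Fin 2 → K) 0 a₀) =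
        l * frobQ hK a₀ := by
      rw [Cfsg.Agent.Helper13.suH_bVec]; simp
    rw [Cfsg.Agent.Helper99.suAct_mul, hte, Cfsg.Agent.Helper99.suAct_suEl hK p hEe, e1, e2,
      zero_smul, mul_zero, zero_smul, add_zero, add_zero, Cfsg.Agent.Helper13.bVec_smul,
      Cfsg.Agent.Helper13.bVec_sub, hLX, smul_zero, sub_zero, mul_zero, sub_zero,
      Cfsg.Agent.Helper13.suAct_suLv_E]
  have F2 : ∀ (a : Fin 2 → K) (l : K), suAct (LX * te)⁻¹ (bVec a 0 l) =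
      bVec ((X⁻¹ : Matrix.SpecialLinearGroup (Fin 2) K).1 *ᵥ a +
        (l * frobQ hK a₀) • Pi.single 1 1) 0 l := by
    intro a l
    have h4 := Cfsg.Agent.Helper99.suAct_inv_suAct (LX * te)
      (bVec ((X⁻¹ : Matrix.SpecialLinearGroup (Fin 2) K).1 *ᵥ a +
        (l * frobQ hK a₀) • Pi.single 1 1) 0 l)
    rw [F1, add_sub_cancel_right, Matrix.mulVec_mulVec, ← Matrix.SpecialLinearGroup.coe_mul,
      mul_inv_cancel, Matrix.SpecialLinearGroup.coe_one, Matrix.one_mulVec] at h4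
    exact h4
  have key : ∀ (a : Fin 2 → K) (l : K),
      suAct (LX * te * LA * (LX * te)⁻¹ * LA⁻¹) (bVec a 0 l) =
        bVec (a + (τ * l * frobQ hK a₀) • Pi.single 0 1) 0 l := by
    intro a l
    have hLAinv : LA⁻¹ = suLv hK 2 A⁻¹ := by rw [hLA, map_inv]
    rw [Cfsg.Agent.Helper99.suAct_mul, Cfsg.Agent.Helper99.suAct_mul,
      Cfsg.Agent.Helper99.suAct_mul, hLAinv, Cfsg.Agent.Helper13.suAct_suLv_E, F2, hLA,
      Cfsg.Agent.Helper13.suAct_suLv_E, F1]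
    congr 1
    rw [hX, hA, hXinv, hAinv]
    ext i; fin_cases i <;> simp [Matrix.mulVec, dotProduct, Fin.sum_univ_two] <;> ring
  refine ⟨LX * te * LA * (LX * te)⁻¹ * LA⁻¹,
    H.mul_mem (H.mul_mem (H.mul_mem h1 hAH) (H.inv_mem h1)) (H.inv_mem hAH), fun a' => ?_, ?_⟩
  · rw [key, mul_zero, zero_mul, zero_smul, add_zero]
  · rw [key, zero_add]
    congr 1
    ext i; fin_cases i <;> simp
    ring

end Cfsg.Agent.Helper31
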