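import Mathlib
import Cfsg.Agent.Helper13.SuBlk

set_option autoImplicit false

namespace Cfsg.Agent.Helper31

open Matrix
open Cfsg.Agent.Helper5 (frobQ frobQ_apply frobQ_frobQ)
open Cfsg.Agent.Helper99 (suH suG suAct suEl)
open Cfsg.Agent.Helper13 (bVec suBlk suLv BlkU)

variable {K : Type*} [Field K] [Fintype K] {q : ℕ}

/-- an additive subgroup closed under multiplication by `σ` (with `σ τ = 1`, `τ` generic) is
everything. -/
theorem su5_gen_of_sigma (τ σ : K) (hστ : σ * τ = 1)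
    (hgen : ∀ S : AddSubgroup K, (∀ x ∈ S, τ * x ∈ S) → (∃ x ∈ S, x ≠ 0) → S = ⊤)
    (S : AddSubgroup K) (hσS : ∀ x ∈ S, σ * x ∈ S) (hne : ∃ x ∈ S, x ≠ 0) : S = ⊤ := by
  apply hgen S _ hne
  intro x hx
  have hσ0 : σ ≠ 0 := by
    rintro rfl
    simp at hστ
  have hinj : Function.Injective (fun y : S => (⟨σ * y.1, hσS y.1 y.2⟩ : S)) := by
    intro y y' h
    have h1 : σ * y.1 = σ * y'.1 := congrArg Subtype.val h
    exact Subtype.ext (mul_left_cancel₀ hσ0 h1)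
  have hsurj := Finite.injective_iff_surjective.1 hinj
  obtain ⟨y, hy⟩ := hsurj ⟨x, hx⟩
  have h1 : σ * y.1 = x := congrArg Subtype.val hy
  have h2 : τ * x = y.1 := by
    rw [← h1]
    linear_combination y.1 * hστ
  rw [h2]
  exact y.2

/-- the parameters `a` for which some element of `H` fixes the image of `φ` pointwise and
moves `w` to `φ a + w`. -/
def su5FixAdd {n : ℕ} {hK : Fintype.card K = q ^ 2} (H : Subgroup ↥(suG hK n))
    (φ : (Fin 2 → K) →+ (Fin n → K)) (w : Fin n → K) : AddSubgroup (Fin 2 → K) where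
  carrier := {a | ∃ g ∈ H, (∀ a', suAct g (φ a') = φ a') ∧ suAct g w = φ a + w}
  zero_mem' := ⟨1, H.one_mem, fun a' => Cfsg.Agent.Helper99.suAct_one _, by
    rw [Cfsg.Agent.Helper99.suAct_one, map_zero, zero_add]⟩
  add_mem' := by
    rintro a b ⟨g, hg, hgf, hgw⟩ ⟨g', hg', hgf', hgw'⟩
    refine ⟨g * g', H.mul_mem hg hg', fun a' => ?_, ?_⟩
    · rw [Cfsg.Agent.Helper99.suAct_mul, hgf', hgf]
    · rw [Cfsg.Agent.Helper99.suAct_mul, hgw', Cfsg.Agent.Helper99.suAct_add, hgf, hgw, map_add]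
      abel
  neg_mem' := by
    rintro a ⟨g, hg, hgf, hgw⟩
    have hinv : ∀ a', suAct g⁻¹ (φ a') = φ a' := fun a' => by
      have h1 := Cfsg.Agent.Helper99.suAct_inv_suAct g (φ a')
      rw [hgf] at h1
      exact h1
    refine ⟨g⁻¹, H.inv_mem hg, hinv, ?_⟩
    have h1 := Cfsg.Agent.Helper99.suAct_inv_suAct g w
    rw [hgw, Cfsg.Agent.Helper99.suAct_add, hinv] at h1
    have h2 : suAct g⁻¹ w = w - φ a := eq_sub_of_add_eq' h1
    rw [h2, map_neg]
    abel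

theorem su5FixAdd_conj {n : ℕ} {hK : Fintype.card K = q ^ 2} (H : Subgroup ↥(suG hK n))
    (φ : (Fin 2 → K) →+ (Fin n → K)) (w : Fin n → K) (l : ↥(suG hK n)) (hl : l ∈ H)
    (T T' : (Fin 2 → K) → (Fin 2 → K))
    (h1 : ∀ a, suAct l (φ a) = φ (T a)) (h2 : ∀ a, suAct l⁻¹ (φ a) = φ (T' a))
    (hw : suAct l w = w)
    (a : Fin 2 → K) (ha : a ∈ su5FixAdd H φ w) : T a ∈ su5FixAdd H φ w := by
  obtain ⟨g, hg, hgf, hgw⟩ := ha
  have hw' : suAct l⁻¹ w = w := by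
    have h3 := Cfsg.Agent.Helper99.suAct_inv_suAct l w
    rw [hw] at h3
    exact h3
  refine ⟨l * g * l⁻¹, H.mul_mem (H.mul_mem hl hg) (H.inv_mem hl), fun a' => ?_, ?_⟩
  · rw [Cfsg.Agent.Helper99.suAct_mul, Cfsg.Agent.Helper99.suAct_mul, h2, hgf, ← h2,
      Cfsg.Agent.Helper99.suAct_suAct_inv]
  · rw [Cfsg.Agent.Helper99.suAct_mul, Cfsg.Agent.Helper99.suAct_mul, hw', hgw,
      Cfsg.Agent.Helper99.suAct_add, h1, hw]

/-- the embedding `x ↦ ![x, 0]`. -/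
def su5Inl : K →+ (Fin 2 → K) where
  toFun x := ![x, 0]
  map_zero' := by ext i; fin_cases i <;> simp
  map_add' x y := by ext i; fin_cases i <;> simp

/-- the embedding `y ↦ ![0, y]`. -/
def su5Inr : K →+ (Fin 2 → K) where
  toFun y := ![0, y]
  map_zero' := by ext i; fin_cases i <;> simp
  map_add' x y := by ext i; fin_cases i <;> simp

/-- PIECE M2B -/
theorem su5_core_b (hK : Fintype.card K = q ^ 2) (p : ℕ) [Fact p.Prime] [CharP K p]
    (τ σ : K) (hστ : σ * τ = 1)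
    (hgen : ∀ S : AddSubgroup K, (∀ x ∈ S, τ * x ∈ S) → (∃ x ∈ S, x ≠ 0) → S = ⊤)
    (Y A C : Matrix.SpecialLinearGroup (Fin 2) K)
    (hY : Y.1 = !![1, 0; -σ, 1]) (hA : A.1 = !![1, τ; 0, 1])
    (hC : C.1 = !![1 - σ, σ; -σ, 1 + σ])
    (H : Subgroup ↥(suG hK (2 * 2 + 1)))
    (hAH : suLv hK 2 A ∈ H) (hYH : suLv hK 2 Y ∈ H) (hCH : suLv hK 2 C ∈ H)
    (x₀ y₀ : K) (hx₀ : x₀ ≠ 0) (hy₀ : y₀ ≠ 0)
    (hg : ∃ g ∈ H, (∀ a' : Fin 2 → K, suAct g (bVec a' 0 0) = bVec a' 0 0) ∧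
        suAct g (bVec 0 0 1) = bVec (Pi.single 0 x₀) 0 1)
    (hg' : ∃ g ∈ H, (∀ b' : Fin 2 → K, suAct g (bVec 0 b' 0) = bVec 0 b' 0) ∧
        suAct g (bVec 0 0 1) = bVec 0 (Pi.single 1 y₀) 1) :
    (∀ a : Fin 2 → K, ∃ g ∈ H, (∀ a' : Fin 2 → K, suAct g (bVec a' 0 0) = bVec a' 0 0) ∧
      suAct g (bVec 0 0 1) = bVec a 0 1) ∧
    (∀ b : Fin 2 → K, ∃ g ∈ H, (∀ b' : Fin 2 → K, suAct g (bVec 0 b' 0) = bVec 0 b' 0) ∧
      suAct g (bVec 0 0 1) = bVec 0 b 1) := by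
  classical
  have hσ0 : σ ≠ 0 := by
    rintro rfl
    simp at hστ
  have hfσ0 : frobQ hK σ ≠ 0 := by
    intro h
    apply hσ0
    have h1 := frobQ_frobQ hK σ
    rw [h, map_zero] at h1
    exact h1.symm
  obtain ⟨φE, hφE⟩ : ∃ φE : (Fin 2 → K) →+ (Fin (2 * 2 + 1) → K),
      ∀ a, φE a = bVec a 0 0 :=
    ⟨{ toFun := fun a => bVec a 0 0
       map_zero' := Cfsg.Agent.Helper13.bVec_zero
       map_add' := fun a b => by
        rw [Cfsg.Agent.Helper13.bVec_add, add_zero, add_zero] }, fun a => rfl⟩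
  obtain ⟨φF, hφF⟩ : ∃ φF : (Fin 2 → K) →+ (Fin (2 * 2 + 1) → K),
      ∀ b, φF b = bVec 0 b 0 :=
    ⟨{ toFun := fun b => bVec 0 b 0
       map_zero' := Cfsg.Agent.Helper13.bVec_zero
       map_add' := fun a b => by
        rw [Cfsg.Agent.Helper13.bVec_add, add_zero, add_zero] }, fun b => rfl⟩
  have hEw : ∀ a : Fin 2 → K, φE a + bVec 0 0 1 = bVec a 0 1 := fun a => by
    rw [hφE, Cfsg.Agent.Helper13.bVec_add, add_zero, add_zero, zero_add]
  have hFw : ∀ b : Fin 2 → K, φF b + bVec 0 0 1 = bVec 0 b 1 := fun b => by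
    rw [hφF, Cfsg.Agent.Helper13.bVec_add, add_zero, add_zero, zero_add]
  have memE : ∀ a : Fin 2 → K, a ∈ su5FixAdd H φE (bVec 0 0 1) ↔
      ∃ g ∈ H, (∀ a' : Fin 2 → K, suAct g (bVec a' 0 0) = bVec a' 0 0) ∧
        suAct g (bVec 0 0 1) = bVec a 0 1 := by
    intro a
    constructor
    · rintro ⟨g, hg, hgf, hgw⟩
      refine ⟨g, hg, fun a' => ?_, ?_⟩
      · rw [← hφE]; exact hgf a'
      · rw [← hEw a]; exact hgw
    · rintro ⟨g, hg, hgf, hgw⟩
      refine ⟨g, hg, fun a' => ?_, ?_⟩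
      · rw [hφE]; exact hgf a'
      · rw [hEw]; exact hgw
  have memF : ∀ b : Fin 2 → K, b ∈ su5FixAdd H φF (bVec 0 0 1) ↔
      ∃ g ∈ H, (∀ b' : Fin 2 → K, suAct g (bVec 0 b' 0) = bVec 0 b' 0) ∧
        suAct g (bVec 0 0 1) = bVec 0 b 1 := by
    intro b
    constructor
    · rintro ⟨g, hg, hgf, hgw⟩
      refine ⟨g, hg, fun b' => ?_, ?_⟩
      · rw [← hφF]; exact hgf b'
      · rw [← hFw b]; exact hgw
    · rintro ⟨g, hg, hgf, hgw⟩
      refine ⟨g, hg, fun b' => ?_, ?_⟩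
      · rw [hφF]; exact hgf b'
      · rw [hFw]; exact hgw
  -- Levi closure
  have lvw : ∀ Z : Matrix.SpecialLinearGroup (Fin 2) K,
      suAct (suLv hK 2 Z) (bVec 0 0 1) = bVec 0 0 1 := by
    intro Z
    have h3 := Cfsg.Agent.Helper13.suAct_suLv_E hK Z 0 1
    rw [Matrix.mulVec_zero] at h3
    exact h3
  have lvE : ∀ Z : Matrix.SpecialLinearGroup (Fin 2) K, suLv hK 2 Z ∈ H →
      ∀ a ∈ su5FixAdd H φE (bVec 0 0 1), Z.1 *ᵥ a ∈ su5FixAdd H φE (bVec 0 0 1) := by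
    intro Z hZ a ha
    refine su5FixAdd_conj H φE (bVec 0 0 1) (suLv hK 2 Z) hZ (fun a => Z.1 *ᵥ a)
      (fun a => (Z⁻¹ : Matrix.SpecialLinearGroup (Fin 2) K).1 *ᵥ a) (fun a => ?_) (fun a => ?_)
      (lvw Z) a ha
    · rw [hφE, hφE]
      exact Cfsg.Agent.Helper13.suAct_suLv_E hK Z a 0
    · rw [hφE, hφE, ← map_inv]
      exact Cfsg.Agent.Helper13.suAct_suLv_E hK Z⁻¹ a 0
  have lvF : ∀ Z : Matrix.SpecialLinearGroup (Fin 2) K, suLv hK 2 Z ∈ H →
      ∀ b ∈ su5FixAdd H φF (bVec 0 0 1),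
        ((Z⁻¹ : Matrix.SpecialLinearGroup (Fin 2) K).1.map (frobQ hK))ᵀ *ᵥ b ∈
          su5FixAdd H φF (bVec 0 0 1) := by
    intro Z hZ b hb
    refine su5FixAdd_conj H φF (bVec 0 0 1) (suLv hK 2 Z) hZ
      (fun b => ((Z⁻¹ : Matrix.SpecialLinearGroup (Fin 2) K).1.map (frobQ hK))ᵀ *ᵥ b)
      (fun b => (((Z⁻¹)⁻¹ : Matrix.SpecialLinearGroup (Fin 2) K).1.map (frobQ hK))ᵀ *ᵥ b)
      (fun b => ?_) (fun b => ?_) (lvw Z) b hb
    · rw [hφF, hφF]
      have h3 := Cfsg.Agent.Helper13.suAct_suLv hK Z 0 b 0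
      rw [Matrix.mulVec_zero] at h3
      exact h3
    · rw [hφF, hφF, ← map_inv]
      have h3 := Cfsg.Agent.Helper13.suAct_suLv hK Z⁻¹ 0 b 0
      rw [Matrix.mulVec_zero] at h3
      exact h3
  have hs0 : ∀ x : K, (Pi.single 0 x : Fin 2 → K) = ![x, 0] := by
    intro x; ext i; fin_cases i <;> simp
  have hs1 : ∀ y : K, (Pi.single 1 y : Fin 2 → K) = ![0, y] := by
    intro y; ext i; fin_cases i <;> simp
  have hdecomp : ∀ a : Fin 2 → K, a = ![a 0, 0] + ![0, a 1] := by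
    intro a; ext i; fin_cases i <;> simp
  constructor
  · -- the E side
    intro a
    rw [← memE]
    have hx₀M : (![x₀, 0] : Fin 2 → K) ∈ su5FixAdd H φE (bVec 0 0 1) := by
      rw [memE, ← hs0]; exact hg
    have hYv : ∀ x : K, Y.1 *ᵥ ![x, 0] = ![x, -σ * x] := by
      intro x
      rw [hY]
      ext i; fin_cases i <;> simp [Matrix.mulVec, dotProduct, Fin.sum_univ_two]
    have hCv : ∀ x : K, C.1 *ᵥ ![x, 0] = ![(1 - σ) * x, -σ * x] := by
      intro x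
      rw [hC]
      ext i; fin_cases i <;> simp [Matrix.mulVec, dotProduct, Fin.sum_univ_two]
    have step : ∀ x : K, (![x, 0] : Fin 2 → K) ∈ su5FixAdd H φE (bVec 0 0 1) →
        (![σ * x, 0] : Fin 2 → K) ∈ su5FixAdd H φE (bVec 0 0 1) ∧
        (![0, -σ * x] : Fin 2 → K) ∈ su5FixAdd H φE (bVec 0 0 1) := by
      intro x hx
      have m1 := lvE Y hYH _ hx
      have m2 := lvE C hCH _ hx
      rw [hYv] at m1
      rw [hCv] at m2
      constructor
      · have h3 : (![σ * x, 0] : Fin 2 → K) = ![x, -σ * x] - ![(1 - σ) * x, -σ * x] := by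
          ext i; fin_cases i <;> simp <;> ring
        rw [h3]
        exact AddSubgroup.sub_mem _ m1 m2
      · have h3 : (![0, -σ * x] : Fin 2 → K) = ![x, -σ * x] - ![x, 0] := by
          ext i; fin_cases i <;> simp
        rw [h3]
        exact AddSubgroup.sub_mem _ m1 hx
    have hX₀ : (su5FixAdd H φE (bVec 0 0 1)).comap (su5Inl (K := K)) = ⊤ := by
      apply su5_gen_of_sigma τ σ hστ hgen
      · intro x hx
        exact (step x hx).1
      · exact ⟨x₀, hx₀M, hx₀⟩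
    have hall0 : ∀ x : K, (![x, 0] : Fin 2 → K) ∈ su5FixAdd H φE (bVec 0 0 1) := by
      intro x
      have h3 : x ∈ (su5FixAdd H φE (bVec 0 0 1)).comap (su5Inl (K := K)) := by
        rw [hX₀]; exact AddSubgroup.mem_top x
      exact h3
    have hall1 : ∀ y : K, (![0, y] : Fin 2 → K) ∈ su5FixAdd H φE (bVec 0 0 1) := by
      intro y
      have h3 := (step (-τ * y) (hall0 _)).2
      have h4 : -σ * (-τ * y) = y := by linear_combination y * hστ
      rw [h4] at h3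
      exact h3
    rw [hdecomp a]
    exact AddSubgroup.add_mem _ (hall0 _) (hall1 _)
  · -- the E' side
    intro b
    rw [← memF]
    have hy₀M : (![0, y₀] : Fin 2 → K) ∈ su5FixAdd H φF (bVec 0 0 1) := by
      rw [memF, ← hs1]; exact hg'
    have hY'' : ((Y⁻¹ : Matrix.SpecialLinearGroup (Fin 2) K).1.map (frobQ hK))ᵀ =
        !![1, frobQ hK σ; 0, 1] := by
      rw [Matrix.SpecialLinearGroup.coe_inv, hY, Matrix.adjugate_fin_two_of]
      ext i j; fin_cases i <;> fin_cases j <;> simp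
    have hC'' : ((C⁻¹ : Matrix.SpecialLinearGroup (Fin 2) K).1.map (frobQ hK))ᵀ =
        !![1 + frobQ hK σ, frobQ hK σ; -frobQ hK σ, 1 - frobQ hK σ] := by
      rw [Matrix.SpecialLinearGroup.coe_inv, hC, Matrix.adjugate_fin_two_of]
      ext i j; fin_cases i <;> fin_cases j <;> simp
    have hYv : ∀ y : K, ((Y⁻¹ : Matrix.SpecialLinearGroup (Fin 2) K).1.map (frobQ hK))ᵀ *ᵥ
        ![0, y] = ![frobQ hK σ * y, y] := by
      intro y
      rw [hY'']
      ext i; fin_cases i <;> simp [Matrix.mulVec, dotProduct, Fin.sum_univ_two]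
    have hCv : ∀ y : K, ((C⁻¹ : Matrix.SpecialLinearGroup (Fin 2) K).1.map (frobQ hK))ᵀ *ᵥ
        ![0, y] = ![frobQ hK σ * y, (1 - frobQ hK σ) * y] := by
      intro y
      rw [hC'']
      ext i; fin_cases i <;> simp [Matrix.mulVec, dotProduct, Fin.sum_univ_two]
    have step : ∀ y : K, (![0, y] : Fin 2 → K) ∈ su5FixAdd H φF (bVec 0 0 1) →
        (![0, frobQ hK σ * y] : Fin 2 → K) ∈ su5FixAdd H φF (bVec 0 0 1) ∧
        (![frobQ hK σ * y, 0] : Fin 2 → K) ∈ su5FixAdd H φF (bVec 0 0 1) := by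
      intro y hy
      have m1 := lvF Y hYH _ hy
      have m2 := lvF C hCH _ hy
      rw [hYv] at m1
      rw [hCv] at m2
      constructor
      · have h3 : (![0, frobQ hK σ * y] : Fin 2 → K) =
            ![frobQ hK σ * y, y] - ![frobQ hK σ * y, (1 - frobQ hK σ) * y] := by
          ext i; fin_cases i <;> simp <;> ring
        rw [h3]
        exact AddSubgroup.sub_mem _ m1 m2
      · have h3 : (![frobQ hK σ * y, 0] : Fin 2 → K) = ![frobQ hK σ * y, y] - ![0, y] := by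
          ext i; fin_cases i <;> simp
        rw [h3]
        exact AddSubgroup.sub_mem _ m1 hy
    have hS : ((su5FixAdd H φF (bVec 0 0 1)).comap (su5Inr (K := K))).comap
        (frobQ hK : K →+* K).toAddMonoidHom = ⊤ := by
      apply su5_gen_of_sigma τ σ hστ hgen
      · intro x hx
        have h3 : (![0, frobQ hK σ * frobQ hK x] : Fin 2 → K) ∈ su5FixAdd H φF (bVec 0 0 1) :=
          (step _ hx).1
        show (![0, frobQ hK (σ * x)] : Fin 2 → K) ∈ su5FixAdd H φF (bVec 0 0 1)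
        rw [map_mul]
        exact h3
      · refine ⟨frobQ hK y₀, ?_, ?_⟩
        · show (![0, frobQ hK (frobQ hK y₀)] : Fin 2 → K) ∈ su5FixAdd H φF (bVec 0 0 1)
          rw [frobQ_frobQ]
          exact hy₀M
        · intro h
          apply hy₀
          have h1 := frobQ_frobQ hK y₀
          rw [h, map_zero] at h1
          exact h1.symm
    have hall1 : ∀ y : K, (![0, y] : Fin 2 → K) ∈ su5FixAdd H φF (bVec 0 0 1) := by
      intro y
      have h3 : frobQ hK y ∈ ((su5FixAdd H φF (bVec 0 0 1)).comap (su5Inr (K := K))).comap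
          (frobQ hK : K →+* K).toAddMonoidHom := by
        rw [hS]; exact AddSubgroup.mem_top _
      have h4 : (![0, frobQ hK (frobQ hK y)] : Fin 2 → K) ∈ su5FixAdd H φF (bVec 0 0 1) := h3
      rw [frobQ_frobQ] at h4
      exact h4
    have hall0 : ∀ x : K, (![x, 0] : Fin 2 → K) ∈ su5FixAdd H φF (bVec 0 0 1) := by
      intro x
      have h3 := (step ((frobQ hK σ)⁻¹ * x) (hall1 _)).2
      have h4 : frobQ hK σ * ((frobQ hK σ)⁻¹ * x) = x := by
        rw [← mul_assoc, mul_inv_cancel₀ hfσ0, one_mul]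
      rw [h4] at h3
      exact h3
    rw [hdecomp b]
    exact AddSubgroup.add_mem _ (hall0 _) (hall1 _)

end Cfsg.Agent.Helper31
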