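import Mathlib
import Cfsg.Agent.Helper9.OrdTools
import Cfsg.Agent.Helper9.OrdTools2
import Cfsg.Agent.Helper52.O7920Defs
import Cfsg.Agent.Helper52.O7920Defs2

set_option autoImplicit false

/-! helper31: CALL S0434 (helper52), piece B1b. -/

namespace Cfsg.Agent.Helper31

open Cfsg.Agent.Helper52

variable {G : Type*} [Group G] [Finite G]

-- PIECE B1b
theorem o7920_B_noconj {R : Sylow 3 G} {D : Subgroup G} {j : G} (c : O7920Conf2 G R D j)
    (hCR : Nat.card ↥(Subgroup.centralizer ((R : Subgroup G) : Set G)) = 9)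
    (hfus : ∀ g : G, (∀ d ∈ D, g * d * g⁻¹ ∈ (R : Subgroup G)) → ∀ d ∈ D, g * d * g⁻¹ ∈ D)
    (x r2 : G) (hx : orderOf x = 2) (hr2 : r2 ∈ (R : Subgroup G)) (hr2D : r2 ∉ D)
    (hxr : x * r2 = r2 * x) (g : G) :
    g * x * g⁻¹ ∉ Subgroup.centralizer (D : Set G) := by
  classical
  intro hgx
  have h3 : Fact (Nat.Prime 3) := ⟨by norm_num⟩
  obtain ⟨H, hH⟩ : ∃ H : Subgroup G, H = Subgroup.centralizer ({x} : Set G) := ⟨_, rfl⟩
  have hHmem : ∀ y : G, y ∈ H ↔ x * y = y * x := by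
    intro y
    rw [hH, Subgroup.mem_centralizer_iff]
    constructor
    · intro h
      exact h x rfl
    · intro h w hw
      rw [Set.mem_singleton_iff] at hw
      subst hw
      exact h
  -- 9 ∤ |H|
  have h9 : ¬ 9 ∣ Nat.card H := by
    intro h9
    obtain ⟨S0, hS0⟩ := Sylow.exists_subgroup_card_pow_prime 3 (n := 2) (G := ↥H)
      (by norm_num; exact h9)
    have hS0' : Nat.card (S0.map H.subtype) = 9 := by
      rw [Subgroup.card_map_of_injective H.subtype_injective, hS0]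
      norm_num
    have hp : IsPGroup 3 (S0.map H.subtype) := IsPGroup.of_card (n := 2) (by rw [hS0']; norm_num)
    obtain ⟨S, hS⟩ := hp.exists_le_sylow
    have hSeq : S0.map H.subtype = (S : Subgroup G) :=
      Subgroup.eq_of_le_of_card_ge hS (by rw [hS0', (c.syl3 S).1])
    have hxS : x ∈ Subgroup.centralizer ((S : Subgroup G) : Set G) := by
      rw [Subgroup.mem_centralizer_iff]
      intro s hs
      rw [SetLike.mem_coe, ← hSeq] at hs
      obtain ⟨s0, -, rfl⟩ := hs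
      exact ((hHmem _).1 s0.2).symm
    have hcard := Cfsg.Agent.Helper9.OrdTools.card_centralizer_sylow_eq S R
    rw [hCR] at hcard
    have h' := Subgroup.orderOf_dvd_natCard _ hxS
    rw [hcard, hx] at h'
    omega
  -- x centralises g⁻¹ D g
  have hxD' : ∀ d ∈ D, x * (g⁻¹ * d * g) = (g⁻¹ * d * g) * x := by
    intro d hd
    have h := Subgroup.mem_centralizer_iff.1 hgx d hd
    calc x * (g⁻¹ * d * g) = g⁻¹ * ((g * x * g⁻¹) * d) * g := by group
      _ = g⁻¹ * (d * (g * x * g⁻¹)) * g := by rw [h]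
      _ = (g⁻¹ * d * g) * x := by group
  obtain ⟨D', hD'⟩ : ∃ D' : Subgroup G, D' = D.map (MulAut.conj g⁻¹).toMonoidHom := ⟨_, rfl⟩
  have hD'mem : ∀ d ∈ D, g⁻¹ * d * g ∈ D' := by
    intro d hd
    rw [hD']
    refine ⟨d, hd, ?_⟩
    simp
  have hD'card : Nat.card D' = 3 := by
    rw [hD', Subgroup.card_map_of_injective (MulAut.conj g⁻¹).injective, c.conf.hD]
  have hD'H : D' ≤ H := by
    intro y hy
    rw [hD'] at hy
    obtain ⟨d, hd, rfl⟩ := hy
    rw [hHmem]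
    have h := hxD' d hd
    simpa [MulAut.conj_apply] using h
  have hr21 : r2 ≠ 1 := by
    rintro rfl
    exact hr2D D.one_mem
  have hr2H : r2 ∈ H := (hHmem r2).2 hxr
  have hZH : Subgroup.zpowers r2 ≤ H := Subgroup.zpowers_le.2 hr2H
  have hr2o : orderOf r2 = 3 := by
    have h1 : orderOf r2 ∣ 9 := by
      have h := Subgroup.orderOf_dvd_natCard _ hr2
      rwa [(c.syl3 R).1] at h
    have h2 : orderOf r2 ≠ 9 := by
      intro h'
      apply h9
      have h := Subgroup.card_dvd_of_le hZH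
      rwa [Nat.card_zpowers, h'] at h
    have h3' : orderOf r2 ≠ 1 := fun h' => hr21 (orderOf_eq_one_iff.1 h')
    have hle := Nat.le_of_dvd (by norm_num) h1
    generalize orderOf r2 = n at h1 h2 h3' hle
    interval_cases n <;> omega
  have hZcard : Nat.card (Subgroup.zpowers r2) = 3 := by rw [Nat.card_zpowers, hr2o]
  have hfact : (Nat.card H).factorization 3 = 1 := by
    have h3d : 3 ∣ Nat.card H := by
      have h := Subgroup.card_dvd_of_le hZH
      rwa [hZcard] at h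
    have hpos : Nat.card H ≠ 0 := Nat.card_pos.ne'
    have h1 : 1 ≤ (Nat.card H).factorization 3 :=
      (Nat.Prime.dvd_iff_one_le_factorization (by norm_num) hpos).1 h3d
    have h2 : ¬ 2 ≤ (Nat.card H).factorization 3 := by
      intro h'
      apply h9
      have h := (Nat.Prime.pow_dvd_iff_le_factorization (by norm_num : Nat.Prime 3) hpos).2 h'
      norm_num at h
      exact h
    omega
  have hsyl : ∀ K : Subgroup G, K ≤ H → Nat.card K = 3 →
      ∃ Q : Sylow 3 ↥H, (Q : Subgroup ↥H) = K.subgroupOf H := by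
    intro K hKH hK
    have hKc : Nat.card (K.subgroupOf H) = 3 := by
      rw [Nat.card_congr (Subgroup.subgroupOfEquivOfLe hKH).toEquiv, hK]
    have hp : IsPGroup 3 (K.subgroupOf H) := IsPGroup.of_card (n := 1) (by rw [hKc]; norm_num)
    obtain ⟨Q, hQ⟩ := hp.exists_le_sylow
    refine ⟨Q, (Subgroup.eq_of_le_of_card_ge hQ ?_).symm⟩
    rw [Sylow.card_eq_multiplicity, hfact, hKc]
    norm_num
  obtain ⟨Q1, hQ1⟩ := hsyl _ hZH hZcard
  obtain ⟨Q2, hQ2⟩ := hsyl _ hD'H hD'card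
  obtain ⟨k, hk⟩ := MulAction.exists_smul_eq ↥H Q2 Q1
  have hkey : ∀ d ∈ D, ((k : G) * g⁻¹) * d * ((k : G) * g⁻¹)⁻¹ ∈ Subgroup.zpowers r2 := by
    intro d hd
    have hdH : g⁻¹ * d * g ∈ H := hD'H (hD'mem d hd)
    have hmem : (⟨g⁻¹ * d * g, hdH⟩ : ↥H) ∈ (Q2 : Subgroup ↥H) := by
      rw [hQ2, Subgroup.mem_subgroupOf]
      exact hD'mem d hd
    have hmem2 : k * ⟨g⁻¹ * d * g, hdH⟩ * k⁻¹ ∈ ((k • Q2 : Sylow 3 ↥H) : Subgroup ↥H) := by
      rw [Sylow.coe_subgroup_smul, Subgroup.mem_pointwise_smul_iff_inv_smul_mem]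
      simp only [MulAut.smul_def, MulAut.conj_inv_apply]
      have e : k⁻¹ * (k * ⟨g⁻¹ * d * g, hdH⟩ * k⁻¹) * k = ⟨g⁻¹ * d * g, hdH⟩ := by group
      rw [e]
      exact hmem
    rw [hk, hQ1, Subgroup.mem_subgroupOf] at hmem2
    have e2 : ((k : G) * g⁻¹) * d * ((k : G) * g⁻¹)⁻¹
        = ((k * ⟨g⁻¹ * d * g, hdH⟩ * k⁻¹ : ↥H) : G) := by
      rw [Subgroup.coe_mul, Subgroup.coe_mul, Subgroup.coe_inv]
      show (k : G) * g⁻¹ * d * ((k : G) * g⁻¹)⁻¹ = (k : G) * (g⁻¹ * d * g) * (k : G)⁻¹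
      group
    rw [e2]
    exact hmem2
  have hR : ∀ d ∈ D, ((k : G) * g⁻¹) * d * ((k : G) * g⁻¹)⁻¹ ∈ (R : Subgroup G) :=
    fun d hd => (Subgroup.zpowers_le.2 hr2) (hkey d hd)
  have hDD := hfus _ hR
  have hinj : Function.Injective (fun d : D =>
      (⟨((k : G) * g⁻¹) * d * ((k : G) * g⁻¹)⁻¹, hkey d d.2⟩ : Subgroup.zpowers r2)) := by
    intro d1 d2 h12
    have h12' : ((k : G) * g⁻¹) * (d1 : G) * ((k : G) * g⁻¹)⁻¹
        = ((k : G) * g⁻¹) * (d2 : G) * ((k : G) * g⁻¹)⁻¹ := congrArg Subtype.val h12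
    apply Subtype.ext
    calc (d1 : G) = ((k : G) * g⁻¹)⁻¹ * (((k : G) * g⁻¹) * (d1 : G) * ((k : G) * g⁻¹)⁻¹)
          * ((k : G) * g⁻¹) := by group
      _ = ((k : G) * g⁻¹)⁻¹ * (((k : G) * g⁻¹) * (d2 : G) * ((k : G) * g⁻¹)⁻¹)
          * ((k : G) * g⁻¹) := by rw [h12']
      _ = d2 := by group
  have hbij := (Nat.bijective_iff_injective_and_card _).2 ⟨hinj, by rw [c.conf.hD, hZcard]⟩
  obtain ⟨d, hd⟩ := hbij.2 ⟨r2, Subgroup.mem_zpowers r2⟩
  apply hr2D
  have hd' : ((k : G) * g⁻¹) * (d : G) * ((k : G) * g⁻¹)⁻¹ = r2 := congrArg Subtype.val hd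
  rw [← hd']
  exact hDD d d.2

end Cfsg.Agent.Helper31
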