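import Mathlib
import Cfsg.Agent.Helper52.O7920Defs
import Cfsg.Agent.Helper52.O7920Defs2

set_option autoImplicit false

/-! helper31: CALL S0434 (helper52), piece C5a. -/

namespace Cfsg.Agent.Helper31

open Cfsg.Agent.Helper52

variable {G : Type*} [Group G] [Finite G]

/-- an element normalising a subgroup `D` of order 3 centralises it or inverts it -/
theorem t7920_cent_or_inv (D : Subgroup G) (hD3 : Nat.card ↥D = 3) (n : G)
    (hn : n ∈ Subgroup.normalizer (D : Set G)) :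
    (∀ d ∈ D, n * d * n⁻¹ = d) ∨ (∀ d ∈ D, n * d * n⁻¹ = d⁻¹) := by
  have hd3 : ∀ d ∈ D, d ^ 3 = 1 := by
    intro d hd
    have h := Subgroup.orderOf_dvd_natCard _ hd
    rw [hD3] at h
    exact orderOf_dvd_iff_pow_eq_one.1 h
  obtain ⟨d0, hd0, hd01⟩ : ∃ d0 ∈ D, d0 ≠ 1 := by
    by_contra h'
    have hbot : D = ⊥ := by
      rw [eq_bot_iff]
      intro d hd
      rw [Subgroup.mem_bot]
      by_contra hd1
      exact h' ⟨d, hd, hd1⟩
    rw [hbot] at hD3
    simp at hD3
  have hzp : Subgroup.zpowers d0 = D := by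
    apply Subgroup.eq_of_le_of_card_ge (Subgroup.zpowers_le.2 hd0)
    rw [hD3, Nat.card_zpowers]
    have h : orderOf d0 ∣ 3 := orderOf_dvd_of_pow_eq_one (hd3 d0 hd0)
    rcases (Nat.dvd_prime (by norm_num)).1 h with h1 | h1
    · exact absurd (orderOf_eq_one_iff.1 h1) hd01
    · rw [h1]
  have hnd0 : n * d0 * n⁻¹ ∈ D := (Subgroup.mem_normalizer_iff.1 hn d0).1 hd0
  have hD_elts : ∀ d ∈ D, d = 1 ∨ d = d0 ∨ d = d0⁻¹ := by
    intro d hd
    rw [← hzp] at hd
    obtain ⟨k, rfl⟩ := Subgroup.mem_zpowers_iff.1 hd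
    have h3z : d0 ^ (3 : ℤ) = 1 := by exact_mod_cast hd3 d0 hd0
    have hk' : d0 ^ k = d0 ^ (k % 3) := by
      conv_lhs => rw [← Int.emod_add_mul_ediv k 3]
      rw [zpow_add, zpow_mul, h3z, one_zpow, mul_one]
    rw [hk']
    have hk : k % 3 = 0 ∨ k % 3 = 1 ∨ k % 3 = 2 := by omega
    rcases hk with h | h | h
    · left
      rw [h, zpow_zero]
    · right
      left
      rw [h, zpow_one]
    · right
      right
      rw [h]
      have h4 : d0 ^ (2 : ℤ) * d0 = 1 := by
        rw [← zpow_add_one]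
        exact h3z
      exact eq_inv_of_mul_eq_one_left h4
  rcases hD_elts _ hnd0 with h | h | h
  · exfalso
    apply hd01
    calc d0 = n⁻¹ * (n * d0 * n⁻¹) * n := by group
      _ = 1 := by rw [h]; group
  · left
    intro d hd
    rcases hD_elts d hd with h' | h' | h'
    · rw [h']
      group
    · rw [h']
      exact h
    · rw [h']
      calc n * d0⁻¹ * n⁻¹ = (n * d0 * n⁻¹)⁻¹ := by group
        _ = d0⁻¹ := by rw [h]
  · right
    intro d hd
    rcases hD_elts d hd with h' | h' | h'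
    · rw [h']
      group
    · rw [h']
      exact h
    · rw [h']
      calc n * d0⁻¹ * n⁻¹ = (n * d0 * n⁻¹)⁻¹ := by group
        _ = d0⁻¹⁻¹ := by rw [h]

/-- if conjugation by `g` maps the finite subgroup `D` into itself then `g` normalises `D` -/
theorem t7920_mem_normalizer_of_conj_mem (D : Subgroup G) (g : G)
    (hs : ∀ d ∈ D, g * d * g⁻¹ ∈ D) : g ∈ Subgroup.normalizer (D : Set G) := by
  rw [Subgroup.mem_normalizer_iff]
  intro h
  constructor
  · exact hs h
  · intro hh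
    have hinj : Function.Injective (fun d : D => (⟨g * d * g⁻¹, hs d d.2⟩ : D)) := by
      intro d1 d2 h12
      have h12' : g * (d1 : G) * g⁻¹ = g * (d2 : G) * g⁻¹ := congrArg Subtype.val h12
      apply Subtype.ext
      calc (d1 : G) = g⁻¹ * (g * d1 * g⁻¹) * g := by group
        _ = g⁻¹ * (g * d2 * g⁻¹) * g := by rw [h12']
        _ = d2 := by group
    have hsurj := Finite.surjective_of_injective hinj
    obtain ⟨d, hd⟩ := hsurj ⟨g * h * g⁻¹, hh⟩
    have hd' : g * (d : G) * g⁻¹ = g * h * g⁻¹ := congrArg Subtype.val hd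
    have hdh : (d : G) = h := by
      calc (d : G) = g⁻¹ * (g * d * g⁻¹) * g := by group
        _ = g⁻¹ * (g * h * g⁻¹) * g := by rw [hd']
        _ = h := by group
    rw [← hdh]
    exact d.2

-- PIECE C5a
theorem o7920_C_centE {R : Sylow 3 G} {D : Subgroup G} {j : G} (c : O7920Conf2 G R D j)
    (E : Subgroup G) (z : G) (hz : orderOf z = 2) (hzE : z ∈ E)
    (hzC : Subgroup.centralizer ({z} : Set G) = Subgroup.normalizer (D : Set G))
    (hzu : ∀ g : G, g * z * g⁻¹ ∈ Subgroup.centralizer (D : Set G) → g * z * g⁻¹ = z)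
    (hstar : ∀ b ∈ E, b ≠ 1 → b ≠ z → ∀ g : G,
      (∀ d ∈ D, (g * d * g⁻¹) * b = b * (g * d * g⁻¹)) → ∀ d ∈ D, g * d * g⁻¹ ∈ D)
    (g : G) (hyz : g * z * g⁻¹ ≠ z) (hzy : z * (g * z * g⁻¹) = (g * z * g⁻¹) * z)
    (b : G) (hb : b ∈ E) (hby : b * (g * z * g⁻¹) = (g * z * g⁻¹) * b) : b = 1 ∨ b = z := by
  classical
  by_contra hcon
  rw [not_or] at hcon
  obtain ⟨hb1, hbz⟩ := hcon
  have hzz : z * z = 1 := by
    have h := pow_orderOf_eq_one z
    rw [hz, pow_two] at h
    exact h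
  have hdich := t7920_cent_or_inv D c.conf.hD
  have hnorm : ∀ a : G, a * (g * z * g⁻¹) = (g * z * g⁻¹) * a →
      g⁻¹ * a * g ∈ Subgroup.normalizer (D : Set G) := by
    intro a ha
    rw [← hzC, Subgroup.mem_centralizer_iff]
    intro w hw
    rw [Set.mem_singleton_iff] at hw
    subst hw
    calc w * (g⁻¹ * a * g) = g⁻¹ * ((g * w * g⁻¹) * a) * g := by group
      _ = g⁻¹ * (a * (g * w * g⁻¹)) * g := by rw [ha]
      _ = g⁻¹ * a * g * w := by group
  have hgN : g ∉ Subgroup.normalizer (D : Set G) := by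
    intro hg
    rw [← hzC, Subgroup.mem_centralizer_iff] at hg
    have h := hg z rfl
    apply hyz
    calc g * z * g⁻¹ = (z * g) * g⁻¹ := by rw [h]
      _ = z := by group
  have hsub : (∀ d ∈ D, g * d * g⁻¹ ∈ D) → False :=
    fun hs => hgN (t7920_mem_normalizer_of_conj_mem D g hs)
  have hnz := hnorm z hzy
  have hnz_inv : ∀ d ∈ D, (g⁻¹ * z * g) * d * (g⁻¹ * z * g)⁻¹ = d⁻¹ := by
    rcases hdich _ hnz with h | h
    · exfalso
      have hmem : g⁻¹ * z * g⁻¹⁻¹ ∈ Subgroup.centralizer (D : Set G) := by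
        rw [inv_inv, Subgroup.mem_centralizer_iff]
        intro d hd
        have h' := h d hd
        calc d * (g⁻¹ * z * g)
            = ((g⁻¹ * z * g) * d * (g⁻¹ * z * g)⁻¹) * (g⁻¹ * z * g) := by rw [h']
          _ = g⁻¹ * z * g * d := by group
      have h' := hzu g⁻¹ hmem
      rw [inv_inv] at h'
      apply hyz
      calc g * z * g⁻¹ = g * (g⁻¹ * z * g) * g⁻¹ := by rw [h']
        _ = z := by group
    · exact h
  have hnb := hnorm b hby
  rcases hdich _ hnb with h | h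
  · apply hsub
    apply hstar b hb hb1 hbz g
    intro d hd
    have h' := h d hd
    calc (g * d * g⁻¹) * b
        = g * ((g⁻¹ * b * g) * d * (g⁻¹ * b * g)⁻¹) * g⁻¹ * b := by rw [h']
      _ = b * (g * d * g⁻¹) := by group
  · apply hsub
    have hbz1 : b * z ≠ 1 := by
      intro h'
      apply hbz
      calc b = b * (z * z) := by rw [hzz, mul_one]
        _ = (b * z) * z := by group
        _ = z := by rw [h', one_mul]
    have hbzz : b * z ≠ z := by
      intro h'
      apply hb1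
      calc b = (b * z) * z⁻¹ := by group
        _ = 1 := by rw [h']; group
    apply hstar (b * z) (E.mul_mem hb hzE) hbz1 hbzz g
    intro d hd
    have h1 := hnz_inv d hd
    have h2 := h d⁻¹ (D.inv_mem hd)
    rw [inv_inv] at h2
    have h3 : (g⁻¹ * (b * z) * g) * d * (g⁻¹ * (b * z) * g)⁻¹ = d := by
      calc (g⁻¹ * (b * z) * g) * d * (g⁻¹ * (b * z) * g)⁻¹
          = (g⁻¹ * b * g) * ((g⁻¹ * z * g) * d * (g⁻¹ * z * g)⁻¹) * (g⁻¹ * b * g)⁻¹ := by group
        _ = d := by rw [h1, h2]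
    calc (g * d * g⁻¹) * (b * z)
        = g * ((g⁻¹ * (b * z) * g) * d * (g⁻¹ * (b * z) * g)⁻¹) * g⁻¹ * (b * z) := by rw [h3]
      _ = (b * z) * (g * d * g⁻¹) := by group

end Cfsg.Agent.Helper31
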