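import Mathlib
import Cfsg.Agent.Helper52.O7920Defs
import Cfsg.Agent.Helper52.O7920Defs2

set_option autoImplicit false

/-! helper31: CALL S0434 (helper52), piece CZE. -/

namespace Cfsg.Agent.Helper31

open Cfsg.Agent.Helper52

variable {G : Type*} [Group G] [Finite G]

-- PIECE CZE
theorem o7920_C_center {R : Sylow 3 G} {D : Subgroup G} {j : G} (c : O7920Conf2 G R D j)
    (E : Subgroup G) (hE : E ≤ Subgroup.centralizer (D : Set G)) (hE8 : Nat.card ↥E = 8)
    (hEn : ∀ g ∈ Subgroup.normalizer (D : Set G), ∀ x ∈ E, g * x * g⁻¹ ∈ E)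
    (z : G) (hzE : z ∈ E) (hzR : z ∈ Subgroup.centralizer ((R : Subgroup G) : Set G))
    (hu : ∀ x ∈ Subgroup.centralizer ((R : Subgroup G) : Set G), x ^ 16 = 1 → x = 1 ∨ x = z) :
    ∀ x ∈ E, z * x = x * z := by
  classical
  have h2 : Fact (Nat.Prime 2) := ⟨Nat.prime_two⟩
  have hEp : IsPGroup 2 ↥E := IsPGroup.of_card (n := 3) (by rw [hE8]; norm_num)
  have hEnt : Nontrivial ↥E := Finite.one_lt_card_iff_nontrivial.1 (by rw [hE8]; norm_num)
  have hZnt : Nontrivial ↥(Subgroup.center ↥E) := hEp.center_nontrivial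
  -- `R ≤ N(D)`
  have hRN : ∀ r ∈ (R : Subgroup G), r ∈ Subgroup.normalizer (D : Set G) := by
    intro r hr
    have hcomm : ∀ d ∈ D, r * d = d * r := fun d hd => (c.syl3 R).2 r hr d (c.conf.hDR hd)
    rw [Subgroup.mem_normalizer_iff]
    intro h
    constructor
    · intro hh
      have e : r * h * r⁻¹ = h := by
        rw [hcomm h hh]
        group
      rw [e]
      exact hh
    · intro hh
      have e : h = r * h * r⁻¹ := by
        calc h = r⁻¹ * ((r * h * r⁻¹) * r) := by group
          _ = r⁻¹ * (r * (r * h * r⁻¹)) := by rw [← hcomm _ hh]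
          _ = r * h * r⁻¹ := by group
      rw [e]
      exact hh
  -- commutative case
  have hcommcase : (∀ a b : ↥E, a * b = b * a) → ∀ x ∈ E, z * x = x * z := by
    intro hc x hx
    exact congrArg Subtype.val (hc ⟨z, hzE⟩ ⟨x, hx⟩)
  have hcyc : IsCyclic (↥E ⧸ Subgroup.center ↥E) → ∀ x ∈ E, z * x = x * z := by
    intro hcy
    apply hcommcase
    intro a b
    exact commutative_of_cyclic_center_quotient (QuotientGroup.mk' (Subgroup.center ↥E))
      (by rw [QuotientGroup.ker_mk']) a b
  have hmulidx := (Subgroup.center ↥E).card_mul_index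
  rw [hE8] at hmulidx
  have hZ1 : 1 < Nat.card ↥(Subgroup.center ↥E) := Finite.one_lt_card_iff_nontrivial.2 hZnt
  have hZdvd : Nat.card ↥(Subgroup.center ↥E) ∣ 8 := Dvd.intro _ hmulidx
  have hZle := Nat.le_of_dvd (by norm_num) hZdvd
  have hcases : Nat.card ↥(Subgroup.center ↥E) = 2 ∨ (Subgroup.center ↥E).index = 2 ∨
      (Subgroup.center ↥E).index = 1 := by
    generalize Nat.card ↥(Subgroup.center ↥E) = n at hmulidx hZ1 hZdvd hZle
    generalize (Subgroup.center ↥E).index = m at hmulidx
    interval_cases n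
    · left; rfl
    · omega
    · right; left; omega
    · omega
    · omega
    · omega
    · right; right; omega
  rcases hcases with hZ2 | hi2 | hi1
  · -- the centre `{1, w}` of order two
    obtain ⟨w, hw1⟩ := exists_ne (1 : ↥(Subgroup.center ↥E))
    have huniq : ∀ v : ↥(Subgroup.center ↥E), v ≠ 1 → v = w := by
      intro v hv
      obtain ⟨y, -, hy⟩ := (Nat.card_eq_two_iff' (1 : ↥(Subgroup.center ↥E))).1 hZ2
      rw [hy v hv, hy w hw1]
    have hwc : ∀ e : ↥E, e * (w : ↥E) = (w : ↥E) * e := fun e => Subgroup.mem_center_iff.1 w.2 e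
    have hwc' : ∀ e ∈ E, e * ((w : ↥E) : G) = ((w : ↥E) : G) * e := by
      intro e he
      exact congrArg Subtype.val (hwc ⟨e, he⟩)
    have hwR : ((w : ↥E) : G) ∈ Subgroup.centralizer ((R : Subgroup G) : Set G) := by
      rw [Subgroup.mem_centralizer_iff]
      intro r hr
      have hrN := hRN r hr
      have hmemE : r * ((w : ↥E) : G) * r⁻¹ ∈ E := hEn r hrN _ (w : ↥E).2
      have hcen : (⟨r * ((w : ↥E) : G) * r⁻¹, hmemE⟩ : ↥E) ∈ Subgroup.center ↥E := by
        rw [Subgroup.mem_center_iff]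
        intro e
        apply Subtype.ext
        have he' : r⁻¹ * (e : G) * r ∈ E := by
          have h := hEn r⁻¹ (Subgroup.inv_mem _ hrN) _ e.2
          rw [inv_inv] at h
          exact h
        have h := hwc' _ he'
        show (e : G) * (r * ((w : ↥E) : G) * r⁻¹) = (r * ((w : ↥E) : G) * r⁻¹) * (e : G)
        calc (e : G) * (r * ((w : ↥E) : G) * r⁻¹)
            = r * ((r⁻¹ * (e : G) * r) * ((w : ↥E) : G)) * r⁻¹ := by group
          _ = r * (((w : ↥E) : G) * (r⁻¹ * (e : G) * r)) * r⁻¹ := by rw [h]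
          _ = (r * ((w : ↥E) : G) * r⁻¹) * (e : G) := by group
      have hne : (⟨⟨r * ((w : ↥E) : G) * r⁻¹, hmemE⟩, hcen⟩ : ↥(Subgroup.center ↥E)) ≠ 1 := by
        intro h'
        apply hw1
        have h1 : r * ((w : ↥E) : G) * r⁻¹ = 1 :=
          congrArg Subtype.val (congrArg Subtype.val h')
        have h2' : ((w : ↥E) : G) = 1 := by
          calc ((w : ↥E) : G) = r⁻¹ * (r * ((w : ↥E) : G) * r⁻¹) * r := by group
            _ = 1 := by rw [h1]; group
        exact Subtype.ext (Subtype.ext h2')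
      have heq := huniq _ hne
      have h1 : r * ((w : ↥E) : G) * r⁻¹ = ((w : ↥E) : G) :=
        congrArg Subtype.val (congrArg Subtype.val heq)
      calc r * ((w : ↥E) : G) = (r * ((w : ↥E) : G) * r⁻¹) * r := by group
        _ = ((w : ↥E) : G) * r := by rw [h1]
    have hw16 : ((w : ↥E) : G) ^ 16 = 1 := by
      have h := Subgroup.orderOf_dvd_natCard E (w : ↥E).2
      rw [hE8] at h
      exact orderOf_dvd_iff_pow_eq_one.1 (h.trans (by norm_num))
    have hwne : ((w : ↥E) : G) ≠ 1 := by
      intro h'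
      exact hw1 (Subtype.ext (Subtype.ext h'))
    have hwz : ((w : ↥E) : G) = z := (hu _ hwR hw16).resolve_left hwne
    intro x hx
    rw [← hwz]
    exact (hwc' x hx).symm
  · apply hcyc
    have hcard : Nat.card (↥E ⧸ Subgroup.center ↥E) = 2 := by
      rw [← Subgroup.index_eq_card]
      exact hi2
    exact isCyclic_of_prime_card (p := 2) hcard
  · apply hcyc
    have hcard : Nat.card (↥E ⧸ Subgroup.center ↥E) = 1 := by
      rw [← Subgroup.index_eq_card]
      exact hi1
    have hsub : Subsingleton (↥E ⧸ Subgroup.center ↥E) :=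
      (Nat.card_eq_one_iff_unique.1 hcard).1
    exact isCyclic_of_subsingleton

end Cfsg.Agent.Helper31
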