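import Mathlib

set_option autoImplicit false

/-! helper31: a small tool for CALL S0434 (helper52): an element of prime power order
normalising a subgroup `R` fixes, by conjugation, a number of elements of `R` congruent to `|R|`
modulo `p`. -/

namespace Cfsg.Agent.Helper31

variable {G : Type*} [Group G] [Finite G]

theorem t7920_card_commuting_modEq {p k : ℕ} [Fact p.Prime] (R : Subgroup G) (x : G)
    (hx : x ∈ Subgroup.normalizer (R : Set G)) (hxo : orderOf x = p ^ k) :
    Nat.card ↥(R ⊓ Subgroup.centralizer ({x} : Set G)) ≡ Nat.card R [MOD p] := by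
  classical
  have hK : IsPGroup p (Subgroup.zpowers x) :=
    IsPGroup.of_card (n := k) (by rw [Nat.card_zpowers, hxo])
  have hKN : Subgroup.zpowers x ≤ Subgroup.normalizer (R : Set G) := Subgroup.zpowers_le.2 hx
  let act : MulAction (Subgroup.zpowers x) R :=
    { smul := fun c r => ⟨c * r * c⁻¹, (Subgroup.mem_normalizer_iff.1 (hKN c.2) r).1 r.2⟩
      one_smul := fun r => Subtype.ext (by
        show ((1 : Subgroup.zpowers x) : G) * r * ((1 : Subgroup.zpowers x) : G)⁻¹ = r
        simp)
      mul_smul := fun a b r => Subtype.ext (by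
        show ((a * b : Subgroup.zpowers x) : G) * r * ((a * b : Subgroup.zpowers x) : G)⁻¹
          = (a : G) * ((b : G) * r * (b : G)⁻¹) * (a : G)⁻¹
        rw [Subgroup.coe_mul]
        group) }
  have hsmul : ∀ (c : Subgroup.zpowers x) (r : R), ((c • r : R) : G) = c * r * c⁻¹ :=
    fun _ _ => rfl
  have h := hK.card_modEq_card_fixedPoints R
  have hequiv : Nat.card (MulAction.fixedPoints (Subgroup.zpowers x) R)
      = Nat.card ↥(R ⊓ Subgroup.centralizer ({x} : Set G)) := by
    apply Nat.card_congr
    refine
      { toFun := fun r => ⟨r.1.1, r.1.2, ?_⟩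
        invFun := fun r => ⟨⟨r.1, r.2.1⟩, ?_⟩
        left_inv := fun r => rfl
        right_inv := fun r => rfl }
    · have hr := r.2
      rw [MulAction.mem_fixedPoints] at hr
      have h1 := congrArg Subtype.val (hr ⟨x, Subgroup.mem_zpowers x⟩)
      rw [hsmul] at h1
      have h1' : x * ((r.1 : R) : G) * x⁻¹ = ((r.1 : R) : G) := h1
      show ((r.1 : R) : G) ∈ Subgroup.centralizer ({x} : Set G)
      rw [Subgroup.mem_centralizer_iff]
      intro z hz
      rw [Set.mem_singleton_iff] at hz
      subst hz
      calc z * (r.1 : G) = z * r.1 * z⁻¹ * z := by group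
        _ = r.1 * z := by rw [h1']
    · rw [MulAction.mem_fixedPoints]
      intro c
      apply Subtype.ext
      rw [hsmul]
      have hr : (r : G) ∈ Subgroup.centralizer ({x} : Set G) := r.2.2
      have hxc : x ∈ Subgroup.centralizer ({(r : G)} : Set G) := by
        rw [Subgroup.mem_centralizer_iff]
        intro z hz
        rw [Set.mem_singleton_iff] at hz
        subst hz
        rw [Subgroup.mem_centralizer_iff] at hr
        exact (hr x rfl).symm
      have hc : (c : G) ∈ Subgroup.centralizer ({(r : G)} : Set G) :=
        (Subgroup.zpowers_le.2 hxc) c.2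
      rw [Subgroup.mem_centralizer_iff] at hc
      have h2 := hc (r : G) rfl
      show (c : G) * (r : G) * (c : G)⁻¹ = (r : G)
      rw [← h2]
      group
  rw [← hequiv]
  exact h.symm

end Cfsg.Agent.Helper31
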