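import Mathlib
import Cfsg.Agent.Helper9.OrdTools
import Cfsg.Agent.Helper31.T7920Tools

set_option autoImplicit false

/-! helper31: CALL S0434 (helper52), pieces K11 and K5. -/

namespace Cfsg.Agent.Helper31

open Cfsg.Agent.Helper9.OrdTools

variable {G : Type*} [Group G] [Finite G]

-- PIECE K11
theorem o7920_no_eleven_three (hG : Nat.card G = 7920)
    (hC11 : ∀ P : Sylow 11 G, Nat.card ↥(Subgroup.centralizer ((P : Subgroup G) : Set G)) = 11)
    (R : Sylow 3 G) :
    ¬ 11 ∣ Nat.card ↥(Subgroup.normalizer ((R : Subgroup G) : Set G)) := by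
  intro hdvd
  have h11 : Fact (Nat.Prime 11) := ⟨by norm_num⟩
  have h3 : Fact (Nat.Prime 3) := ⟨by norm_num⟩
  have hS : ∀ P : Sylow 11 G, Nat.card (P : Subgroup G) = 11 := by
    intro P
    have h := sylow_card (p := 11) 1 720 (by rw [hG]; norm_num) (by norm_num) P
    rw [pow_one] at h
    exact h
  have hR : Nat.card (R : Subgroup G) = 9 := by
    have h := sylow_card (p := 3) 2 880 (by rw [hG]; norm_num) (by norm_num) R
    rw [h]
    norm_num
  obtain ⟨y, hyN, hy'⟩ : ∃ y : G, y ∈ Subgroup.normalizer ((R : Subgroup G) : Set G) ∧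
      orderOf y = 11 := by
    obtain ⟨y, hy⟩ := exists_prime_orderOf_dvd_card' 11 hdvd
    exact ⟨y, y.2, by rw [Subgroup.orderOf_coe]; exact hy⟩
  have hmod := t7920_card_commuting_modEq (p := 11) (k := 1) (R : Subgroup G) y hyN
    (by rw [hy', pow_one])
  rw [hR] at hmod
  have hdiv : Nat.card ↥((R : Subgroup G) ⊓ Subgroup.centralizer ({y} : Set G)) ∣ 9 :=
    hR ▸ Subgroup.card_dvd_of_le inf_le_left
  have key : ∀ a : ℕ, a ∣ 9 → a % 11 = 9 % 11 → a = 9 := by
    intro a h1 h2
    have hle := Nat.le_of_dvd (by norm_num) h1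
    omega
  have hcard := key _ hdiv hmod
  have hRle : (R : Subgroup G) ≤ Subgroup.centralizer ({y} : Set G) := by
    have h : (R : Subgroup G) ⊓ Subgroup.centralizer ({y} : Set G) = R :=
      Subgroup.eq_of_le_of_card_ge inf_le_left (by rw [hcard, hR])
    rw [← h]
    exact inf_le_right
  obtain ⟨P, hP⟩ := exists_sylow_of_orderOf hS hy'
  rw [centralizer_singleton_eq hP] at hRle
  have h := Subgroup.card_dvd_of_le hRle
  rw [hR, hC11 P] at h
  omega

-- PIECE K5
theorem o7920_no_five_three (hG : Nat.card G = 7920)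
    (hC5 : ∀ Q : Sylow 5 G, Nat.card ↥(Subgroup.centralizer ((Q : Subgroup G) : Set G)) ∣ 10)
    (R : Sylow 3 G) :
    ¬ 5 ∣ Nat.card ↥(Subgroup.normalizer ((R : Subgroup G) : Set G)) := by
  intro hdvd
  have h5 : Fact (Nat.Prime 5) := ⟨by norm_num⟩
  have h3 : Fact (Nat.Prime 3) := ⟨by norm_num⟩
  have hS : ∀ P : Sylow 5 G, Nat.card (P : Subgroup G) = 5 := by
    intro P
    have h := sylow_card (p := 5) 1 1584 (by rw [hG]; norm_num) (by norm_num) P
    rw [pow_one] at h
    exact h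
  have hR : Nat.card (R : Subgroup G) = 9 := by
    have h := sylow_card (p := 3) 2 880 (by rw [hG]; norm_num) (by norm_num) R
    rw [h]
    norm_num
  obtain ⟨y, hyN, hy'⟩ : ∃ y : G, y ∈ Subgroup.normalizer ((R : Subgroup G) : Set G) ∧
      orderOf y = 5 := by
    obtain ⟨y, hy⟩ := exists_prime_orderOf_dvd_card' 5 hdvd
    exact ⟨y, y.2, by rw [Subgroup.orderOf_coe]; exact hy⟩
  have hmod := t7920_card_commuting_modEq (p := 5) (k := 1) (R : Subgroup G) y hyN
    (by rw [hy', pow_one])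
  rw [hR] at hmod
  have hdiv : Nat.card ↥((R : Subgroup G) ⊓ Subgroup.centralizer ({y} : Set G)) ∣ 9 :=
    hR ▸ Subgroup.card_dvd_of_le inf_le_left
  have key : ∀ a : ℕ, a ∣ 9 → a % 5 = 9 % 5 → a = 9 := by
    intro a h1 h2
    have hle := Nat.le_of_dvd (by norm_num) h1
    interval_cases a <;> omega
  have hcard := key _ hdiv hmod
  have hRle : (R : Subgroup G) ≤ Subgroup.centralizer ({y} : Set G) := by
    have h : (R : Subgroup G) ⊓ Subgroup.centralizer ({y} : Set G) = R :=
      Subgroup.eq_of_le_of_card_ge inf_le_left (by rw [hcard, hR])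
    rw [← h]
    exact inf_le_right
  obtain ⟨Q, hQ⟩ := exists_sylow_of_orderOf hS hy'
  rw [centralizer_singleton_eq hQ] at hRle
  have h := (Subgroup.card_dvd_of_le hRle).trans (hC5 Q)
  rw [hR] at h
  omega

end Cfsg.Agent.Helper31
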