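import Mathlib
import Cfsg.Agent.Helper9.OrdTools
import Cfsg.Agent.Helper52.O7920Defs

set_option autoImplicit false

/-! helper31: CALL S0434 (helper52), pieces L11 and L5. -/

namespace Cfsg.Agent.Helper31

open Cfsg.Agent.Helper52 Cfsg.Agent.Helper9.OrdTools

variable {G : Type*} [Group G] [Finite G]

omit [Finite G] in
/-- `x` commutes with `y` iff `x` centralises `{y}`. -/
theorem t7920_mem_centralizer_of_mem {x : G} (y : ↥(Subgroup.centralizer ({x} : Set G))) :
    x ∈ Subgroup.centralizer ({(y : G)} : Set G) := by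
  rw [Subgroup.mem_centralizer_iff]
  intro z hz
  rw [Set.mem_singleton_iff] at hz
  subst hz
  have h := y.2
  rw [Subgroup.mem_centralizer_iff] at h
  exact (h x rfl).symm

-- PIECE L11
theorem o7920_cent_not11 (h : O7920Hyp G) (x : G) (hx : x ≠ 1) (hx11 : orderOf x ≠ 11) :
    ¬ 11 ∣ Nat.card ↥(Subgroup.centralizer ({x} : Set G)) := by
  intro hdvd
  have h11 : Fact (Nat.Prime 11) := ⟨by norm_num⟩
  have hS : ∀ P : Sylow 11 G, Nat.card (P : Subgroup G) = 11 := by
    intro P
    have h' := sylow_card (p := 11) 1 720 (by rw [h.card]; norm_num) (by norm_num) P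
    rw [pow_one] at h'
    exact h'
  obtain ⟨y, hy⟩ := exists_prime_orderOf_dvd_card' 11 hdvd
  have hy' : orderOf (y : G) = 11 := by
    rw [Subgroup.orderOf_coe]
    exact hy
  obtain ⟨P, hP⟩ := exists_sylow_of_orderOf hS hy'
  have hxC : x ∈ Subgroup.centralizer ((P : Subgroup G) : Set G) := by
    rw [← centralizer_singleton_eq hP]
    exact t7920_mem_centralizer_of_mem y
  have hPC : (P : Subgroup G) = Subgroup.centralizer ((P : Subgroup G) : Set G) := by
    apply Subgroup.eq_of_le_of_card_ge (le_centralizer_of_prime P (hS P))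
    rw [h.c11 P, hS P]
  have hxP : x ∈ (P : Subgroup G) := by
    rw [hPC]
    exact hxC
  apply hx11
  have hdiv : orderOf x ∣ 11 := by
    have h' := Subgroup.orderOf_dvd_natCard _ hxP
    rwa [hS P] at h'
  rcases (Nat.dvd_prime (by norm_num : Nat.Prime 11)).1 hdiv with h1 | h1
  · exact absurd (orderOf_eq_one_iff.1 h1) hx
  · exact h1

-- PIECE L5
theorem o7920_cent_not5 (h : O7920Hyp G) (x : G) (hx : x * x ≠ 1) (hx5 : ¬ 5 ∣ orderOf x) :
    ¬ 5 ∣ Nat.card ↥(Subgroup.centralizer ({x} : Set G)) := by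
  intro hdvd
  have h5 : Fact (Nat.Prime 5) := ⟨by norm_num⟩
  have hS : ∀ P : Sylow 5 G, Nat.card (P : Subgroup G) = 5 := by
    intro P
    have h' := sylow_card (p := 5) 1 1584 (by rw [h.card]; norm_num) (by norm_num) P
    rw [pow_one] at h'
    exact h'
  obtain ⟨y, hy⟩ := exists_prime_orderOf_dvd_card' 5 hdvd
  have hy' : orderOf (y : G) = 5 := by
    rw [Subgroup.orderOf_coe]
    exact hy
  obtain ⟨Q, hQ⟩ := exists_sylow_of_orderOf hS hy'
  have hxC : x ∈ Subgroup.centralizer ((Q : Subgroup G) : Set G) := by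
    rw [← centralizer_singleton_eq hQ]
    exact t7920_mem_centralizer_of_mem y
  have hdiv : orderOf x ∣ 10 := (Subgroup.orderOf_dvd_natCard _ hxC).trans (h.c5 Q)
  apply hx
  have h2 : orderOf x ∣ 2 := by
    have hcop : Nat.Coprime (orderOf x) 5 :=
      Nat.Coprime.symm ((Nat.Prime.coprime_iff_not_dvd (by norm_num)).2 hx5)
    exact hcop.dvd_of_dvd_mul_right (by norm_num; exact hdiv)
  have h3 := orderOf_dvd_iff_pow_eq_one.1 h2
  rw [pow_two] at h3
  exact h3

end Cfsg.Agent.Helper31
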