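import Mathlib
import Cfsg.Agent.Helper9.OrdTools
import Cfsg.Agent.Helper8.SylFix
import Cfsg.Agent.S1019
import Cfsg.Agent.Helper31.Ree1158

set_option autoImplicit false

/-! helper31: CALL S0434 (helper52), piece PAR16. -/

namespace Cfsg.Agent.Helper31

variable {G : Type*} [Group G] [Finite G]

-- PIECE PAR16
theorem o7920_parity16 [IsSimpleGroup G] (hG : Nat.card G = 7920) (T : Subgroup G)
    (hT : Nat.card ↥T = 16) (z : G) (hz : orderOf z = 2)
    (hC : Nat.card ↥(Subgroup.centralizer ({z} : Set G)) = 144) :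
    Nat.card {y : G // IsConj z y ∧ y ∈ T} % 4 = 3 := by
  classical
  have h2 : Fact (Nat.Prime 2) := ⟨Nat.prime_two⟩
  have hzz : z * z = 1 := by
    have h := pow_orderOf_eq_one z
    rw [hz, pow_two] at h
    exact h
  have hz1 : z ≠ 1 := by
    intro h
    rw [h, orderOf_one] at hz
    omega
  have hidx : T.index = 495 := by
    have h := T.card_mul_index
    rw [hT, hG] at h
    omega
  have hNα : Nat.card (G ⧸ T) = 495 := by
    rw [← Subgroup.index_eq_card, hidx]
  -- `G` is not abelian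
  have hna : ∃ a b : G, a * b ≠ b * a := by
    by_contra hcon
    have hcomm : ∀ a b : G, a * b = b * a := by
      intro a b
      by_contra hab
      exact hcon ⟨a, b, hab⟩
    have hn : T.Normal := ⟨fun n hn g => by rw [hcomm g n, mul_inv_cancel_right]; exact hn⟩
    rcases hn.eq_bot_or_eq_top with h | h
    · rw [h, Subgroup.card_bot] at hT
      omega
    · rw [h, Subgroup.card_top, hG] at hT
      omega
  -- a coset fixed by `z`
  have hK : IsPGroup 2 (Subgroup.zpowers z) :=
    IsPGroup.of_card (n := 1) (by rw [Nat.card_zpowers, hz]; norm_num)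
  have hnd : ¬ 2 ∣ Nat.card (G ⧸ T) := by
    rw [hNα]
    norm_num
  obtain ⟨q, hq⟩ := hK.nonempty_fixed_point_of_prime_not_dvd_card (G ⧸ T) hnd
  obtain ⟨g, rfl⟩ := QuotientGroup.mk_surjective q
  have hfix := hq ⟨z, Subgroup.mem_zpowers z⟩
  have hxT : g⁻¹ * z * g ∈ T := by
    have h' : ((z * g : G) : G ⧸ T) = (g : G ⧸ T) := hfix
    rw [QuotientGroup.eq] at h'
    have e : g⁻¹ * z * g = ((z * g)⁻¹ * g)⁻¹ := by group
    rw [e]
    exact T.inv_mem h'
  obtain ⟨x, hx⟩ : ∃ x : G, x = g⁻¹ * z * g := ⟨_, rfl⟩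
  rw [← hx] at hxT
  have hconj : IsConj z x := isConj_iff.2 ⟨g⁻¹, by rw [hx, inv_inv]⟩
  have hxx : x * x = 1 := by
    rw [hx]
    calc g⁻¹ * z * g * (g⁻¹ * z * g) = g⁻¹ * (z * z) * g := by group
      _ = 1 := by rw [hzz]; group
  have hx1 : x ≠ 1 := by
    intro h
    apply hz1
    calc z = g * (g⁻¹ * z * g) * g⁻¹ := by group
      _ = 1 := by rw [← hx, h]; group
  have hxo : orderOf x = 2 := orderOf_eq_prime (by rw [pow_two]; exact hxx) hx1
  -- the class of `x` has 55 elements
  have hclass : Nat.card {y : G // IsConj x y} = 55 := by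
    have h := card_conj_class_mul z (fun y => IsConj x y) (by
      intro y
      constructor
      · intro hy
        exact isConj_iff.1 (hconj.trans hy)
      · intro hy
        exact hconj.symm.trans (isConj_iff.2 hy))
    rw [hC, hG] at h
    omega
  have hm : Nat.card {y : G // IsConj x y ∧ y ∈ T} = Nat.card {y : G // IsConj z y ∧ y ∈ T} := by
    apply Nat.card_congr
    apply Equiv.subtypeEquivRight
    intro y
    constructor
    · rintro ⟨h1, h2'⟩
      exact ⟨hconj.trans h1, h2'⟩
    · rintro ⟨h1, h2'⟩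
      exact ⟨hconj.symm.trans h1, h2'⟩
  have hS := Cfsg.Agent.S1019.result T x hxT
  rw [hclass, hidx, hm] at hS
  generalize Nat.card {y : G // IsConj z y ∧ y ∈ T} = m at hS ⊢
  have hf : Nat.card (MulAction.fixedBy (G ⧸ T) x) = 9 * m := by omega
  -- parity of the number of fixed points
  have hKx : IsPGroup 2 (Subgroup.zpowers x) :=
    IsPGroup.of_card (n := 1) (by rw [Nat.card_zpowers, hxo]; norm_num)
  have hmod := hKx.card_modEq_card_fixedPoints (G ⧸ T)
  have hfpeq : MulAction.fixedPoints (Subgroup.zpowers x) (G ⧸ T) = MulAction.fixedBy (G ⧸ T) x := by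
    ext q
    rw [MulAction.mem_fixedPoints, MulAction.mem_fixedBy]
    constructor
    · intro h
      exact h ⟨x, Subgroup.mem_zpowers x⟩
    · intro h c
      have hle : Subgroup.zpowers x ≤ MulAction.stabilizer G q :=
        Subgroup.zpowers_le.2 (MulAction.mem_stabilizer_iff.2 h)
      exact MulAction.mem_stabilizer_iff.1 (hle c.2)
  rw [hfpeq, hNα, hf] at hmod
  have hle : Nat.card (MulAction.fixedBy (G ⧸ T) x) ≤ Nat.card (G ⧸ T) :=
    Nat.card_le_card_of_injective _ Subtype.val_injective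
  rw [hf, hNα] at hle
  obtain ⟨c, hc⟩ : ∃ c, 9 * m + 2 * c = 495 := by
    refine ⟨(495 - 9 * m) / 2, ?_⟩
    unfold Nat.ModEq at hmod
    omega
  by_contra hcon
  have hcodd : Odd c := by
    rw [Nat.odd_iff]
    omega
  haveI : Fintype (G ⧸ T) := Fintype.ofFinite _
  have hσ2 : (MulAction.toPermHom G (G ⧸ T) x) ^ 2 = 1 := by
    rw [← map_pow, pow_two, hxx, map_one]
  have hNfp : Nat.card (Function.fixedPoints (MulAction.toPermHom G (G ⧸ T) x)) = 9 * m := by
    rw [← hf]
    rfl
  have hsign := Cfsg.Agent.Helper8.SylFix.sign_of_involution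
    (MulAction.toPermHom G (G ⧸ T) x) hσ2 c
    (by rw [← Nat.card_eq_fintype_card, ← Nat.card_eq_fintype_card, hNfp, hNα]; exact hc) hcodd
  have htriv := Cfsg.Agent.Helper9.OrdTools.hom_trivial hna
    (Equiv.Perm.sign.comp (MulAction.toPermHom G (G ⧸ T))) x
  rw [MonoidHom.comp_apply, hsign] at htriv
  exact absurd htriv (by decide)

end Cfsg.Agent.Helper31
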