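import Mathlib
import Cfsg.Prelude.Def_GeometricClasses
import Cfsg.Prelude.Def_Classical
import Cfsg.Agent.Helper58.TSDefs
import Cfsg.Agent.Helper43.PrimeOrdO3
import Cfsg.Agent.Helper33.OType

/-!
# helper31: sub-CALL TB (helper43) of CALL TS, piece AEVALPROD (`tb_aeval_prod`, verbatim).
-/

set_option autoImplicit false

namespace Cfsg.Agent.Helper31.TB

open Module Polynomial Cfsg Cfsg.Geo Cfsg.Agent.Helper58.TS
open Cfsg.Agent.Helper43 Cfsg.Agent.Helper43.OrthEven Cfsg.Agent.Helper43.CycFactors
  Cfsg.Agent.Helper43.PrimeOrdMat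
open scoped MatrixGroups

universe u

section lin

variable {F : Type*} [Field F] {Va Vb : Type*} [AddCommGroup Va] [Module F Va] [AddCommGroup Vb]
  [Module F Vb]

/-- AEVALPROD [S, generic]: polynomials in a product map.  (`Polynomial.induction_on`, or the
algebra hom `End Va × End Vb → End (Va × Vb)`.) -/
theorem tb_aeval_prod (Ta : Module.End F Va) (Tb : Module.End F Vb) (f : F[X]) :
    aeval (Ta.prodMap Tb) f = (aeval Ta f).prodMap (aeval Tb f) := by
  have h1 := Polynomial.aeval_algHom_apply (LinearMap.prodMapAlgHom F Va Vb) (Ta, Tb) f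
  rw [Polynomial.aeval_prod_apply] at h1
  exact h1

end lin

end Cfsg.Agent.Helper31.TB
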