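import Mathlib
import Cfsg.Prelude.Def_GeometricClasses
import Cfsg.Prelude.Def_Classical
import Cfsg.Agent.Helper58.TSDefs
import Cfsg.Agent.Helper43.PrimeOrdO3
import Cfsg.Agent.Helper33.OType

/-!
# helper31: sub-CALL TB (helper43) of CALL TS, piece PRODND (`tb_prod_nd`, verbatim).
-/

set_option autoImplicit false

namespace Cfsg.Agent.Helper31.TB

open Module Polynomial Cfsg Cfsg.Geo Cfsg.Agent.Helper58.TS
open Cfsg.Agent.Helper43 Cfsg.Agent.Helper43.OrthEven Cfsg.Agent.Helper43.CycFactors
  Cfsg.Agent.Helper43.PrimeOrdMat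
open scoped MatrixGroups

universe u

section lin

variable {F : Type*} [Field F] {Va Vb : Type*} [AddCommGroup Va] [Module F Va] [AddCommGroup Vb]
  [Module F Vb]

/-- PRODND [S, generic]: the orthogonal sum of two spaces with nondegenerate polar forms. -/
theorem tb_prod_nd (Qa : QuadraticForm F Va) (Qb : QuadraticForm F Vb) (ha : PolarNondeg Qa)
    (hb : PolarNondeg Qb) : PolarNondeg (Qa.prod Qb) := by
  rintro ⟨a, b⟩ h
  have h1 : a = 0 := by
    apply ha
    intro w
    have h2 := h (w, 0)
    rw [QuadraticMap.polar_prod] at h2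
    simpa using h2
  have h3 : b = 0 := by
    apply hb
    intro w
    have h2 := h (0, w)
    rw [QuadraticMap.polar_prod] at h2
    simpa using h2
  rw [h1, h3]
  rfl

end lin

end Cfsg.Agent.Helper31.TB
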