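import Mathlib
import Cfsg.Prelude.Def_GeometricClasses
import Cfsg.Prelude.Def_Classical
import Cfsg.Agent.Helper58.TSDefs
import Cfsg.Agent.Helper43.PrimeOrdO3
import Cfsg.Agent.Helper33.OType

/-!
# helper31: sub-CALL TB (helper43) of CALL TS, piece PRODTS (`tb_prod_ts`, verbatim).
-/

set_option autoImplicit false

namespace Cfsg.Agent.Helper31.TB

open Module Polynomial Cfsg Cfsg.Geo Cfsg.Agent.Helper58.TS
open Cfsg.Agent.Helper43 Cfsg.Agent.Helper43.OrthEven Cfsg.Agent.Helper43.CycFactors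
  Cfsg.Agent.Helper43.PrimeOrdMat
open scoped MatrixGroups

universe u

section lin

variable {F : Type*} [Field F] {Va Vb : Type*} [AddCommGroup Va] [Module F Va] [AddCommGroup Vb]
  [Module F Vb]

/-- PRODTS [S, generic]: a totally singular product subspace. -/
theorem tb_prod_ts [FiniteDimensional F Va] [FiniteDimensional F Vb] (Qa : QuadraticForm F Va)
    (Qb : QuadraticForm F Vb) (Ua : Submodule F Va) (Ub : Submodule F Vb)
    (h : ∀ w ∈ Ua.prod Ub, (Qa.prod Qb) w = 0) :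
    (∀ u ∈ Ua, Qa u = 0) ∧ (∀ u ∈ Ub, Qb u = 0) ∧
      finrank F ↥(Ua.prod Ub) = finrank F Ua + finrank F Ub := by
  refine ⟨?_, ?_, ?_⟩
  · intro u hu
    have h1 := h (u, 0) ⟨hu, Ub.zero_mem⟩
    rw [QuadraticMap.prod_apply] at h1
    simpa using h1
  · intro u hu
    have h1 := h (0, u) ⟨Ua.zero_mem, hu⟩
    rw [QuadraticMap.prod_apply] at h1
    simpa using h1
  · have e : ↥(Ua.prod Ub) ≃ₗ[F] Ua × Ub :=
      { toFun := fun w => (⟨w.1.1, w.2.1⟩, ⟨w.1.2, w.2.2⟩)
        map_add' := fun _ _ => rfl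
        map_smul' := fun _ _ => rfl
        invFun := fun p => ⟨(p.1.1, p.2.1), ⟨p.1.2, p.2.2⟩⟩
        left_inv := fun _ => rfl
        right_inv := fun _ => rfl }
    rw [e.finrank_eq, Module.finrank_prod]

end lin

end Cfsg.Agent.Helper31.TB
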