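import Mathlib
import Cfsg.Prelude.Def_GeometricClasses
import Cfsg.Prelude.Def_Classical
import Cfsg.Agent.Helper58.TSDefs
import Cfsg.Agent.Helper43.PrimeOrdO3
import Cfsg.Agent.Helper33.OType

/-!
# helper31: sub-CALL TB (helper43) of CALL TS, piece SEL (`tb_sel`, verbatim).
-/

set_option autoImplicit false

namespace Cfsg.Agent.Helper31.TB

open Module Polynomial Cfsg Cfsg.Geo Cfsg.Agent.Helper58.TS
open Cfsg.Agent.Helper43 Cfsg.Agent.Helper43.OrthEven Cfsg.Agent.Helper43.CycFactors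
  Cfsg.Agent.Helper43.PrimeOrdMat
open scoped MatrixGroups

universe u

/-- SEL [S, pure finset combinatorics]: the multiplicities of the bad element for `i` even:
`o = 0`: `S = {P₁}`, `c P₁ = A` (even); `o ≥ 1`: `S ⊆ J` of cardinality `o`
(`Finset.exists_subset_card_eq`), `P₁ ∈ S`, `c P₁ = A - o + 1` (odd), `c P = 1` otherwise. -/
theorem tb_sel {α : Type*} [DecidableEq α] (J : Finset α) (A o : ℕ) (hJ : 1 ≤ J.card)
    (ho : o ≤ J.card) (hoA : o ≤ A) (hpar : Even (A - o)) :
    ∃ (S : Finset α) (c : α → ℕ), S ⊆ J ∧ ∑ P ∈ S, c P = A ∧ ∑ P ∈ S, c P % 2 = o := by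
  rcases Nat.eq_zero_or_pos o with h0 | h0
  · subst h0
    obtain ⟨P₁, hP₁⟩ := Finset.card_pos.1 hJ
    refine ⟨{P₁}, fun _ => A, Finset.singleton_subset_iff.2 hP₁, ?_, ?_⟩
    · rw [Finset.sum_singleton]
    · rw [Finset.sum_singleton]
      rw [Nat.sub_zero] at hpar
      exact Nat.even_iff.1 hpar
  · obtain ⟨S, hSJ, hScard⟩ := Finset.exists_subset_card_eq ho
    have hSne : S.Nonempty := Finset.card_pos.1 (by omega)
    obtain ⟨P₁, hP₁⟩ := hSne
    refine ⟨S, fun P => if P = P₁ then A - o + 1 else 1, hSJ, ?_, ?_⟩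
    · rw [← Finset.add_sum_erase S _ hP₁, if_pos rfl]
      have h1 : ∑ P ∈ S.erase P₁, (if P = P₁ then A - o + 1 else 1) = ∑ P ∈ S.erase P₁, 1 := by
        apply Finset.sum_congr rfl
        intro P hP
        rw [if_neg (Finset.ne_of_mem_erase hP)]
      rw [h1, Finset.sum_const, Finset.card_erase_of_mem hP₁, hScard, smul_eq_mul, mul_one]
      omega
    · rw [← Finset.add_sum_erase S _ hP₁]
      beta_reduce
      rw [if_pos rfl]
      have h1 : ∑ P ∈ S.erase P₁, (if P = P₁ then A - o + 1 else 1) % 2 = ∑ P ∈ S.erase P₁, 1 := by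
        apply Finset.sum_congr rfl
        intro P hP
        rw [if_neg (Finset.ne_of_mem_erase hP)]
      rw [h1, Finset.sum_const, Finset.card_erase_of_mem hP₁, hScard, smul_eq_mul, mul_one]
      have h2 : (A - o + 1) % 2 = 1 := by
        have := Nat.even_iff.1 hpar
        omega
      omega

end Cfsg.Agent.Helper31.TB
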