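import Mathlib

/-!
# Transitivity of the transfer (helper31)

`transfer_transfer`: for `H ≤ K ≤ G` (finite), the transfer of `ϕ : H →* A` to `G` is the transfer to `G`
of the transfer of `ϕ` to `K`.
-/

set_option autoImplicit false

namespace Cfsg.Agent.Helper31

open scoped Pointwise

section TransferTrans

variable {G : Type*} [Group G] {A : Type*} [CommGroup A]

open Classical in
/-- Extension by `1` of a homomorphism on a subgroup. -/
noncomputable def trPsi {H : Subgroup G} (ϕ : H →* A) (x : G) : A :=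
  if h : x ∈ H then ϕ ⟨x, h⟩ else 1

theorem trPsi_mk {H : Subgroup G} (ϕ : H →* A) {x : G} (h : x ∈ H) : trPsi ϕ x = ϕ ⟨x, h⟩ := by
  unfold trPsi
  rw [dif_pos h]

theorem sec_mem {H : Subgroup G} (r : G ⧸ H → G) (hr : ∀ q, ((r q : G) : G ⧸ H) = q) (g : G)
    (q : G ⧸ H) : (r q)⁻¹ * (g * r (g⁻¹ • q)) ∈ H := by
  rw [← QuotientGroup.eq, hr]
  have h1 : ((g * r (g⁻¹ • q) : G) : G ⧸ H) = g • ((r (g⁻¹ • q) : G) : G ⧸ H) := rfl
  rw [h1, hr, smul_inv_smul]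

/-- Section formula for the transfer. -/
theorem transfer_eq_prod_trPsi {H : Subgroup G} [H.FiniteIndex] [Fintype (G ⧸ H)] (ϕ : H →* A)
    (r : G ⧸ H → G) (hr : ∀ q, ((r q : G) : G ⧸ H) = q) (g : G) :
    MonoidHom.transfer ϕ g = ∏ q : G ⧸ H, trPsi ϕ ((r q)⁻¹ * (g * r (g⁻¹ • q))) := by
  classical
  have hinst : (‹Fintype (G ⧸ H)› : Fintype (G ⧸ H)) = H.fintypeQuotientOfFiniteIndex :=
    Subsingleton.elim _ _
  subst hinst
  let T : H.LeftTransversal := ⟨Set.range r, Subgroup.isComplement_range_left hr⟩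
  rw [MonoidHom.transfer_def ϕ T g]
  unfold Subgroup.leftTransversals.diff
  refine Finset.prod_congr rfl (fun q _ => ?_)
  rw [trPsi_mk ϕ (sec_mem r hr g q)]
  congr 1
  apply Subtype.ext
  have h1 : ∀ q, ((T.2.leftQuotientEquiv q : G)) = r q :=
    fun q => Subgroup.IsComplement.leftQuotientEquiv_apply hr q
  show ((T.2.leftQuotientEquiv q : G))⁻¹ * ((g • T).2.leftQuotientEquiv q : G) = _
  rw [Subgroup.smul_apply_eq_smul_apply_inv_smul, h1, h1]
  rfl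

/-- **Transitivity of the transfer.** -/
theorem transfer_transfer [Finite G] {H K : Subgroup G} (hHK : H ≤ K) (ϕ : H →* A) (g : G) :
    MonoidHom.transfer ϕ g =
      MonoidHom.transfer (MonoidHom.transfer
        (ϕ.comp (Subgroup.subgroupOfEquivOfLe hHK).toMonoidHom)) g := by
  classical
  have : Fintype (G ⧸ H) := Fintype.ofFinite _
  have : Fintype (G ⧸ K) := Fintype.ofFinite _
  have : Fintype (↥K ⧸ H.subgroupOf K) := Fintype.ofFinite _
  let rK : G ⧸ K → G := Quotient.out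
  have hrK : ∀ c, ((rK c : G) : G ⧸ K) = c := fun c => Quotient.out_eq' c
  let rH : ↥K ⧸ H.subgroupOf K → ↥K := Quotient.out
  have hrH : ∀ d, ((rH d : ↥K) : ↥K ⧸ H.subgroupOf K) = d := fun d => Quotient.out_eq' d
  let e : (G ⧸ K) × (↥K ⧸ H.subgroupOf K) → G ⧸ H :=
    fun x => ((rK x.1 * ((rH x.2 : ↥K) : G) : G) : G ⧸ H)
  have he_inj : Function.Injective e := by
    rintro ⟨c, d⟩ ⟨c', d'⟩ h
    have h1 : (rK c * ((rH d : ↥K) : G))⁻¹ * (rK c' * ((rH d' : ↥K) : G)) ∈ H :=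
      QuotientGroup.eq.1 h
    have h2 : c = c' := by
      rw [← hrK c, ← hrK c', QuotientGroup.eq]
      have h3 := hHK h1
      have h4 : (rK c)⁻¹ * rK c' = ((rH d : ↥K) : G) *
          ((rK c * ((rH d : ↥K) : G))⁻¹ * (rK c' * ((rH d' : ↥K) : G))) *
          ((rH d' : ↥K) : G)⁻¹ := by group
      rw [h4]
      exact K.mul_mem (K.mul_mem (rH d).2 h3) (K.inv_mem (rH d').2)
    subst h2
    have h5 : d = d' := by
      rw [← hrH d, ← hrH d', QuotientGroup.eq, Subgroup.mem_subgroupOf]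
      have h6 : (((rH d)⁻¹ * rH d' : ↥K) : G) =
          (rK c * ((rH d : ↥K) : G))⁻¹ * (rK c * ((rH d' : ↥K) : G)) := by
        rw [Subgroup.coe_mul, Subgroup.coe_inv]
        group
      rw [h6]
      exact h1
    rw [h5]
  have hcard : Fintype.card ((G ⧸ K) × (↥K ⧸ H.subgroupOf K)) = Fintype.card (G ⧸ H) := by
    rw [Fintype.card_prod, ← Nat.card_eq_fintype_card, ← Nat.card_eq_fintype_card,
      ← Nat.card_eq_fintype_card]
    have h1 := Subgroup.relIndex_mul_index hHK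
    rw [mul_comm]
    exact h1
  let E : (G ⧸ K) × (↥K ⧸ H.subgroupOf K) ≃ G ⧸ H :=
    Equiv.ofBijective e ((Fintype.bijective_iff_injective_and_card e).2 ⟨he_inj, hcard⟩)
  let r : G ⧸ H → G := fun q => rK (E.symm q).1 * ((rH (E.symm q).2 : ↥K) : G)
  have hr : ∀ q, ((r q : G) : G ⧸ H) = q := fun q => E.apply_symm_apply q
  have hrE : ∀ c d, r (E (c, d)) = rK c * ((rH d : ↥K) : G) := by
    intro c d
    show rK (E.symm (E (c, d))).1 * ((rH (E.symm (E (c, d))).2 : ↥K) : G) = _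
    rw [E.symm_apply_apply]
  have hk : ∀ c : G ⧸ K, (rK c)⁻¹ * (g * rK (g⁻¹ • c)) ∈ K := sec_mem rK hrK g
  let kc : G ⧸ K → ↥K := fun c => ⟨(rK c)⁻¹ * (g * rK (g⁻¹ • c)), hk c⟩
  have hshift : ∀ c d, g⁻¹ • E (c, d) = E (g⁻¹ • c, (kc c)⁻¹ • d) := by
    intro c d
    show ((g⁻¹ * (rK c * ((rH d : ↥K) : G)) : G) : G ⧸ H) =
      ((rK (g⁻¹ • c) * ((rH ((kc c)⁻¹ • d) : ↥K) : G) : G) : G ⧸ H)
    rw [QuotientGroup.eq]
    have h1 : ((rH ((kc c)⁻¹ • d) : ↥K) : ↥K ⧸ H.subgroupOf K) =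
        (((kc c)⁻¹ * rH d : ↥K) : ↥K ⧸ H.subgroupOf K) := by
      rw [hrH]
      show (kc c)⁻¹ • d = (kc c)⁻¹ • ((rH d : ↥K) : ↥K ⧸ H.subgroupOf K)
      rw [hrH]
    have h2 := QuotientGroup.eq.1 h1.symm
    rw [Subgroup.mem_subgroupOf] at h2
    have h3 : (g⁻¹ * (rK c * ((rH d : ↥K) : G)))⁻¹ *
        (rK (g⁻¹ • c) * ((rH ((kc c)⁻¹ • d) : ↥K) : G)) =
        ((((kc c)⁻¹ * rH d)⁻¹ * rH ((kc c)⁻¹ • d) : ↥K) : G) := by
      simp only [Subgroup.coe_mul, Subgroup.coe_inv, kc]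
      group
    rw [h3]
    exact h2
  rw [transfer_eq_prod_trPsi ϕ r hr g,
    ← Equiv.prod_comp E (fun q => trPsi ϕ ((r q)⁻¹ * (g * r (g⁻¹ • q)))),
    Fintype.prod_prod_type,
    transfer_eq_prod_trPsi (MonoidHom.transfer
      (ϕ.comp (Subgroup.subgroupOfEquivOfLe hHK).toMonoidHom)) rK hrK g]
  refine Finset.prod_congr rfl (fun c _ => ?_)
  rw [trPsi_mk _ (hk c)]
  show _ = MonoidHom.transfer (ϕ.comp (Subgroup.subgroupOfEquivOfLe hHK).toMonoidHom) (kc c)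
  rw [transfer_eq_prod_trPsi (ϕ.comp (Subgroup.subgroupOfEquivOfLe hHK).toMonoidHom) rH hrH (kc c)]
  refine Finset.prod_congr rfl (fun d _ => ?_)
  rw [hshift, hrE, hrE]
  have hmemK := sec_mem rH hrH (kc c) d
  rw [trPsi_mk _ hmemK]
  have hel : (rK c * ((rH d : ↥K) : G))⁻¹ *
      (g * (rK (g⁻¹ • c) * ((rH ((kc c)⁻¹ • d) : ↥K) : G))) =
      (((rH d)⁻¹ * (kc c * rH ((kc c)⁻¹ • d)) : ↥K) : G) := by
    simp only [Subgroup.coe_mul, Subgroup.coe_inv, kc]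
    group
  rw [hel, trPsi_mk ϕ (Subgroup.mem_subgroupOf.1 hmemK)]
  rfl

end TransferTrans

end Cfsg.Agent.Helper31
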