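import Cfsg.Agent.Helper31.WVLocal

/-!
Control of strong fusion by a conjugacy functor `W` together with a central functor `V`:
local control in the subgroups `N_G(H)`, `Z(P) ≤ H ≤ P`, implies global control (helper31).
-/

set_option autoImplicit false

namespace Cfsg.Agent.Helper31

variable {G : Type*} [Group G]

/-- Conjugations that are products of a centralizing element and steps through `N` and `C`
which stay inside `P`. -/
inductive WVGood (P N C : Subgroup G) : Set G → G → Prop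
  | cent {X : Set G} {c : G} : X ⊆ (P : Set G) → c ∈ Subgroup.centralizer X → WVGood P N C X c
  | stepN {X : Set G} {b : G} : X ⊆ (P : Set G) → cj b X ⊆ (P : Set G) → b ∈ N → WVGood P N C X b
  | stepC {X : Set G} {b : G} : X ⊆ (P : Set G) → cj b X ⊆ (P : Set G) → b ∈ C → WVGood P N C X b
  | comp {X : Set G} {a a' : G} : WVGood P N C X a → WVGood P N C (cj a X) a' →
      WVGood P N C X (a * a')

theorem WVGood.mono {P N C : Subgroup G} {X : Set G} {a : G} (h : WVGood P N C X a) :
    ∀ X' : Set G, X' ⊆ X → WVGood P N C X' a := by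
  induction h with
  | cent hX hc =>
    intro X' hX'
    exact .cent (hX'.trans hX) (Subgroup.centralizer_le hX' hc)
  | stepN hX hb hN =>
    intro X' hX'
    exact .stepN (hX'.trans hX) ((cj_mono hX').trans hb) hN
  | stepC hX hb hC =>
    intro X' hX'
    exact .stepC (hX'.trans hX) ((cj_mono hX').trans hb) hC
  | comp _ _ ih1 ih2 =>
    intro X' hX'
    exact .comp (ih1 X' hX') (ih2 _ (cj_mono hX'))

theorem WVGood.inv {P N C : Subgroup G} {X : Set G} {a : G} (h : WVGood P N C X a) :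
    WVGood P N C (cj a X) a⁻¹ := by
  induction h with
  | cent hX hc =>
    rw [cj_of_mem_centralizer hc]
    exact .cent hX (inv_mem hc)
  | stepN hX hb hN =>
    refine .stepN hb ?_ (inv_mem hN)
    rw [cj_inv_cj]
    exact hX
  | stepC hX hb hC =>
    refine .stepC hb ?_ (inv_mem hC)
    rw [cj_inv_cj]
    exact hX
  | @comp X a a' _ _ ih1 ih2 =>
    rw [cj_mul, mul_inv_rev]
    refine .comp ih2 ?_
    rw [cj_inv_cj]
    exact ih1

/-- The normal form of a good conjugation. -/
theorem WVGood.exists_list {P N C : Subgroup G} {X : Set G} {a : G} (h : WVGood P N C X a) :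
    ∃ c ∈ Subgroup.centralizer X, ∃ l : List G, (∀ b ∈ l, b ∈ N ∨ b ∈ C) ∧
      (∀ k : ℕ, k ≤ l.length → cj (l.take k).prod X ⊆ (P : Set G)) ∧ a = c * l.prod := by
  induction h with
  | @cent X c hX hc =>
    refine ⟨c, hc, [], by simp, ?_, by simp⟩
    intro k _
    simpa [cj_one] using hX
  | @stepN X b hX hb hN =>
    refine ⟨1, one_mem _, [b], by simpa using Or.inl hN, ?_, by simp⟩
    intro k hk
    have hk' : k = 0 ∨ k = 1 := by
      simp only [List.length_singleton] at hk
      omega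
    rcases hk' with rfl | rfl
    · simpa [cj_one] using hX
    · simpa using hb
  | @stepC X b hX hb hC =>
    refine ⟨1, one_mem _, [b], by simpa using Or.inr hC, ?_, by simp⟩
    intro k hk
    have hk' : k = 0 ∨ k = 1 := by
      simp only [List.length_singleton] at hk
      omega
    rcases hk' with rfl | rfl
    · simpa [cj_one] using hX
    · simpa using hb
  | @comp X a a' _ _ ih1 ih2 =>
    obtain ⟨c, hc, l, hl, hch, ha⟩ := ih1
    obtain ⟨c', hc', l', hl', hch', ha'⟩ := ih2
    have hcj : cj a X = cj l.prod X := by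
      rw [ha, cj_mul, cj_of_mem_centralizer hc]
    have hc'' : l.prod * c' * l.prod⁻¹ ∈ Subgroup.centralizer X := by
      rw [Subgroup.mem_centralizer_iff]
      intro x hx
      have hx' : l.prod⁻¹ * x * l.prod ∈ cj a X := by
        rw [hcj]
        exact ⟨x, hx, rfl⟩
      have h2 : l.prod⁻¹ * x * l.prod * c' = c' * (l.prod⁻¹ * x * l.prod) :=
        Subgroup.mem_centralizer_iff.1 hc' _ hx'
      calc x * (l.prod * c' * l.prod⁻¹) = l.prod * (l.prod⁻¹ * x * l.prod * c') * l.prod⁻¹ := by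
            group
        _ = l.prod * (c' * (l.prod⁻¹ * x * l.prod)) * l.prod⁻¹ := by rw [h2]
        _ = l.prod * c' * l.prod⁻¹ * x := by group
    refine ⟨c * (l.prod * c' * l.prod⁻¹), mul_mem hc hc'', l ++ l', ?_, ?_, ?_⟩
    · intro b hb
      rcases List.mem_append.1 hb with hb | hb
      · exact hl b hb
      · exact hl' b hb
    · intro k hk
      rw [List.take_append, List.prod_append]
      by_cases hkl : k ≤ l.length
      · have e : k - l.length = 0 := by omega
        rw [e]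
        simpa using hch k hkl
      · have e : l.take k = l := List.take_of_length_le (by omega)
        rw [e, cj_mul, ← hcj]
        apply hch' (k - l.length)
        rw [List.length_append] at hk
        omega
    · rw [ha, ha', List.prod_append]
      group

section Fin

variable [Finite G] {p : ℕ} [Fact p.Prime]

/-- The relation "good for `P`" satisfies the hypotheses of the local-to-global principle. -/
theorem wv_fusion_goodRel (P : Sylow p G) (W V : Subgroup G → Subgroup G)
    (hW : Cfsg.IsConjugacyFunctor p W) (hV : Cfsg.IsConjugacyFunctor p V)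
    (hVmono : ∀ H K : Subgroup G, IsPGroup p ↥H → IsPGroup p ↥K → H ≠ ⊥ → K ≠ ⊥ →
      H ⊓ Subgroup.centralizer ((H : Subgroup G) : Set G) ≤
        K ⊓ Subgroup.centralizer ((K : Subgroup G) : Set G) → V H ≤ V K)
    (hloc : ∀ H : Subgroup G,
      (P : Subgroup G) ⊓ Subgroup.centralizer (((P : Subgroup G) : Subgroup G) : Set G) ≤ H →
      H ≤ (P : Subgroup G) → ∃ Q : Subgroup G, Q ≤ Subgroup.normalizer ((H : Subgroup G) : Set G) ∧
        IsPGroup p ↥Q ∧ ¬ p ∣ (Q).relIndex (Subgroup.normalizer ((H : Subgroup G) : Set G)) ∧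
        ∀ (X : Set G) (a : G), X ⊆ Q → a ∈ Subgroup.normalizer ((H : Subgroup G) : Set G) →
          (fun x => a⁻¹ * x * a) '' X ⊆ Q →
          ∃ c ∈ Subgroup.normalizer ((H : Subgroup G) : Set G) ⊓ Subgroup.centralizer X,
            ∃ (n : ℕ) (b : Fin n → G),
              (∀ i, b i ∈ Subgroup.normalizer ((H : Subgroup G) : Set G) ⊓
                    Subgroup.normalizer ((W Q : Subgroup G) : Set G) ∨
                  b i ∈ Subgroup.normalizer ((H : Subgroup G) : Set G) ⊓
                    Subgroup.centralizer ((V Q : Subgroup G) : Set G)) ∧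
              a = c * (List.ofFn b).prod ∧
              ∀ k : ℕ, k ≤ n →
                (fun x => (((List.ofFn b).take k).prod)⁻¹ * x * ((List.ofFn b).take k).prod) ''
                  ((fun x => c⁻¹ * x * c) '' X) ⊆ Q) :
    GoodRel P W (WVGood (P : Subgroup G)
      (Subgroup.normalizer ((W (P : Subgroup G) : Subgroup G) : Set G))
      (Subgroup.centralizer ((V (P : Subgroup G) : Subgroup G) : Set G))) where
  mono := fun hX h => h.mono _ hX
  comp := fun h h' => .comp h h'
  inv := fun h => h.inv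
  cent := fun hX hc => .cent hX hc
  norm := fun hX hb hN => .stepN hX hb hN
  loc := by
    intro H S hZH hHS hSP hSN hSi prem a haN X hX haX
    have hSP' : (S : Set G) ⊆ ((P : Subgroup G) : Set G) := SetLike.coe_subset_coe.2 hSP
    by_cases hS1 : S = ⊥
    · apply WVGood.cent (hX.trans hSP')
      rw [Subgroup.mem_centralizer_iff]
      intro x hx
      have hx1 : x ∈ (⊥ : Subgroup G) := hS1 ▸ hX hx
      rw [Subgroup.mem_bot] at hx1
      rw [hx1]
      simp
    have hSp : IsPGroup p ↥S := P.isPGroup'.to_le hSP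
    have hP1 : (P : Subgroup G) ≠ ⊥ := fun h => hS1 (le_bot_iff.1 (h ▸ hSP))
    obtain ⟨Q, hQN, hQp, hQi, hctl⟩ := hloc H hZH (hHS.trans hSP)
    obtain ⟨n₀, hn₀N, hQeq⟩ := exists_conj_of_sylow_in hSN hSp hSi hQN hQp hQi
    have hQcoe : (Q : Set G) = cj n₀ (S : Set G) := by rw [hQeq, coe_cjg]
    have hX₀ : cj n₀ X ⊆ (Q : Set G) := by
      rw [hQcoe]
      exact cj_mono hX
    have ha₀N : n₀⁻¹ * a * n₀ ∈ Subgroup.normalizer ((H : Subgroup G) : Set G) :=
      mul_mem (mul_mem (inv_mem hn₀N) haN) hn₀N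
    have e1 : n₀ * (n₀⁻¹ * a * n₀) = a * n₀ := by group
    have haX₀ : (fun x => (n₀⁻¹ * a * n₀)⁻¹ * x * (n₀⁻¹ * a * n₀)) '' (cj n₀ X) ⊆ (Q : Set G) := by
      show cj (n₀⁻¹ * a * n₀) (cj n₀ X) ⊆ (Q : Set G)
      rw [← cj_mul, e1, cj_mul, hQcoe]
      exact cj_mono haX
    obtain ⟨c₀, hc₀, m, b₀, hb₀, ha₀, hchain⟩ := hctl (cj n₀ X) (n₀⁻¹ * a * n₀) hX₀ ha₀N haX₀
    have hc₀c : c₀ ∈ Subgroup.centralizer (cj n₀ X) := hc₀.2
    -- the centralizing part
    have hc : n₀ * c₀ * n₀⁻¹ ∈ Subgroup.centralizer X := by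
      rw [Subgroup.mem_centralizer_iff]
      intro x hx
      have hx' : n₀⁻¹ * x * n₀ ∈ cj n₀ X := ⟨x, hx, rfl⟩
      have h2 : n₀⁻¹ * x * n₀ * c₀ = c₀ * (n₀⁻¹ * x * n₀) :=
        Subgroup.mem_centralizer_iff.1 hc₀c _ hx'
      calc x * (n₀ * c₀ * n₀⁻¹) = n₀ * (n₀⁻¹ * x * n₀ * c₀) * n₀⁻¹ := by group
        _ = n₀ * (c₀ * (n₀⁻¹ * x * n₀)) * n₀⁻¹ := by rw [h2]
        _ = n₀ * c₀ * n₀⁻¹ * x := by group
    have hcjc : cj (n₀ * c₀ * n₀⁻¹) X = X := cj_of_mem_centralizer hc
    -- the conjugated list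
    obtain ⟨l, hl⟩ : ∃ l : List G, l = (List.ofFn b₀).map (fun z => n₀ * z * n₀⁻¹) := ⟨_, rfl⟩
    have hlen : l.length = m := by rw [hl]; simp
    have hprod : ∀ l₀ : List G, (l₀.map (fun z => n₀ * z * n₀⁻¹)).prod = n₀ * l₀.prod * n₀⁻¹ := by
      intro l₀
      induction l₀ with
      | nil => simp
      | cons z l₀ ih =>
        rw [List.map_cons, List.prod_cons, List.prod_cons, ih]
        group
    have htake : ∀ k : ℕ, (l.take k).prod = n₀ * ((List.ofFn b₀).take k).prod * n₀⁻¹ := by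
      intro k
      rw [hl, ← List.map_take, hprod]
    have hY : ∀ k : ℕ, k ≤ m →
        cj (n₀ * c₀ * n₀⁻¹ * (l.take k).prod) X ⊆ (S : Set G) := by
      intro k hk
      have h1 : cj ((List.ofFn b₀).take k).prod (cj c₀ (cj n₀ X)) ⊆ (Q : Set G) := hchain k hk
      rw [cj_of_mem_centralizer hc₀c, hQcoe] at h1
      rw [cj_mul, hcjc, htake, cj_mul, cj_mul]
      have h2 := cj_mono (a := n₀⁻¹) h1
      rw [cj_inv_cj] at h2
      exact h2
    have ha : a = n₀ * c₀ * n₀⁻¹ * l.prod := by
      have h1 : l.prod = n₀ * (List.ofFn b₀).prod * n₀⁻¹ := by rw [hl, hprod]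
      have h2 : a = n₀ * (n₀⁻¹ * a * n₀) * n₀⁻¹ := by group
      rw [h1, h2, ha₀]
      group
    rw [ha]
    apply rel_list_of_comp (fun h h' => WVGood.comp h h') l X (n₀ * c₀ * n₀⁻¹)
      (WVGood.cent (hX.trans hSP') hc)
    intro k hk
    have hk' : k < m := hlen ▸ hk
    have hget : l.get ⟨k, hk⟩ = n₀ * b₀ ⟨k, hk'⟩ * n₀⁻¹ := by
      simp [hl]
    have hYk := hY k hk'.le
    have hYk1 : cj (l.get ⟨k, hk⟩) (cj (n₀ * c₀ * n₀⁻¹ * (l.take k).prod) X) ⊆ (S : Set G) := by
      have h1 := hY (k + 1) hk'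
      rw [List.prod_take_succ _ _ hk, ← mul_assoc, cj_mul] at h1
      exact h1
    rw [hget] at hYk1 ⊢
    rcases hb₀ ⟨k, hk'⟩ with hb | hb
    · -- normalizer step
      apply prem _ ?_ _ hYk hYk1
      have h1 : b₀ ⟨k, hk'⟩ ∈ Subgroup.normalizer ((W Q : Subgroup G) : Set G) := hb.2
      have h2 : W Q = cjg n₀ (W S) := by
        rw [hQeq]
        exact (hW S hSp).2.2 n₀⁻¹
      rw [h2, ← cjg_normalizer, mem_cjg] at h1
      exact h1
    · -- centralizer step
      apply WVGood.stepC (hYk.trans hSP') (hYk1.trans hSP')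
      have h1 : b₀ ⟨k, hk'⟩ ∈ Subgroup.centralizer ((V Q : Subgroup G) : Set G) := hb.2
      have h2 : V Q = cjg n₀ (V S) := by
        rw [hQeq]
        exact (hV S hSp).2.2 n₀⁻¹
      rw [h2, ← cjg_centralizer, mem_cjg] at h1
      have hVle : V (P : Subgroup G) ≤ V S := by
        apply hVmono _ _ P.isPGroup' hSp hP1 hS1
        exact le_inf (hZH.trans hHS)
          (inf_le_right.trans (Subgroup.centralizer_le hSP'))
      exact Subgroup.centralizer_le (SetLike.coe_subset_coe.2 hVle) h1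

/-- **Global control of strong fusion** by `W` with `V`. -/
theorem wv_fusion (P : Sylow p G) (W V : Subgroup G → Subgroup G)
    (hW : Cfsg.IsConjugacyFunctor p W) (hV : Cfsg.IsConjugacyFunctor p V)
    (hWZ : ∀ H : Subgroup G, IsPGroup p ↥H →
      H ⊓ Subgroup.centralizer ((H : Subgroup G) : Set G) ≤ W H)
    (hVmono : ∀ H K : Subgroup G, IsPGroup p ↥H → IsPGroup p ↥K → H ≠ ⊥ → K ≠ ⊥ →
      H ⊓ Subgroup.centralizer ((H : Subgroup G) : Set G) ≤
        K ⊓ Subgroup.centralizer ((K : Subgroup G) : Set G) → V H ≤ V K)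
    (hloc : ∀ H : Subgroup G,
      (P : Subgroup G) ⊓ Subgroup.centralizer (((P : Subgroup G) : Subgroup G) : Set G) ≤ H →
      H ≤ (P : Subgroup G) → ∃ Q : Subgroup G, Q ≤ Subgroup.normalizer ((H : Subgroup G) : Set G) ∧
        IsPGroup p ↥Q ∧ ¬ p ∣ (Q).relIndex (Subgroup.normalizer ((H : Subgroup G) : Set G)) ∧
        ∀ (X : Set G) (a : G), X ⊆ Q → a ∈ Subgroup.normalizer ((H : Subgroup G) : Set G) →
          (fun x => a⁻¹ * x * a) '' X ⊆ Q →
          ∃ c ∈ Subgroup.normalizer ((H : Subgroup G) : Set G) ⊓ Subgroup.centralizer X,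
            ∃ (n : ℕ) (b : Fin n → G),
              (∀ i, b i ∈ Subgroup.normalizer ((H : Subgroup G) : Set G) ⊓
                    Subgroup.normalizer ((W Q : Subgroup G) : Set G) ∨
                  b i ∈ Subgroup.normalizer ((H : Subgroup G) : Set G) ⊓
                    Subgroup.centralizer ((V Q : Subgroup G) : Set G)) ∧
              a = c * (List.ofFn b).prod ∧
              ∀ k : ℕ, k ≤ n →
                (fun x => (((List.ofFn b).take k).prod)⁻¹ * x * ((List.ofFn b).take k).prod) ''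
                  ((fun x => c⁻¹ * x * c) '' X) ⊆ Q)
    (X : Set G) (a : G) (hX : X ⊆ ((P : Subgroup G) : Set G))
    (haX : (fun x => a⁻¹ * x * a) '' X ⊆ ((P : Subgroup G) : Set G)) :
    ∃ c ∈ Subgroup.centralizer X, ∃ (n : ℕ) (b : Fin n → G),
      (∀ i, b i ∈ ⊤ ⊓ Subgroup.normalizer ((W (P : Subgroup G) : Subgroup G) : Set G) ∨
        b i ∈ ⊤ ⊓ Subgroup.centralizer ((V (P : Subgroup G) : Subgroup G) : Set G)) ∧
      a = c * (List.ofFn b).prod ∧
      ∀ k : ℕ, k ≤ n →
        (fun x => (((List.ofFn b).take k).prod)⁻¹ * x * ((List.ofFn b).take k).prod) ''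
          ((fun x => c⁻¹ * x * c) '' X) ⊆ ((P : Subgroup G) : Set G) := by
  have hgood := wv_local_global P W (wv_fusion_goodRel P W V hW hV hVmono hloc) hW hWZ X hX a haX
  obtain ⟨c, hc, l, hl, hch, ha⟩ := hgood.exists_list
  refine ⟨c, hc, l.length, l.get, ?_, ?_, ?_⟩
  · intro i
    rcases hl _ (List.get_mem l i) with h | h
    · exact Or.inl ⟨Subgroup.mem_top _, h⟩
    · exact Or.inr ⟨Subgroup.mem_top _, h⟩
  · rw [List.ofFn_get]
    exact ha
  · intro k hk
    rw [List.ofFn_get]
    show cj (l.take k).prod (cj c X) ⊆ ((P : Subgroup G) : Set G)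
    rw [cj_of_mem_centralizer hc]
    exact hch k hk

end Fin

end Cfsg.Agent.Helper31
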