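import Cfsg.Prelude.Def_ConjugacyFunctors
import Cfsg.Agent.S3072
import Cfsg.Agent.Helper31.Sylow

/-!
Local-to-global principle for conjugacy functors (helper31).

For a Sylow `p`-subgroup `P`, a conjugacy functor `W` containing centres, and a relation
`R X a` ("conjugation by `a` on the subset `X` of `P` is under control") which is closed under
composition, inverses and restriction, contains centralizing elements and elements of `N(W(P))`,
and is "locally generated" in every `N_G(H)`, `Z(P) ≤ H ≤ P`, the relation holds for every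
conjugation between subsets of `P`.  The proof is a double induction resting on the
Alperin–Goldschmidt theorem `S3072`.
-/

set_option autoImplicit false

namespace Cfsg.Agent.Helper31

variable {G : Type*} [Group G]

/-- the conjugate `a⁻¹ X a` of a set -/
def cj (a : G) (X : Set G) : Set G := (fun x => a⁻¹ * x * a) '' X

theorem mem_cj {a : G} {X : Set G} {y : G} : y ∈ cj a X ↔ a * y * a⁻¹ ∈ X := by
  constructor
  · rintro ⟨x, hx, rfl⟩
    have e : a * (a⁻¹ * x * a) * a⁻¹ = x := by group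
    rw [e]
    exact hx
  · intro h
    exact ⟨a * y * a⁻¹, h, by group⟩

theorem cj_one (X : Set G) : cj 1 X = X := by
  ext y
  rw [mem_cj]
  simp

theorem cj_mul (a b : G) (X : Set G) : cj (a * b) X = cj b (cj a X) := by
  ext y
  rw [mem_cj, mem_cj, mem_cj]
  have e : a * b * y * (a * b)⁻¹ = a * (b * y * b⁻¹) * a⁻¹ := by group
  rw [e]

theorem cj_mono {a : G} {X Y : Set G} (h : X ⊆ Y) : cj a X ⊆ cj a Y := Set.image_mono h

theorem cj_inv_cj (a : G) (X : Set G) : cj a⁻¹ (cj a X) = X := by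
  rw [← cj_mul, mul_inv_cancel, cj_one]

theorem cj_cj_inv (a : G) (X : Set G) : cj a (cj a⁻¹ X) = X := by
  rw [← cj_mul, inv_mul_cancel, cj_one]

theorem cj_of_mem_centralizer {c : G} {X : Set G} (hc : c ∈ Subgroup.centralizer X) :
    cj c X = X := by
  ext y
  rw [mem_cj]
  constructor
  · intro h
    have h2 : c * y * c⁻¹ * c = c * (c * y * c⁻¹) := Subgroup.mem_centralizer_iff.1 hc _ h
    have h3 : c * y = c * (c * y * c⁻¹) := by rw [← h2]; group
    have e : c * y * c⁻¹ = y := (mul_left_cancel h3).symm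
    rw [e] at h
    exact h
  · intro h
    have h2 : y * c = c * y := Subgroup.mem_centralizer_iff.1 hc _ h
    have e : c * y * c⁻¹ = y := by rw [← h2]; group
    rw [e]
    exact h

theorem cj_of_mem_normalizer {x : G} {H : Subgroup G}
    (hx : x ∈ Subgroup.normalizer (H : Set G)) : cj x (H : Set G) = (H : Set G) := by
  ext y
  rw [mem_cj]
  exact ((Subgroup.mem_normalizer_iff.1 hx y)).symm

/-- the conjugate `a⁻¹ K a` of a subgroup -/
def cjg (a : G) (K : Subgroup G) : Subgroup G := K.map (MulAut.conj a⁻¹).toMonoidHom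

theorem mem_cjg {a : G} {K : Subgroup G} {y : G} : y ∈ cjg a K ↔ a * y * a⁻¹ ∈ K := by
  constructor
  · rintro ⟨x, hx, rfl⟩
    have e : a * ((MulAut.conj a⁻¹).toMonoidHom x) * a⁻¹ = x := by
      show a * (a⁻¹ * x * a⁻¹⁻¹) * a⁻¹ = x
      group
    rw [e]
    exact hx
  · intro h
    refine ⟨a * y * a⁻¹, h, ?_⟩
    show a⁻¹ * (a * y * a⁻¹) * a⁻¹⁻¹ = y
    group

theorem coe_cjg (a : G) (K : Subgroup G) : ((cjg a K : Subgroup G) : Set G) = cj a (K : Set G) := by
  ext y
  rw [mem_cj]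
  exact mem_cjg

theorem cjg_mono (a : G) {K L : Subgroup G} (h : K ≤ L) : cjg a K ≤ cjg a L :=
  Subgroup.map_mono h

theorem card_cjg (a : G) (K : Subgroup G) : Nat.card (cjg a K) = Nat.card K :=
  Subgroup.card_map_of_injective (MulAut.conj a⁻¹).injective

theorem cjg_normalizer (a : G) (K : Subgroup G) :
    cjg a (Subgroup.normalizer (K : Set G)) = Subgroup.normalizer ((cjg a K : Subgroup G) : Set G) :=
  Subgroup.map_equiv_normalizer_eq K (MulAut.conj a⁻¹)

theorem cjg_relIndex (a : G) (S N : Subgroup G) :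
    (cjg a S).relIndex (cjg a N) = S.relIndex N :=
  Subgroup.relIndex_map_map_of_injective S N (MulAut.conj a⁻¹).injective

theorem cjg_centralizer (a : G) (K : Subgroup G) :
    cjg a (Subgroup.centralizer (K : Set G)) = Subgroup.centralizer ((cjg a K : Subgroup G) : Set G) := by
  ext y
  rw [mem_cjg, Subgroup.mem_centralizer_iff, Subgroup.mem_centralizer_iff]
  constructor
  · intro h z hz
    have hz' : a * z * a⁻¹ ∈ K := mem_cjg.1 hz
    have h2 := h _ hz'
    calc z * y = a⁻¹ * ((a * z * a⁻¹) * (a * y * a⁻¹)) * a := by group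
      _ = a⁻¹ * ((a * y * a⁻¹) * (a * z * a⁻¹)) * a := by rw [h2]
      _ = y * z := by group
  · intro h k hk
    have hk' : a⁻¹ * k * a ∈ cjg a K := by
      rw [mem_cjg]
      have e : a * (a⁻¹ * k * a) * a⁻¹ = k := by group
      rw [e]
      exact hk
    have h2 := h _ hk'
    calc k * (a * y * a⁻¹) = a * ((a⁻¹ * k * a) * y) * a⁻¹ := by group
      _ = a * (y * (a⁻¹ * k * a)) * a⁻¹ := by rw [h2]
      _ = a * y * a⁻¹ * k := by group

/-- `Q` is `p`-centric: every `p`-subgroup of `C_G(Q)` lies in `Q`. -/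
def IsPCentric (p : ℕ) (Q : Subgroup G) : Prop :=
  ∀ D : Subgroup G, IsPGroup p ↥D → D ≤ Subgroup.centralizer (Q : Set G) → D ≤ Q

theorem IsPCentric.mono {p : ℕ} {Q Q' : Subgroup G} (h : IsPCentric p Q) (hQ : Q ≤ Q') :
    IsPCentric p Q' :=
  fun D hD hDc => (h D hD (hDc.trans (Subgroup.centralizer_le (SetLike.coe_subset_coe.2 hQ)))).trans hQ

theorem IsPCentric.cjg {p : ℕ} {Q : Subgroup G} (h : IsPCentric p Q) (a : G) :
    IsPCentric p (cjg a Q) := by
  intro D hD hDc
  have h1 : Cfsg.Agent.Helper31.cjg a⁻¹ D ≤ Q := by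
    apply h _ (hD.map _)
    have h2 : Cfsg.Agent.Helper31.cjg a⁻¹ D ≤
        Cfsg.Agent.Helper31.cjg a⁻¹ (Subgroup.centralizer ((Cfsg.Agent.Helper31.cjg a Q : Subgroup G) : Set G)) :=
      cjg_mono _ hDc
    rw [cjg_centralizer] at h2
    have e : Cfsg.Agent.Helper31.cjg a⁻¹ (Cfsg.Agent.Helper31.cjg a Q) = Q := by
      ext y
      rw [mem_cjg, mem_cjg]
      have e2 : a * (a⁻¹ * y * a⁻¹⁻¹) * a⁻¹ = y := by group
      rw [e2]
    rw [e] at h2
    exact h2
  intro d hd
  rw [mem_cjg]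
  apply h1
  rw [mem_cjg]
  have e : a⁻¹ * (a * d * a⁻¹) * a⁻¹⁻¹ = d := by group
  rw [e]
  exact hd

section Fin

variable [Finite G] {p : ℕ} [Fact p.Prime]

theorem IsPCentric.center_le {Q : Subgroup G} (h : IsPCentric p Q) (P : Sylow p G)
    (hQP : Q ≤ (P : Subgroup G)) :
    (P : Subgroup G) ⊓ Subgroup.centralizer ((P : Subgroup G) : Set G) ≤ Q :=
  h _ (P.isPGroup'.to_le inf_le_left)
    (inf_le_right.trans (Subgroup.centralizer_le (SetLike.coe_subset_coe.2 hQP)))

/-- A Sylow `p`-subgroup of a subgroup `N` containing a given `p`-subgroup of `N`. -/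
theorem exists_sylow_ge_in {N S₀ : Subgroup G} (hS₀N : S₀ ≤ N) (hS₀ : IsPGroup p ↥S₀) :
    ∃ S : Subgroup G, S₀ ≤ S ∧ S ≤ N ∧ IsPGroup p ↥S ∧ ¬ p ∣ S.relIndex N := by
  have h0 : IsPGroup p ↥(S₀.subgroupOf N) := hS₀.comap_subtype
  obtain ⟨T, hT⟩ := h0.exists_le_sylow
  refine ⟨(T : Subgroup ↥N).map N.subtype, ?_, Subgroup.map_subtype_le _, T.isPGroup'.map _, ?_⟩
  · intro x hx
    exact ⟨⟨x, hS₀N hx⟩, hT (Subgroup.mem_subgroupOf.2 hx), rfl⟩
  · have e : ((T : Subgroup ↥N).map N.subtype).relIndex N = (T : Subgroup ↥N).index := by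
      unfold Subgroup.relIndex Subgroup.subgroupOf
      rw [Subgroup.comap_map_eq_self_of_injective N.subtype_injective]
    rw [e]
    exact T.not_dvd_index

/-- Two Sylow `p`-subgroups of a subgroup `N` are conjugate by an element of `N`. -/
theorem exists_conj_of_sylow_in {N S Q : Subgroup G} (hSN : S ≤ N) (hS : IsPGroup p ↥S)
    (hSi : ¬ p ∣ S.relIndex N) (hQN : Q ≤ N) (hQ : IsPGroup p ↥Q) (hQi : ¬ p ∣ Q.relIndex N) :
    ∃ n ∈ N, Q = cjg n S := by
  have hS' : IsPGroup p ↥(S.subgroupOf N) := hS.comap_subtype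
  have hQ' : IsPGroup p ↥(Q.subgroupOf N) := hQ.comap_subtype
  obtain ⟨TS, hTS⟩ : ∃ T : Sylow p ↥N, (T : Subgroup ↥N) = S.subgroupOf N := ⟨hS'.toSylow hSi, rfl⟩
  obtain ⟨n, hn⟩ := exists_conj_le_sylow TS hQ'
  -- `n Q n⁻¹ ≤ S`
  have hle : cjg (n : G)⁻¹ Q ≤ S := by
    intro y hy
    rw [mem_cjg] at hy
    have hyQ : (n : G)⁻¹ * y * (n : G)⁻¹⁻¹ ∈ Q := hy
    have h1 := hn ⟨(n : G)⁻¹ * y * (n : G)⁻¹⁻¹, hQN hyQ⟩ (Subgroup.mem_subgroupOf.2 hyQ)
    have h2 : n * ⟨(n : G)⁻¹ * y * (n : G)⁻¹⁻¹, hQN hyQ⟩ * n⁻¹ ∈ S.subgroupOf N := hTS ▸ h1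
    rw [Subgroup.mem_subgroupOf] at h2
    have e : ((n * ⟨(n : G)⁻¹ * y * (n : G)⁻¹⁻¹, hQN hyQ⟩ * n⁻¹ : ↥N) : G) = y := by
      push_cast
      group
    rw [e] at h2
    exact h2
  -- cardinalities
  have hcard : Nat.card S ≤ Nat.card (cjg (n : G)⁻¹ Q) := by
    rw [card_cjg]
    -- both have the order of a Sylow subgroup of `N`
    have e1 : Nat.card S * S.relIndex N = Nat.card N := by
      have := Subgroup.relIndex_mul_relIndex ⊥ S N bot_le hSN
      rwa [Subgroup.relIndex_bot_left, Subgroup.relIndex_bot_left] at this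
    have e2 : Nat.card Q * Q.relIndex N = Nat.card N := by
      have := Subgroup.relIndex_mul_relIndex ⊥ Q N bot_le hQN
      rwa [Subgroup.relIndex_bot_left, Subgroup.relIndex_bot_left] at this
    obtain ⟨a, ha⟩ := (IsPGroup.iff_card.1 hS)
    obtain ⟨b, hb⟩ := (IsPGroup.iff_card.1 hQ)
    rw [ha, hb]
    apply Nat.pow_le_pow_right (Fact.out : p.Prime).pos
    -- p^a ∣ p^b * relIndex, coprime to relIndex
    have hdvd : p ^ a ∣ p ^ b * Q.relIndex N := by
      rw [← hb, e2, ← e1, ha]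
      exact dvd_mul_right _ _
    have hcop : (p ^ a).Coprime (Q.relIndex N) :=
      Nat.Coprime.pow_left _ ((Nat.Prime.coprime_iff_not_dvd Fact.out).2 hQi)
    have := hcop.dvd_of_dvd_mul_right hdvd
    exact (Nat.pow_dvd_pow_iff_le_right (Fact.out : p.Prime).one_lt).1 this
  have heq : cjg (n : G)⁻¹ Q = S := Subgroup.eq_of_le_of_card_ge hle hcard
  refine ⟨(n : G), n.2, ?_⟩
  rw [← heq]
  ext y
  rw [mem_cjg, mem_cjg]
  have e : (n : G)⁻¹ * ((n : G) * y * (n : G)⁻¹) * (n : G)⁻¹⁻¹ = y := by group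
  rw [e]

/-- A `p`-subgroup is conjugate into a given Sylow `p`-subgroup. -/
theorem exists_cjg_le_sylow (P : Sylow p G) {S : Subgroup G} (hS : IsPGroup p ↥S) :
    ∃ g : G, cjg g S ≤ (P : Subgroup G) := by
  obtain ⟨g, hg⟩ := exists_conj_le_sylow P hS
  refine ⟨g⁻¹, ?_⟩
  intro y hy
  rw [mem_cjg] at hy
  have h1 := hg _ hy
  have e : g * (g⁻¹ * y * g⁻¹⁻¹) * g⁻¹ = y := by group
  rw [e] at h1
  exact h1

/-- Normalizers grow in a Sylow `p`-subgroup. -/
theorem exists_mem_normalizer_not_mem (P : Sylow p G) {S : Subgroup G}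
    (hSP : S ≤ (P : Subgroup G)) (hne : S ≠ (P : Subgroup G)) :
    ∃ x ∈ (P : Subgroup G), x ∉ S ∧ x ∈ Subgroup.normalizer (S : Set G) := by
  have hnle : ¬ (P : Subgroup G) ≤ S := fun h => hne (le_antisymm hSP h)
  obtain ⟨x, hxP, hxS, hx⟩ := exists_normalizing_not_mem P.isPGroup' hnle
  refine ⟨x, hxP, hxS, ?_⟩
  rw [Subgroup.mem_normalizer_iff_map_conj_eq]
  apply Subgroup.eq_of_le_of_card_ge
  · rintro _ ⟨s, hs, rfl⟩
    exact (hx s ⟨hSP hs, hs⟩).2
  · rw [Subgroup.card_map_of_injective (MulAut.conj x).injective]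

theorem normalizer_le_normalizer_functor {W : Subgroup G → Subgroup G}
    (hW : Cfsg.IsConjugacyFunctor p W) {S : Subgroup G} (hS : IsPGroup p ↥S) :
    Subgroup.normalizer (S : Set G) ≤ Subgroup.normalizer ((W S : Subgroup G) : Set G) := by
  intro x hx
  rw [Subgroup.mem_normalizer_iff_map_conj_eq] at hx ⊢
  have h1 := (hW S hS).2.2 x
  have h2 : S.map (MulAut.conj x).toMonoidHom = S := hx
  rw [h2] at h1
  exact h1.symm

theorem card_lt_of_le_of_mem_not_mem {S T : Subgroup G} (h : S ≤ T) {x : G} (hx : x ∈ T)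
    (hx' : x ∉ S) : Nat.card S < Nat.card T := by
  by_contra hlt
  push Not at hlt
  have := Subgroup.eq_of_le_of_card_ge h hlt
  rw [this] at hx'
  exact hx' hx

/-- A centric subgroup of `P` whose normalizer in `P` is a Sylow subgroup of its normalizer is
`p`-centric. -/
theorem isPCentric_of_centric (P : Sylow p G) {H : Subgroup G} (hHP : H ≤ (P : Subgroup G))
    (hidx : ¬ p ∣ ((P : Subgroup G) ⊓ Subgroup.normalizer (H : Set G)).relIndex
      (Subgroup.normalizer (H : Set G)))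
    (hcen : (P : Subgroup G) ⊓ Subgroup.centralizer (H : Set G) ≤ H) : IsPCentric p H := by
  intro D hD hDc
  have hDN : D ≤ Subgroup.normalizer (H : Set G) := hDc.trans (Subgroup.centralizer_le_normalizer _)
  obtain ⟨S, hDS, hSN, hS, hSi⟩ := exists_sylow_ge_in hDN hD
  obtain ⟨n, hnN, hn⟩ := exists_conj_of_sylow_in hSN hS hSi
    (inf_le_right : (P : Subgroup G) ⊓ Subgroup.normalizer (H : Set G) ≤ _)
    (P.isPGroup'.to_le inf_le_left) hidx
  intro d hd
  -- `n⁻¹ d n ∈ P ⊓ N(H)` and centralizes `H`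
  have h1 : n⁻¹ * d * n ∈ cjg n S := by
    rw [mem_cjg]
    have e : n * (n⁻¹ * d * n) * n⁻¹ = d := by group
    rw [e]
    exact hDS hd
  rw [← hn] at h1
  have h2 : n⁻¹ * d * n ∈ Subgroup.centralizer (H : Set G) := by
    rw [Subgroup.mem_centralizer_iff]
    intro h hh
    have hh' : n * h * n⁻¹ ∈ H := (Subgroup.mem_normalizer_iff.1 hnN h).1 hh
    have h3 : n * h * n⁻¹ * d = d * (n * h * n⁻¹) := Subgroup.mem_centralizer_iff.1 (hDc hd) _ hh'
    calc h * (n⁻¹ * d * n) = n⁻¹ * (n * h * n⁻¹ * d) * n := by group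
      _ = n⁻¹ * (d * (n * h * n⁻¹)) * n := by rw [h3]
      _ = n⁻¹ * d * n * h := by group
  have h4 : n⁻¹ * d * n ∈ H := hcen ⟨h1.1, h2⟩
  have h5 := (Subgroup.mem_normalizer_iff.1 hnN _).1 h4
  have e : n * (n⁻¹ * d * n) * n⁻¹ = d := by group
  rw [e] at h5
  exact h5

/-- Assembling a relation closed under composition along a list. -/
theorem rel_list_of_comp {R : Set G → G → Prop}
    (hcomp : ∀ {X : Set G} {a a' : G}, R X a → R (cj a X) a' → R X (a * a')) :
    ∀ (l : List G) (X : Set G) (a₀ : G), R X a₀ →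
      (∀ (k : ℕ) (hk : k < l.length), R (cj (a₀ * (l.take k).prod) X) (l.get ⟨k, hk⟩)) →
      R X (a₀ * l.prod) := by
  intro l
  induction l with
  | nil =>
    intro X a₀ h0 _
    simpa using h0
  | cons b l ih =>
    intro X a₀ h0 h
    have hb : R (cj a₀ X) b := by
      have := h 0 (by simp)
      simpa using this
    have h1 : R X (a₀ * b) := hcomp h0 hb
    have h2 := ih X (a₀ * b) h1 (by
      intro k hk
      have := h (k + 1) (by simpa using hk)
      simpa [mul_assoc] using this)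
    simpa [mul_assoc] using h2

/-- The hypotheses on the relation `R`. -/
structure GoodRel (P : Sylow p G) (W : Subgroup G → Subgroup G) (R : Set G → G → Prop) : Prop where
  mono : ∀ {X X' : Set G} {a : G}, X' ⊆ X → R X a → R X' a
  comp : ∀ {X : Set G} {a a' : G}, R X a → R (cj a X) a' → R X (a * a')
  inv : ∀ {X : Set G} {a : G}, R X a → R (cj a X) a⁻¹
  cent : ∀ {X : Set G} {c : G}, X ⊆ ((P : Subgroup G) : Set G) → c ∈ Subgroup.centralizer X → R X c
  norm : ∀ {X : Set G} {b : G}, X ⊆ ((P : Subgroup G) : Set G) → cj b X ⊆ ((P : Subgroup G) : Set G) →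
    b ∈ Subgroup.normalizer ((W (P : Subgroup G) : Subgroup G) : Set G) → R X b
  loc : ∀ H S : Subgroup G,
    (P : Subgroup G) ⊓ Subgroup.centralizer ((P : Subgroup G) : Set G) ≤ H → H ≤ S →
    S ≤ (P : Subgroup G) → S ≤ Subgroup.normalizer (H : Set G) →
    ¬ p ∣ S.relIndex (Subgroup.normalizer (H : Set G)) →
    (∀ b ∈ Subgroup.normalizer ((W S : Subgroup G) : Set G), ∀ Y : Set G,
      Y ⊆ (S : Set G) → cj b Y ⊆ (S : Set G) → R Y b) →
    ∀ a ∈ Subgroup.normalizer (H : Set G), ∀ X : Set G, X ⊆ (S : Set G) → cj a X ⊆ (S : Set G) → R X a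

variable (P : Sylow p G) (W : Subgroup G → Subgroup G)

theorem wv_c2 {R : Set G → G → Prop} (hR : GoodRel P W R) (hW : Cfsg.IsConjugacyFunctor p W)
    (hWZ : ∀ H : Subgroup G, IsPGroup p ↥H →
      H ⊓ Subgroup.centralizer ((H : Subgroup G) : Set G) ≤ W H)
    (q₀ : ℕ)
    (IH : ∀ Q' : Subgroup G, Q' ≤ (P : Subgroup G) → q₀ < Nat.card Q' → ∀ a : G,
      cj a (Q' : Set G) ⊆ ((P : Subgroup G) : Set G) → R (Q' : Set G) a) :
    ∀ (e : ℕ) (S : Subgroup G), S ≤ (P : Subgroup G) →
      Nat.card (P : Subgroup G) - Nat.card S = e → IsPCentric p S → q₀ ≤ Nat.card S →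
      ∀ b ∈ Subgroup.normalizer ((W S : Subgroup G) : Set G), ∀ K : Set G,
        K ⊆ (S : Set G) → cj b K ⊆ (S : Set G) → R K b := by
  intro e
  induction e using Nat.strong_induction_on with
  | _ e ih =>
  intro S hSP he hSc hq b hb K hK hKb
  by_cases hSeq : S = (P : Subgroup G)
  · rw [hSeq] at hK hKb hb
    exact hR.norm hK hKb hb
  · have hSp : IsPGroup p ↥S := P.isPGroup'.to_le hSP
    obtain ⟨hWS, -, hWconj⟩ := hW S hSp
    obtain ⟨x, hxP, hxS, hxN⟩ := exists_mem_normalizer_not_mem P hSP hSeq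
    have hNS : Subgroup.normalizer (S : Set G) ≤ Subgroup.normalizer ((W S : Subgroup G) : Set G) :=
      normalizer_le_normalizer_functor hW hSp
    have hSP₂ : S ≤ (P : Subgroup G) ⊓ Subgroup.normalizer ((W S : Subgroup G) : Set G) :=
      le_inf hSP (Subgroup.le_normalizer.trans hNS)
    have hlt : Nat.card S <
        Nat.card ↥((P : Subgroup G) ⊓ Subgroup.normalizer ((W S : Subgroup G) : Set G)) :=
      card_lt_of_le_of_mem_not_mem hSP₂ ⟨hxP, hNS hxN⟩ hxS
    obtain ⟨S', hP₂S', hS'N, hS'p, hS'idx⟩ := exists_sylow_ge_in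
      (inf_le_right : (P : Subgroup G) ⊓ Subgroup.normalizer ((W S : Subgroup G) : Set G) ≤ _)
      (P.isPGroup'.to_le inf_le_left)
    obtain ⟨g, hg⟩ := exists_cjg_le_sylow P hS'p
    have hgP₂ : R (((P : Subgroup G) ⊓ Subgroup.normalizer ((W S : Subgroup G) : Set G) :
        Subgroup G) : Set G) g := by
      apply IH _ inf_le_left (lt_of_le_of_lt hq hlt)
      rw [← coe_cjg]
      exact SetLike.coe_subset_coe.2 ((cjg_mono g hP₂S').trans hg)
    have hSS' : S ≤ S' := hSP₂.trans hP₂S'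
    have hS₁' : cjg g S ≤ cjg g S' := cjg_mono g hSS'
    have hc' : IsPCentric p (cjg g S) := hSc.cjg g
    have hc'' : IsPCentric p (cjg g S') := hc'.mono hS₁'
    have hW' : W (cjg g S) = cjg g (W S) := hWconj g⁻¹
    have hcent : (P : Subgroup G) ⊓ Subgroup.centralizer ((P : Subgroup G) : Set G) ≤
        Subgroup.centralizer ((cjg g S : Subgroup G) : Set G) :=
      inf_le_right.trans (Subgroup.centralizer_le (SetLike.coe_subset_coe.2 (hS₁'.trans hg)))
    have hZ' : (P : Subgroup G) ⊓ Subgroup.centralizer ((P : Subgroup G) : Set G) ≤ cjg g (W S) := by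
      rw [← hW']
      have h1 : (P : Subgroup G) ⊓ Subgroup.centralizer ((P : Subgroup G) : Set G) ≤ cjg g S :=
        hc' _ (P.isPGroup'.to_le inf_le_left) hcent
      exact le_trans (le_inf h1 hcent) (hWZ (cjg g S) (hSp.map _))
    have hH'S : cjg g (W S) ≤ cjg g S' := cjg_mono g (hWS.trans hSS')
    have hS''N : cjg g S' ≤ Subgroup.normalizer ((cjg g (W S) : Subgroup G) : Set G) := by
      rw [← cjg_normalizer]
      exact cjg_mono g hS'N
    have hidx'' : ¬ p ∣ (cjg g S').relIndex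
        (Subgroup.normalizer ((cjg g (W S) : Subgroup G) : Set G)) := by
      rw [← cjg_normalizer, cjg_relIndex]
      exact hS'idx
    have hcard'' : Nat.card S < Nat.card (cjg g S') := by
      rw [card_cjg]
      exact lt_of_lt_of_le hlt (Subgroup.card_le_of_le hP₂S')
    have hcardP : Nat.card (cjg g S') ≤ Nat.card (P : Subgroup G) := Subgroup.card_le_of_le hg
    have key := hR.loc (cjg g (W S)) (cjg g S') hZ' hH'S hg hS''N hidx''
      (fun b' hb' Y hY hYb' =>
        ih (Nat.card (P : Subgroup G) - Nat.card (cjg g S')) (by omega) (cjg g S') hg rfl hc''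
          (hq.trans hcard''.le) b' hb' Y hY hYb')
    have hb' : g⁻¹ * b * g ∈ Subgroup.normalizer ((cjg g (W S) : Subgroup G) : Set G) := by
      rw [← cjg_normalizer, mem_cjg]
      have e : g * (g⁻¹ * b * g) * g⁻¹ = b := by group
      rw [e]
      exact hb
    have hK' : cj g K ⊆ ((cjg g S' : Subgroup G) : Set G) := by
      rw [coe_cjg]
      exact cj_mono (hK.trans (SetLike.coe_subset_coe.2 hSS'))
    have e1 : g * (g⁻¹ * b * g) = b * g := by group
    have hKb' : cj (g⁻¹ * b * g) (cj g K) ⊆ ((cjg g S' : Subgroup G) : Set G) := by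
      rw [← cj_mul, coe_cjg, e1, cj_mul]
      exact cj_mono (hKb.trans (SetLike.coe_subset_coe.2 hSS'))
    have hRb' : R (cj g K) (g⁻¹ * b * g) := key _ hb' _ hK' hKb'
    have hRg : R K g := hR.mono (hK.trans (SetLike.coe_subset_coe.2 hSP₂)) hgP₂
    have hRg2 : R (cj b K) g := hR.mono (hKb.trans (SetLike.coe_subset_coe.2 hSP₂)) hgP₂
    have hRginv : R (cj g (cj b K)) g⁻¹ := hR.inv hRg2
    have h1 : R K (g * (g⁻¹ * b * g)) := hR.comp hRg hRb'
    have h2 : R K (g * (g⁻¹ * b * g) * g⁻¹) := by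
      apply hR.comp h1
      rw [e1, cj_mul]
      exact hRginv
    have e2 : g * (g⁻¹ * b * g) * g⁻¹ = b := by group
    rw [e2] at h2
    exact h2

theorem wv_main {R : Set G → G → Prop} (hR : GoodRel P W R) (hW : Cfsg.IsConjugacyFunctor p W)
    (hWZ : ∀ H : Subgroup G, IsPGroup p ↥H →
      H ⊓ Subgroup.centralizer ((H : Subgroup G) : Set G) ≤ W H) :
    ∀ (d : ℕ) (Q : Subgroup G), Q ≤ (P : Subgroup G) →
      Nat.card (P : Subgroup G) - Nat.card Q = d →
      ∀ a : G, cj a (Q : Set G) ⊆ ((P : Subgroup G) : Set G) → R (Q : Set G) a := by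
  intro d
  induction d using Nat.strong_induction_on with
  | _ d ih =>
  intro Q hQP hd a ha
  have IH : ∀ Q' : Subgroup G, Q' ≤ (P : Subgroup G) → Nat.card Q < Nat.card Q' → ∀ a : G,
      cj a (Q' : Set G) ⊆ ((P : Subgroup G) : Set G) → R (Q' : Set G) a := by
    intro Q' hQ'P hlt a' ha'
    have h1 := Subgroup.card_le_of_le hQ'P
    exact ih (Nat.card (P : Subgroup G) - Nat.card Q') (by omega) Q' hQ'P rfl a' ha'
  have hQP' : (Q : Set G) ⊆ ((P : Subgroup G) : Set G) := SetLike.coe_subset_coe.2 hQP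
  by_cases hQ1 : ∃ x ∈ (Q : Set G), x ≠ 1
  swap
  · apply hR.cent hQP'
    rw [Subgroup.mem_centralizer_iff]
    intro x hx
    have hx1 : x = 1 := by
      by_contra h
      exact hQ1 ⟨x, hx, h⟩
    rw [hx1]
    simp
  obtain ⟨n, H, Xs, x, c, y, hc, hy, hg, hall⟩ :=
    Cfsg.Agent.S3072.result P (Q : Set G) hQP' hQ1 a ha
  have hRc : R (Q : Set G) c := hR.cent hQP' hc
  have hcjc : cj c (Q : Set G) = (Q : Set G) := cj_of_mem_centralizer hc
  have hstep : ∀ i : Fin n, R (cj ((List.ofFn x).take i.val).prod (Q : Set G)) (x i) := by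
    intro i
    obtain ⟨hHP, hidx, hcen, -, -, ⟨-, hXN, -⟩, hxX, hQi⟩ := hall i
    have hxN : x i ∈ Subgroup.normalizer ((H i : Subgroup G) : Set G) := by
      obtain ⟨t, -, ht⟩ := hxX
      rw [← ht]
      exact hXN t.2
    have hQi' : cj ((List.ofFn x).take i.val).prod (Q : Set G) ⊆ (H i : Set G) := hQi
    have hHP' : ((H i : Subgroup G) : Set G) ⊆ ((P : Subgroup G) : Set G) := SetLike.coe_subset_coe.2 hHP
    by_cases hcard : Nat.card Q < Nat.card (H i)
    · have h1 : R ((H i : Subgroup G) : Set G) (x i) := by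
        apply IH (H i) hHP hcard
        rw [cj_of_mem_normalizer hxN]
        exact hHP'
      exact hR.mono hQi' h1
    · have hle : cjg ((List.ofFn x).take i.val).prod Q ≤ H i := by
        intro z hz
        apply hQi'
        rw [← coe_cjg]
        exact hz
      have hEq : cjg ((List.ofFn x).take i.val).prod Q = H i :=
        Subgroup.eq_of_le_of_card_ge hle (by rw [card_cjg]; omega)
      have hEq' : cj ((List.ofFn x).take i.val).prod (Q : Set G) = (H i : Set G) := by
        rw [← coe_cjg, hEq]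
      rw [hEq']
      have hHc : IsPCentric p (H i) := isPCentric_of_centric P hHP hidx hcen
      have hZH : (P : Subgroup G) ⊓ Subgroup.centralizer ((P : Subgroup G) : Set G) ≤ H i :=
        hHc.center_le P hHP
      have hHS : H i ≤ (P : Subgroup G) ⊓ Subgroup.normalizer ((H i : Subgroup G) : Set G) :=
        le_inf hHP Subgroup.le_normalizer
      have hq : Nat.card Q ≤
          Nat.card ↥((P : Subgroup G) ⊓ Subgroup.normalizer ((H i : Subgroup G) : Set G)) := by
        have h1 := Subgroup.card_le_of_le hHS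
        have h2 : Nat.card (cjg ((List.ofFn x).take i.val).prod Q) = Nat.card Q := card_cjg _ _
        rw [hEq] at h2
        omega
      have key := hR.loc (H i) ((P : Subgroup G) ⊓ Subgroup.normalizer ((H i : Subgroup G) : Set G))
        hZH hHS inf_le_left inf_le_right hidx
        (fun b hb Y hY hYb => wv_c2 P W hR hW hWZ (Nat.card Q) IH _ _ inf_le_left rfl
          (hHc.mono hHS) hq b hb Y hY hYb)
      apply key (x i) hxN
      · exact SetLike.coe_subset_coe.2 hHS
      · rw [cj_of_mem_normalizer hxN]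
        exact SetLike.coe_subset_coe.2 hHS
  -- assemble
  have hlen : (List.ofFn x).length = n := List.length_ofFn
  have h1 : R (Q : Set G) (c * (List.ofFn x).prod) := by
    apply rel_list_of_comp (fun h h' => hR.comp h h') (List.ofFn x) (Q : Set G) c hRc
    intro k hk
    have hk' : k < n := hlen ▸ hk
    have := hstep ⟨k, hk'⟩
    rw [cj_mul, hcjc]
    simpa using this
  have hyN : y ∈ Subgroup.normalizer ((W (P : Subgroup G) : Subgroup G) : Set G) :=
    normalizer_le_normalizer_functor hW P.isPGroup' hy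
  have e : c * (List.ofFn x).prod * y = a := hg.symm
  have hcja : cj y (cj (c * (List.ofFn x).prod) (Q : Set G)) ⊆ ((P : Subgroup G) : Set G) := by
    rw [← cj_mul, e]
    exact ha
  have hcjP : cj (c * (List.ofFn x).prod) (Q : Set G) ⊆ ((P : Subgroup G) : Set G) := by
    intro z hz
    have hz' : y⁻¹ * z * y ∈ ((P : Subgroup G) : Set G) := hcja ⟨z, hz, rfl⟩
    have h2 := (Subgroup.mem_normalizer_iff.1 hy _).1 hz'
    have e2 : y * (y⁻¹ * z * y) * y⁻¹ = z := by group
    rw [e2] at h2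
    exact h2
  have h2 : R (Q : Set G) (c * (List.ofFn x).prod * y) := hR.comp h1 (hR.norm hcjP hcja hyN)
  rw [e] at h2
  exact h2

/-- **Local-to-global principle.** -/
theorem wv_local_global {R : Set G → G → Prop} (hR : GoodRel P W R)
    (hW : Cfsg.IsConjugacyFunctor p W)
    (hWZ : ∀ H : Subgroup G, IsPGroup p ↥H →
      H ⊓ Subgroup.centralizer ((H : Subgroup G) : Set G) ≤ W H) :
    ∀ X : Set G, X ⊆ ((P : Subgroup G) : Set G) → ∀ a : G,
      cj a X ⊆ ((P : Subgroup G) : Set G) → R X a := by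
  intro X hX a ha
  have hcl : Subgroup.closure X ≤ (P : Subgroup G) := (Subgroup.closure_le _).2 hX
  have h2 : cj a ((Subgroup.closure X : Subgroup G) : Set G) ⊆ ((P : Subgroup G) : Set G) := by
    rw [← coe_cjg, cjg, MonoidHom.map_closure]
    apply SetLike.coe_subset_coe.2
    rw [Subgroup.closure_le]
    rintro _ ⟨x, hx, rfl⟩
    apply ha
    refine ⟨x, hx, ?_⟩
    show a⁻¹ * x * a = a⁻¹ * x * a⁻¹⁻¹
    rw [inv_inv]
  exact hR.mono Subgroup.subset_closure (wv_main P W hR hW hWZ _ _ hcl rfl a h2)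

end Fin

end Cfsg.Agent.Helper31
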