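import Cfsg.Agent.S1952
import Cfsg.Agent.Helper31.TransferTrans

/-!
# The wreath-product obstruction for the transfer (helper31)

`transfer_eq_one_of_no_wreath`: in a finite `p`-group `G` with no quotient `Z_p ≀ Z_p`, the transfer of a
homomorphism `ζ : H →* A` (`A` of exponent `p`) is trivial on every normal subgroup of index `p`
containing `H`.
-/

set_option autoImplicit false

namespace Cfsg.Agent.Helper31

section YW

variable {G : Type*} [Group G] {A : Type*} [CommGroup A]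

theorem trPsi_list_prod {H : Subgroup G} (ϕ : H →* A) (l : List G) (hl : ∀ y ∈ l, y ∈ H) :
    trPsi ϕ l.prod = (l.map (trPsi ϕ)).prod := by
  induction l with
  | nil =>
    rw [List.prod_nil, List.map_nil, List.prod_nil, trPsi_mk ϕ H.one_mem]
    exact map_one ϕ
  | cons a l ih =>
    have ha : a ∈ H := hl a List.mem_cons_self
    have hl' : ∀ y ∈ l, y ∈ H := fun y hy => hl y (List.mem_cons_of_mem _ hy)
    have hp : l.prod ∈ H := Subgroup.list_prod_mem _ hl'
    rw [List.prod_cons, List.map_cons, List.prod_cons, ← ih hl', trPsi_mk ϕ (H.mul_mem ha hp),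
      trPsi_mk ϕ ha, trPsi_mk ϕ hp, ← map_mul]
    rfl

theorem list_range_map_prod (f : ℕ → A) (n : ℕ) :
    ((List.range n).map f).prod = ∏ i ∈ Finset.range n, f i := by
  induction n with
  | zero => simp
  | succ n ih =>
    rw [List.range_succ, List.map_append, List.prod_append, ih, Finset.prod_range_succ]
    simp

/-- Transfer into a normal subgroup of prime index, evaluated on the subgroup. -/
theorem transfer_index_prime [Finite G] {p : ℕ} [Fact p.Prime] {M : Subgroup G} [hMn : M.Normal]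
    (hM : M.index = p) (κ : M →* A) {x : G} (hx : x ∉ M) {w : G} (hw : w ∈ M) :
    MonoidHom.transfer κ w = ∏ i ∈ Finset.range p, trPsi κ ((x ^ i)⁻¹ * w * x ^ i) := by
  classical
  have hp : p.Prime := Fact.out
  have : Fintype (G ⧸ M) := Fintype.ofFinite _
  have hx1 : ((x : G) : G ⧸ M) ≠ 1 := fun h => hx ((QuotientGroup.eq_one_iff x).1 h)
  have hxp : ((x : G) : G ⧸ M) ^ p = 1 := by
    have h1 : x ^ p ∈ M := hM ▸ Subgroup.pow_index_mem M x
    have h2 : (((x ^ p : G)) : G ⧸ M) = 1 := (QuotientGroup.eq_one_iff _).2 h1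
    exact h2
  have hord : orderOf ((x : G) : G ⧸ M) = p := orderOf_eq_prime hxp hx1
  let e : Fin p → G ⧸ M := fun i => ((x ^ (i : ℕ) : G) : G ⧸ M)
  have he_inj : Function.Injective e := by
    intro i j hij
    have h1 : ((x : G) : G ⧸ M) ^ (i : ℕ) = ((x : G) : G ⧸ M) ^ (j : ℕ) := hij
    have h2 := pow_injOn_Iio_orderOf (x := ((x : G) : G ⧸ M))
      (by rw [hord]; exact i.2) (by rw [hord]; exact j.2) h1
    exact Fin.ext h2
  have hcard : Fintype.card (Fin p) = Fintype.card (G ⧸ M) := by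
    rw [Fintype.card_fin, ← Nat.card_eq_fintype_card]
    exact hM.symm
  let E : Fin p ≃ G ⧸ M :=
    Equiv.ofBijective e ((Fintype.bijective_iff_injective_and_card e).2 ⟨he_inj, hcard⟩)
  let r : G ⧸ M → G := fun q => x ^ ((E.symm q : Fin p) : ℕ)
  have hr : ∀ q, ((r q : G) : G ⧸ M) = q := fun q => E.apply_symm_apply q
  have hfix : ∀ q : G ⧸ M, w⁻¹ • q = q := by
    intro q
    induction q using QuotientGroup.induction_on with
    | H g =>
      show ((w⁻¹ * g : G) : G ⧸ M) = (g : G ⧸ M)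
      rw [QuotientGroup.eq]
      have h1 : (w⁻¹ * g)⁻¹ * g = g⁻¹ * w * g⁻¹⁻¹ := by group
      rw [h1]
      exact hMn.conj_mem w hw g⁻¹
  rw [transfer_eq_prod_trPsi κ r hr w]
  have h3 : ∀ q : G ⧸ M, trPsi κ ((r q)⁻¹ * (w * r (w⁻¹ • q))) =
      (fun i : Fin p => trPsi κ ((x ^ (i : ℕ))⁻¹ * w * x ^ (i : ℕ))) (E.symm q) := by
    intro q
    rw [hfix q]
    show trPsi κ ((x ^ ((E.symm q : Fin p) : ℕ))⁻¹ * (w * x ^ ((E.symm q : Fin p) : ℕ))) =
      trPsi κ ((x ^ ((E.symm q : Fin p) : ℕ))⁻¹ * w * x ^ ((E.symm q : Fin p) : ℕ))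
    rw [← mul_assoc]
  rw [Finset.prod_congr rfl (fun q _ => h3 q),
    Equiv.prod_comp E.symm (fun i : Fin p => trPsi κ ((x ^ (i : ℕ))⁻¹ * w * x ^ (i : ℕ)))]
  exact Fin.prod_univ_eq_prod_range (fun i => trPsi κ ((x ^ i)⁻¹ * w * x ^ i)) p

/-- **The wreath obstruction.** In a finite `p`-group without quotient `Z_p ≀ Z_p`, transfers of
homomorphisms of exponent `p` vanish on the maximal subgroups containing the source. -/
theorem transfer_eq_one_of_no_wreath [Finite G] {p : ℕ} [Fact p.Prime] (hG : IsPGroup p G)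
    (hA : ∀ a : A, a ^ p = 1)
    (hW : ¬ ∃ (Q : Sylow p (Equiv.Perm (Fin (p ^ 2))))
      (f : G →* ↥(Q : Subgroup (Equiv.Perm (Fin (p ^ 2))))), Function.Surjective f)
    {H M : Subgroup G} [hMn : M.Normal] (hM : M.index = p) (hHM : H ≤ M) (ζ : H →* A) {w : G}
    (hw : w ∈ M) : MonoidHom.transfer ζ w = 1 := by
  classical
  have hp : p.Prime := Fact.out
  by_contra hne
  apply hW
  obtain ⟨x, hx⟩ : ∃ x : G, x ∉ M := by
    by_contra hcon
    have hcon' : ∀ x : G, x ∈ M := fun x => by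
      by_contra hx
      exact hcon ⟨x, hx⟩
    have h1 : M = ⊤ := (Subgroup.eq_top_iff' M).2 hcon'
    rw [h1, Subgroup.index_top] at hM
    exact hp.one_lt.ne hM
  let κ : ↥M →* A := MonoidHom.transfer (ζ.comp (Subgroup.subgroupOfEquivOfLe hHM).toMonoidHom)
  have h1 : MonoidHom.transfer ζ w = ∏ i ∈ Finset.range p, trPsi κ ((x ^ i)⁻¹ * w * x ^ i) := by
    rw [transfer_transfer hHM ζ w]
    exact transfer_index_prime hM κ hx hw
  have hconj : ∀ i : ℕ, (x ^ i)⁻¹ * w * x ^ i ∈ M := fun i => by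
    have h := hMn.conj_mem w hw (x ^ i)⁻¹
    rwa [inv_inv] at h
  let L : List G := (List.range p).map (fun i => (x ^ i)⁻¹ * w * x ^ i)
  have hLmem : ∀ y ∈ L, y ∈ M := by
    intro y hy
    obtain ⟨i, -, rfl⟩ := List.mem_map.1 hy
    exact hconj i
  have hLM : L.prod ∈ M := Subgroup.list_prod_mem _ hLmem
  have h2 : κ ⟨L.prod, hLM⟩ = ∏ i ∈ Finset.range p, trPsi κ ((x ^ i)⁻¹ * w * x ^ i) := by
    rw [← trPsi_mk κ hLM, trPsi_list_prod κ L hLmem, List.map_map]
    exact list_range_map_prod (fun i => trPsi κ ((x ^ i)⁻¹ * w * x ^ i)) p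
  -- the normal core of the kernel
  let K0 : Subgroup G := (κ.ker.map M.subtype).normalCore
  have hK0M : K0 ≤ M := (Subgroup.normalCore_le _).trans (Subgroup.map_subtype_le _)
  have hK0mem : ∀ m : G, (∀ g : G, ∃ h : g * m * g⁻¹ ∈ M, κ ⟨g * m * g⁻¹, h⟩ = 1) → m ∈ K0 := by
    intro m hm g
    obtain ⟨h, h'⟩ := hm g
    exact ⟨⟨g * m * g⁻¹, h⟩, h', rfl⟩
  have hK0ker : ∀ m (hm : m ∈ M), m ∈ K0 → κ ⟨m, hm⟩ = 1 := by
    intro m hm hmK
    obtain ⟨y, hy, hy'⟩ := Subgroup.normalCore_le _ hmK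
    have h3 : y = ⟨m, hm⟩ := Subtype.ext hy'
    rw [← h3]
    exact hy
  have hcommK : ∀ a ∈ M, ∀ b ∈ M, (a * b)⁻¹ * (b * a) ∈ K0 := by
    intro a ha b hb
    apply hK0mem
    intro g
    have ha' : g * a * g⁻¹ ∈ M := hMn.conj_mem a ha g
    have hb' : g * b * g⁻¹ ∈ M := hMn.conj_mem b hb g
    have e : g * ((a * b)⁻¹ * (b * a)) * g⁻¹ =
        ((g * a * g⁻¹) * (g * b * g⁻¹))⁻¹ * ((g * b * g⁻¹) * (g * a * g⁻¹)) := by group
    have hmem : g * ((a * b)⁻¹ * (b * a)) * g⁻¹ ∈ M := by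
      rw [e]
      exact M.mul_mem (M.inv_mem (M.mul_mem ha' hb')) (M.mul_mem hb' ha')
    refine ⟨hmem, ?_⟩
    have h3 : (⟨g * ((a * b)⁻¹ * (b * a)) * g⁻¹, hmem⟩ : M) =
        ((⟨_, ha'⟩ : M) * ⟨_, hb'⟩)⁻¹ * ((⟨_, hb'⟩ : M) * ⟨_, ha'⟩) := Subtype.ext e
    rw [h3, map_mul, map_inv, map_mul, map_mul, mul_comm (κ ⟨_, ha'⟩) (κ ⟨_, hb'⟩),
      inv_mul_cancel]
  have hpowK : ∀ a ∈ M, a ^ p ∈ K0 := by
    intro a ha
    apply hK0mem
    intro g
    have ha' : g * a * g⁻¹ ∈ M := hMn.conj_mem a ha g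
    have e : g * a ^ p * g⁻¹ = (g * a * g⁻¹) ^ p := by
      rw [conj_pow]
    have hmem : g * a ^ p * g⁻¹ ∈ M := by
      rw [e]
      exact M.pow_mem ha' p
    refine ⟨hmem, ?_⟩
    have h3 : (⟨g * a ^ p * g⁻¹, hmem⟩ : M) = (⟨_, ha'⟩ : M) ^ p := Subtype.ext e
    rw [h3, map_pow]
    exact hA _
  -- the quotient
  let π : G →* G ⧸ K0 := QuotientGroup.mk' K0
  have hπs : Function.Surjective π := QuotientGroup.mk'_surjective K0
  let Abar : Subgroup (G ⧸ K0) := M.map π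
  have hAn : Abar.Normal := hMn.map π hπs
  have hidx : Abar.index = p := by
    have h3 : π.ker ≤ M := by
      rw [QuotientGroup.ker_mk']
      exact hK0M
    rw [Subgroup.index_map_eq M hπs h3]
    exact hM
  have hEA : Cfsg.IsElementaryAbelian p Abar := by
    refine ⟨⟨⟨?_⟩⟩, ?_⟩
    · rintro ⟨_, a, ha, rfl⟩ ⟨_, b, hb, rfl⟩
      apply Subtype.ext
      show π a * π b = π b * π a
      rw [← map_mul, ← map_mul]
      exact QuotientGroup.eq.2 (hcommK a ha b hb)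
    · rintro _ ⟨a, ha, rfl⟩
      rw [← map_pow]
      exact (QuotientGroup.eq_one_iff _).2 (hpowK a ha)
  have hPq : IsPGroup p (G ⧸ K0) := hG.to_quotient K0
  have hxA : π w ∈ Abar := ⟨w, hw, rfl⟩
  have hyA : π x ∉ Abar := by
    rintro ⟨m, hm, hmx⟩
    have h3 : m⁻¹ * x ∈ K0 := QuotientGroup.eq.1 hmx
    have h4 : x = m * (m⁻¹ * x) := by group
    apply hx
    rw [h4]
    exact M.mul_mem hm (hK0M h3)
  have hprod : ((List.range p).map (fun i => (π x ^ i)⁻¹ * π w * π x ^ i)).prod ≠ 1 := by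
    intro h3
    have h4 : ((List.range p).map (fun i => (π x ^ i)⁻¹ * π w * π x ^ i)).prod = π L.prod := by
      rw [map_list_prod, List.map_map]
      congr 1
    rw [h4] at h3
    have h5 : L.prod ∈ K0 := (QuotientGroup.eq_one_iff _).1 h3
    apply hne
    rw [h1, ← h2]
    exact hK0ker _ hLM h5
  obtain ⟨Q, f, hf⟩ := Cfsg.Agent.S1952.result hPq Abar hEA hidx (π w) (π x) hxA hyA hprod
  exact ⟨Q, f.comp π, hf.comp hπs⟩

end YW

end Cfsg.Agent.Helper31
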