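import Cfsg.Agent.Helper86.FocalTransfer
import Cfsg.Agent.Helper19.TransferOrbit
import Cfsg.Agent.Helper31.YoshidaWreath

/-!
# Yoshida's transfer theorem for saturated fusion systems: the stability step (helper31)

`yoshida_stable`: let `F` be a saturated fusion system over a finite `p`-group `S` which has no quotient
`Z_p ≀ Z_p`, and let `lam : S →* A` be a homomorphism to a finite commutative group of exponent `p` which is
invariant under the maps of `F` with source `S`. Then `lam` is `F`-stable.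

The proof evaluates the stable transfer of `lam` along a characteristic biset (helper86) by induction on
the order of the element: orbits of length `> 1` contribute trivially by induction, and the remaining
terms vanish by the wreath obstruction `transfer_eq_one_of_no_wreath`.
-/

set_option autoImplicit false

namespace Cfsg.Agent.Helper31

open Cfsg Cfsg.FusionSystem Cfsg.Agent.Helper86 MulAction

universe u

variable {Ω : Type u} [Group Ω] {S : Subgroup Ω}

theorem yoshida_stable [Finite S] {p : ℕ} [Fact p.Prime] (hS : IsPGroup p S) (F : FusionSystem S)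
    (hF : F.IsSaturated p)
    (hW : ¬ ∃ (Q : Sylow p (Equiv.Perm (Fin (p ^ 2))))
      (f : ↥S →* ↥(Q : Subgroup (Equiv.Perm (Fin (p ^ 2))))), Function.Surjective f)
    {A : Type*} [CommGroup A] [Finite A] (hA : ∀ a : A, a ^ p = 1) (lam : ↥S →* A)
    (hinv : ∀ (P : Subgroup Ω) (φ : P →* Ω) (hφ : φ ∈ F.Hom P), S ≤ P → ∀ y : P,
      lam ⟨φ y, Helper87.hom_mem F hφ y⟩ = lam ⟨y, Helper87.hom_le F hφ y.2⟩)
    (P : Subgroup Ω) (φ : P →* Ω) (hφ : φ ∈ F.Hom P) (y : P) :
    lam ⟨φ y, Helper87.hom_mem F hφ y⟩ = lam ⟨y, Helper87.hom_le F hφ y.2⟩ := by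
  classical
  have hp : p.Prime := Fact.out
  obtain ⟨mult, hsupp, hinvm, hpm⟩ := exists_biset hS F hF
  have hfinι : Fintype {K : Subgroup (↥S × ↥S) // IsGraph F K} := Fintype.ofFinite _
  have hex : ∀ i : {K : Subgroup (↥S × ↥S) // IsGraph F K},
      ∃ (P : Subgroup Ω) (φ : P →* Ω), φ ∈ F.Hom P ∧ i.1 = graph S P φ := fun i => i.2
  choose Pc φc hφc hKc using hex
  have hgr : ∀ i : {K : Subgroup (↥S × ↥S) // IsGraph F K},
      gr ((Pc i).subgroupOf S) (restrHom S (φc i) (Helper87.hom_mem F (hφc i))) = i.1 :=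
    fun i => (gr_restrHom S (φc i) _).trans (hKc i).symm
  have hzero : ∀ K : Subgroup (↥S × ↥S), ¬ IsGraph F K → mult K = 0 := by
    intro K hK
    by_contra h
    exact hK (hsupp K h)
  have hcnt : ∀ D : Subgroup (↥S × ↥S),
      ∑ i : {K : Subgroup (↥S × ↥S) // IsGraph F K}, mult i.1 * Nat.card (fixedPoints D
        ((↥S × ↥S) ⧸ gr ((Pc i).subgroupOf S)
          (restrHom S (φc i) (Helper87.hom_mem F (hφc i))))) =
      cnt mult D := by
    intro D
    have h1 : ∀ i : {K : Subgroup (↥S × ↥S) // IsGraph F K}, mult i.1 * Nat.card (fixedPoints D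
        ((↥S × ↥S) ⧸ gr ((Pc i).subgroupOf S)
          (restrHom S (φc i) (Helper87.hom_mem F (hφc i))))) =
        mult i.1 * Nat.card (fixedPoints D ((↥S × ↥S) ⧸ i.1)) := by
      intro i
      rw [hgr i]
    rw [Finset.sum_congr rfl (fun i _ => h1 i)]
    exact sum_subtype_isGraph F (fun K => mult K * Nat.card (fixedPoints D ((↥S × ↥S) ⧸ K)))
      (fun K hK => by rw [hzero K hK, zero_mul])
  have hm : ∑ i : {K : Subgroup (↥S × ↥S) // IsGraph F K}, mult i.1 * ((Pc i).subgroupOf S).index =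
      ∑ᶠ K : Subgroup (↥S × ↥S), mult K * (Nat.card S / Nat.card K) := by
    have h1 : ∀ i : {K : Subgroup (↥S × ↥S) // IsGraph F K},
        ((Pc i).subgroupOf S).index = Nat.card S / Nat.card i.1 := by
      intro i
      have hP : Pc i ≤ S := Helper87.hom_le F (hφc i)
      have h2 := Subgroup.card_mul_index ((Pc i).subgroupOf S)
      rw [Nat.card_congr (Subgroup.subgroupOfEquivOfLe hP).toEquiv] at h2
      have h3 : Nat.card i.1 = Nat.card (Pc i) := by
        have h4 := card_graph hP (Helper87.hom_mem F (hφc i))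
        rw [← hKc i] at h4
        exact h4
      rw [h3]
      have hfinP : Finite (Pc i) := Helper87.finite_of_le hP
      exact (Nat.div_eq_of_eq_mul_right Nat.card_pos h2.symm).symm
    rw [Finset.sum_congr rfl (fun i _ => by rw [h1 i])]
    exact sum_subtype_isGraph F (fun K => mult K * (Nat.card S / Nat.card K))
      (fun K hK => by rw [hzero K hK, zero_mul])
  have hpm' : ¬ p ∣ ∑ i : {K : Subgroup (↥S × ↥S) // IsGraph F K},
      mult i.1 * ((Pc i).subgroupOf S).index := by
    rw [hm]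
    exact hpm
  have hcop : Nat.Coprime (∑ i : {K : Subgroup (↥S × ↥S) // IsGraph F K},
      mult i.1 * ((Pc i).subgroupOf S).index) p :=
    (hp.coprime_iff_not_dvd.2 hpm').symm
  -- the homomorphisms `z i`
  obtain ⟨z, hz⟩ : ∃ z : ∀ i : {K : Subgroup (↥S × ↥S) // IsGraph F K}, ((Pc i).subgroupOf S) →* A,
      ∀ i (a : (Pc i).subgroupOf S), z i a =
        lam (restrHom S (φc i) (Helper87.hom_mem F (hφc i)) a) * (lam (a : ↥S))⁻¹ :=
    ⟨fun i => (lam.comp (restrHom S (φc i) (Helper87.hom_mem F (hφc i)))) /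
      (lam.comp ((Pc i).subgroupOf S).subtype), fun i a => by
        rw [MonoidHom.div_apply, div_eq_mul_inv]
        rfl⟩
  have hν2 : ∀ g t : ↥S, lam (g * t * g⁻¹) = lam t := by
    intro g t
    rw [map_mul, map_mul, map_inv, mul_comm (lam g), mul_assoc, mul_inv_cancel, mul_one]
  have hstab : ∀ (P : Subgroup Ω) (φ : P →* Ω) (hφ : φ ∈ F.Hom P) (y : P),
      lam ⟨y, Helper87.hom_le F hφ y.2⟩ ^ (∑ i : {K : Subgroup (↥S × ↥S) // IsGraph F K},
          mult i.1 * ((Pc i).subgroupOf S).index) *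
        ∏ i : {K : Subgroup (↥S × ↥S) // IsGraph F K},
          (MonoidHom.transfer (z i) (⟨y, Helper87.hom_le F hφ y.2⟩ : ↥S)) ^ mult i.1 =
      lam ⟨φ y, Helper87.hom_mem F hφ y⟩ ^ (∑ i : {K : Subgroup (↥S × ↥S) // IsGraph F K},
          mult i.1 * ((Pc i).subgroupOf S).index) *
        ∏ i : {K : Subgroup (↥S × ↥S) // IsGraph F K},
          (MonoidHom.transfer (z i) (⟨φ y, Helper87.hom_mem F hφ y⟩ : ↥S)) ^ mult i.1 := by
    intro P φ hφ y
    have hP : P ≤ S := Helper87.hom_le F hφ
    refine stable_transfer_gen hS (⊤ : Subgroup ↥S) (fun w => lam w)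
      (fun t t' _ _ => map_mul lam t t') hν2
      (fun i : {K : Subgroup (↥S × ↥S) // IsGraph F K} => (Pc i).subgroupOf S)
      (fun i => restrHom S (φc i) (Helper87.hom_mem F (hφc i))) z
      (fun i => mult i.1) (fun _ _ _ => Subgroup.mem_top _) (fun i a _ => hz i a)
      ⟨y, hP y.2⟩ ⟨φ y, Helper87.hom_mem F hφ y⟩ (Subgroup.mem_top _) (Subgroup.mem_top _) ?_
    intro k g
    have h3 := hcnt (Subgroup.zpowers (((⟨y, hP y.2⟩ : ↥S) ^ k, g) : ↥S × ↥S))
    have h4 := hcnt (Subgroup.zpowers (((⟨φ y, Helper87.hom_mem F hφ y⟩ : ↥S) ^ k, g) : ↥S × ↥S))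
    refine h3.trans (Eq.trans ?_ h4.symm)
    have key : ∀ (n : ℤ) (h1 : ((((((⟨y, hP y.2⟩ : ↥S) ^ k, g) : ↥S × ↥S) ^ n).1 : ↥S) : Ω) ∈ P),
        φ ⟨_, h1⟩ =
          ((((((⟨φ y, Helper87.hom_mem F hφ y⟩ : ↥S) ^ k, g) : ↥S × ↥S) ^ n).1 : ↥S) : Ω) := by
      intro n h1
      have h5 : (⟨_, h1⟩ : P) = (y ^ k) ^ n := by
        apply Subtype.ext
        simp
      rw [h5, map_zpow, map_pow]
      simp
    refine cnt_eq_of_maps F mult hsupp 0 hinvm hφ (Helper87.subtype_mem F (le_refl S)) ?_ ?_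
      Nat.card_pos
    · intro x hx
      obtain ⟨n, rfl⟩ := Subgroup.mem_zpowers_iff.1 hx
      refine ⟨?_, Subtype.property _⟩
      have h6 : ((((((⟨y, hP y.2⟩ : ↥S) ^ k, g) : ↥S × ↥S) ^ n).1 : ↥S) : Ω) = ((y : Ω) ^ k) ^ n := by
        simp
      rw [h6]
      exact P.zpow_mem (P.pow_mem y.2 k) n
    · intro x'
      constructor
      · intro hx'
        obtain ⟨n, rfl⟩ := Subgroup.mem_zpowers_iff.1 hx'
        have h6 : ((((((⟨y, hP y.2⟩ : ↥S) ^ k, g) : ↥S × ↥S) ^ n).1 : ↥S) : Ω) ∈ P := by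
          have h7 : ((((((⟨y, hP y.2⟩ : ↥S) ^ k, g) : ↥S × ↥S) ^ n).1 : ↥S) : Ω) =
              ((y : Ω) ^ k) ^ n := by simp
          rw [h7]
          exact P.zpow_mem (P.pow_mem y.2 k) n
        exact ⟨_, Subgroup.zpow_mem _ (Subgroup.mem_zpowers _) n, h6, Subtype.property _,
          (key n h6).symm, rfl⟩
      · rintro ⟨x, hx, h1, h2, e1, e2⟩
        obtain ⟨n, rfl⟩ := Subgroup.mem_zpowers_iff.1 hx
        have h8 : x' = (((⟨φ y, Helper87.hom_mem F hφ y⟩ : ↥S) ^ k, g) : ↥S × ↥S) ^ n := by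
          apply Prod.ext
          · exact Subtype.ext (e1.trans (key n h1))
          · exact Subtype.ext e2
        rw [h8]
        exact Subgroup.zpow_mem _ (Subgroup.mem_zpowers _) n
  -- evaluation of the transfers, given stability below the order of `w`
  have hΨ : ∀ (n : ℕ), (∀ (P : Subgroup Ω) (φ : P →* Ω) (hφ : φ ∈ F.Hom P) (y : P),
      orderOf (y : Ω) < n →
        lam ⟨φ y, Helper87.hom_mem F hφ y⟩ = lam ⟨y, Helper87.hom_le F hφ y.2⟩) →
      ∀ w : ↥S, orderOf w = n → ∀ i : {K : Subgroup (↥S × ↥S) // IsGraph F K},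
        MonoidHom.transfer (z i) w = 1 := by
    intro n IH w hw i
    have hfinq := Fintype.ofFinite (Quotient (orbitRel (Subgroup.zpowers w)
      (↥S ⧸ (Pc i).subgroupOf S)))
    by_cases htop : (Pc i).subgroupOf S = ⊤
    · have hSP : S ≤ Pc i := by
        intro s hs
        have h1 : (⟨s, hs⟩ : ↥S) ∈ (Pc i).subgroupOf S := htop ▸ Subgroup.mem_top _
        exact Subgroup.mem_subgroupOf.1 h1
      have hz1 : ∀ a : (Pc i).subgroupOf S, z i a = 1 := by
        intro a
        rw [hz i a]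
        have h1 := hinv (Pc i) (φc i) (hφc i) hSP ⟨(a : ↥S), Subgroup.mem_subgroupOf.1 a.2⟩
        have h2 : lam (restrHom S (φc i) (Helper87.hom_mem F (hφc i)) a) = lam (a : ↥S) := h1
        rw [h2, mul_inv_cancel]
      rw [MonoidHom.transfer_eq_prod_quotient_orbitRel_zpowers_quot]
      exact Finset.prod_eq_one (fun q _ => hz1 _)
    · obtain ⟨M, hHM, hMn, hMidx⟩ := Helper19.exists_normal_index_p_of_ne_top hS htop
      by_cases hwM : w ∈ M
      · exact transfer_eq_one_of_no_wreath hS hA hW hMidx hHM (z i) hwM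
      · rw [MonoidHom.transfer_eq_prod_quotient_orbitRel_zpowers_quot]
        refine Finset.prod_eq_one (fun q _ => ?_)
        have hkd : Function.minimalPeriod (w • ·) q.out ∣ orderOf w :=
          (MulAction.pow_smul_eq_iff_minimalPeriod_dvd).1 (by rw [pow_orderOf_eq_one, one_smul])
        have hk1 : Function.minimalPeriod (w • ·) q.out ≠ 1 := by
          intro h1
          have h2 : w ^ 1 • q.out = q.out :=
            (MulAction.pow_smul_eq_iff_minimalPeriod_dvd).2 (by rw [h1])
          rw [pow_one] at h2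
          have h3 : ((w * q.out.out : ↥S) : ↥S ⧸ (Pc i).subgroupOf S) =
              ((q.out.out : ↥S) : ↥S ⧸ (Pc i).subgroupOf S) := by
            have h4 : ((q.out.out : ↥S) : ↥S ⧸ (Pc i).subgroupOf S) = q.out := Quotient.out_eq' _
            rw [h4]
            have h5 : ((w * q.out.out : ↥S) : ↥S ⧸ (Pc i).subgroupOf S) =
                w • ((q.out.out : ↥S) : ↥S ⧸ (Pc i).subgroupOf S) := rfl
            rw [h5, h4, h2]
          have h6 := hHM (QuotientGroup.eq.1 h3)
          apply hwM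
          have h7 : w = q.out.out * ((w * q.out.out)⁻¹ * q.out.out)⁻¹ * q.out.out⁻¹ := by group
          rw [h7]
          exact hMn.conj_mem _ (M.inv_mem h6) _
        have hpos : 0 < orderOf w := orderOf_pos w
        have hk0 : Function.minimalPeriod (w • ·) q.out ≠ 0 := by
          intro h0
          rw [h0] at hkd
          exact hpos.ne' (Nat.eq_zero_of_zero_dvd hkd)
        have hk2 : 1 < Function.minimalPeriod (w • ·) q.out := by omega
        rw [hz i]
        have hv := QuotientGroup.out_conj_pow_minimalPeriod_mem ((Pc i).subgroupOf S) w q.out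
        have hord : orderOf (((q.out.out⁻¹ * w ^ Function.minimalPeriod (w • ·) q.out *
            q.out.out : ↥S) : Ω)) < n := by
          rw [Subgroup.orderOf_coe]
          have h1 : q.out.out⁻¹ * w ^ Function.minimalPeriod (w • ·) q.out * q.out.out =
              MulAut.conj (q.out.out⁻¹) (w ^ Function.minimalPeriod (w • ·) q.out) := by
            rw [MulAut.conj_apply, inv_inv]
          rw [h1, MulEquiv.orderOf_eq, orderOf_pow, Nat.gcd_eq_right hkd, hw]
          exact Nat.div_lt_self (hw ▸ hpos) hk2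
        have h1 := IH (Pc i) (φc i) (hφc i)
          ⟨((⟨q.out.out⁻¹ * w ^ Function.minimalPeriod (w • ·) q.out * q.out.out, hv⟩ :
            (Pc i).subgroupOf S) : ↥S), Subgroup.mem_subgroupOf.1 hv⟩ hord
        have h2 : lam (restrHom S (φc i) (Helper87.hom_mem F (hφc i))
            ⟨q.out.out⁻¹ * w ^ Function.minimalPeriod (w • ·) q.out * q.out.out, hv⟩) =
            lam (q.out.out⁻¹ * w ^ Function.minimalPeriod (w • ·) q.out * q.out.out) := h1
        rw [h2, mul_inv_cancel]
  -- the induction on the order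
  have hmain : ∀ n : ℕ, ∀ (P : Subgroup Ω) (φ : P →* Ω) (hφ : φ ∈ F.Hom P) (y : P),
      orderOf (y : Ω) < n →
        lam ⟨φ y, Helper87.hom_mem F hφ y⟩ = lam ⟨y, Helper87.hom_le F hφ y.2⟩ := by
    intro n
    induction n with
    | zero =>
      intro P φ hφ y h
      exact absurd h (Nat.not_lt_zero _)
    | succ n IH =>
      intro P φ hφ y hy
      by_cases hlt : orderOf (y : Ω) < n
      · exact IH P φ hφ y hlt
      · have hn : orderOf (y : Ω) = n := by omega
        have e1 := hstab P φ hφ y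
        have ho1 : orderOf (⟨y, Helper87.hom_le F hφ y.2⟩ : ↥S) = n := by
          rw [← Subgroup.orderOf_coe]
          exact hn
        have ho2 : orderOf (⟨φ y, Helper87.hom_mem F hφ y⟩ : ↥S) = n := by
          rw [← Subgroup.orderOf_coe]
          show orderOf (φ y) = n
          rw [orderOf_injective φ (F.injective_of_mem hφ) y, ← hn, Subgroup.orderOf_coe]
        rw [Finset.prod_eq_one (fun i _ => by rw [hΨ n IH _ ho1 i, one_pow]),
          Finset.prod_eq_one (fun i _ => by rw [hΨ n IH _ ho2 i, one_pow]), mul_one, mul_one] at e1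
        have h1 : (lam ⟨φ y, Helper87.hom_mem F hφ y⟩ * (lam ⟨y, Helper87.hom_le F hφ y.2⟩)⁻¹) ^
            (∑ i : {K : Subgroup (↥S × ↥S) // IsGraph F K},
              mult i.1 * ((Pc i).subgroupOf S).index) = 1 := by
          rw [mul_pow, inv_pow, e1, mul_inv_cancel]
        have h2 : (lam ⟨φ y, Helper87.hom_mem F hφ y⟩ * (lam ⟨y, Helper87.hom_le F hφ y.2⟩)⁻¹) ^ p
            = 1 := hA _
        have h3 := orderOf_dvd_of_pow_eq_one h1
        have h4 := orderOf_dvd_of_pow_eq_one h2
        have h5 : orderOf (lam ⟨φ y, Helper87.hom_mem F hφ y⟩ *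
            (lam ⟨y, Helper87.hom_le F hφ y.2⟩)⁻¹) = 1 :=
          Nat.eq_one_of_dvd_coprimes hcop h3 h4
        exact mul_inv_eq_one.1 (orderOf_eq_one_iff.1 h5)
  exact hmain (orderOf (y : Ω) + 1) P φ hφ y (Nat.lt_succ_self _)

end Cfsg.Agent.Helper31
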